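import Cfsg.Agent.H630.Cross

/-!
# Transitivity of the relation `Cond {p, q}` (input of S4335)

`Tri X` : for three different odd primes `r, q₁, q₂` dividing `|X|`, `Cond {r, q₁} X` and `Cond {r, q₂} X` imply
`Cond {q₁, q₂} X`.  `CrossTri t X` : the same for primes different from `t`.

* `Tri.of_pairs`, `CrossTri.of_pairs` : no pair satisfies `Cond`;
* `CrossTri.of_torus` : it is enough to have an abelian subgroup of index prime to `q₁` and `q₂`;
* `CrossTri.congr`, `CrossTri.quot` (central quotients), `CrossTri.of_normal` (normal subgroups of `2`-power index);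
* `Tri.of_cross` : from the cross characteristic version.
-/

set_option autoImplicit false
open Cfsg
open scoped Pointwise

namespace Cfsg.Agent.H165.TriRow

open Cfsg.Agent.H630.NH

universe u v

/-- Transitivity of `Cond {p, q}` for odd primes different from `t`. -/
def CrossTri (t : ℕ) (X : Type u) [Group X] : Prop :=
  ∀ r q₁ q₂ : ℕ, r.Prime → q₁.Prime → q₂.Prime → r ≠ 2 → q₁ ≠ 2 → q₂ ≠ 2 → r ≠ t → q₁ ≠ t → q₂ ≠ t →
    r ≠ q₁ → r ≠ q₂ → q₁ ≠ q₂ → r ∣ Nat.card X → q₁ ∣ Nat.card X → q₂ ∣ Nat.card X →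
    Cond {r, q₁} X → Cond {r, q₂} X → Cond {q₁, q₂} X

/-- Transitivity of `Cond {p, q}` for odd primes. -/
def Tri (X : Type u) [Group X] : Prop :=
  ∀ r q₁ q₂ : ℕ, r.Prime → q₁.Prime → q₂.Prime → r ≠ 2 → q₁ ≠ 2 → q₂ ≠ 2 →
    r ≠ q₁ → r ≠ q₂ → q₁ ≠ q₂ → r ∣ Nat.card X → q₁ ∣ Nat.card X → q₂ ∣ Nat.card X →
    Cond {r, q₁} X → Cond {r, q₂} X → Cond {q₁, q₂} X

theorem pair_comm (p q : ℕ) : ({p, q} : Set ℕ) = {q, p} := Set.pair_comm p q

/-- An abelian subgroup of index prime to `p` and `q`. -/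
theorem cond_of_torus {X : Type u} [Group X] [Finite X] {p q : ℕ} (hp : p.Prime) (hq : q.Prime) (T : Subgroup X)
    (hT : IsMulCommutative T) (hip : ¬ p ∣ T.index) (hiq : ¬ q ∣ T.index) : Cond {p, q} X := by
  have main : ∀ a b : ℕ, a.Prime → b.Prime → ¬ a ∣ T.index → ¬ b ∣ T.index → ∀ x : X, (∃ k : ℕ, orderOf x = a ^ k) →
      ¬ b ∣ (Subgroup.centralizer ({x} : Set X)).index := by
    intro a b ha hb hia hib x hx hd
    haveI : Fact a.Prime := ⟨ha⟩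
    obtain ⟨k, hk⟩ := hx
    have hxp : IsPGroup a (Subgroup.zpowers x) := by
      rw [IsPGroup.iff_card]
      exact ⟨k, by rw [Nat.card_zpowers, hk]⟩
    obtain ⟨g, hg⟩ := exists_conj_le a (Subgroup.zpowers x) hxp T hia
    have h1 := hg x (Subgroup.mem_zpowers x)
    -- `T` centralizes `g x g⁻¹`
    have h2 : T ≤ Subgroup.centralizer ({g * x * g⁻¹} : Set X) := by
      intro y hy
      rw [Subgroup.mem_centralizer_singleton_iff]
      exact congrArg Subtype.val (hT.is_comm.comm ⟨y, hy⟩ ⟨g * x * g⁻¹, h1⟩)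
    have h3 : (Subgroup.centralizer ({g * x * g⁻¹} : Set X)).index = (Subgroup.centralizer ({x} : Set X)).index := by
      have h4 := centralizer_map_equiv (MulAut.conj g) x
      have h5 : (MulAut.conj g) x = g * x * g⁻¹ := rfl
      rw [h5] at h4
      rw [h4]
      exact Subgroup.index_map_equiv _ _
    rw [← h3] at hd
    exact hib (hd.trans (Subgroup.index_dvd_of_le h2))
  intro a ha b hb hab x hx
  rcases ha with rfl | rfl <;> rcases hb with rfl | rfl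
  · exact absurd rfl hab
  · exact main _ _ hp hq hip hiq x hx
  · exact main _ _ hq hp hiq hip x hx
  · exact absurd rfl hab

theorem CrossTri.of_torus {t : ℕ} {X : Type u} [Group X] [Finite X]
    (h : ∀ r q₁ q₂ : ℕ, r.Prime → q₁.Prime → q₂.Prime → r ≠ 2 → q₁ ≠ 2 → q₂ ≠ 2 → r ≠ t → q₁ ≠ t → q₂ ≠ t →
    r ≠ q₁ → r ≠ q₂ → q₁ ≠ q₂ → r ∣ Nat.card X → q₁ ∣ Nat.card X → q₂ ∣ Nat.card X →
    Cond {r, q₁} X → Cond {r, q₂} X → ∃ T : Subgroup X, IsMulCommutative T ∧ ¬ q₁ ∣ T.index ∧ ¬ q₂ ∣ T.index) :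
    CrossTri t X := by
  intro r q₁ q₂ hr h₁ h₂ a b c d e f g i j k l m hc₁ hc₂
  obtain ⟨T, hT, h3, h4⟩ := h r q₁ q₂ hr h₁ h₂ a b c d e f g i j k l m hc₁ hc₂
  exact cond_of_torus h₁ h₂ T hT h3 h4

theorem Tri.of_torus {X : Type u} [Group X] [Finite X]
    (h : ∀ r q₁ q₂ : ℕ, r.Prime → q₁.Prime → q₂.Prime → r ≠ 2 → q₁ ≠ 2 → q₂ ≠ 2 →
    r ≠ q₁ → r ≠ q₂ → q₁ ≠ q₂ → r ∣ Nat.card X → q₁ ∣ Nat.card X → q₂ ∣ Nat.card X →
    Cond {r, q₁} X → Cond {r, q₂} X → ∃ T : Subgroup X, IsMulCommutative T ∧ ¬ q₁ ∣ T.index ∧ ¬ q₂ ∣ T.index) :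
    Tri X := by
  intro r q₁ q₂ hr h₁ h₂ a b c g i j k l m hc₁ hc₂
  obtain ⟨T, hT, h3, h4⟩ := h r q₁ q₂ hr h₁ h₂ a b c g i j k l m hc₁ hc₂
  exact cond_of_torus h₁ h₂ T hT h3 h4

/-- All pairs are contradictory. -/
theorem CrossTri.of_pairs {t : ℕ} {X : Type u} [Group X]
    (h : ∀ p q : ℕ, p.Prime → q.Prime → p ≠ 2 → q ≠ 2 → p ≠ t → q ≠ t → p < q → p ∣ Nat.card X → q ∣ Nat.card X →
      ¬ Cond {p, q} X) : CrossTri t X := by
  intro r q₁ q₂ hr h₁ h₂ a b c d e f g i j k l m hc₁ hc₂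
  exfalso
  rcases lt_trichotomy r q₁ with h1 | h1 | h1
  · exact h r q₁ hr h₁ a b d e h1 k l hc₁
  · exact g h1
  · exact h q₁ r h₁ hr b a e d h1 l k (by rwa [pair_comm q₁ r])

theorem Tri.of_pairs {X : Type u} [Group X]
    (h : ∀ p q : ℕ, p.Prime → q.Prime → p ≠ 2 → q ≠ 2 → p < q → p ∣ Nat.card X → q ∣ Nat.card X →
      ¬ Cond {p, q} X) : Tri X := by
  intro r q₁ q₂ hr h₁ h₂ a b c g i j k l m hc₁ hc₂
  exfalso
  rcases lt_trichotomy r q₁ with h1 | h1 | h1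
  · exact h r q₁ hr h₁ a b h1 k l hc₁
  · exact g h1
  · exact h q₁ r h₁ hr b a h1 l k (by rwa [pair_comm q₁ r])

/-- It is enough to exclude paths of length two. -/
theorem Tri.of_paths {X : Type u} [Group X]
    (h : ∀ r q₁ q₂ : ℕ, r.Prime → q₁.Prime → q₂.Prime → r ≠ 2 → q₁ ≠ 2 → q₂ ≠ 2 → r ≠ q₁ → r ≠ q₂ → q₁ < q₂ →
      r ∣ Nat.card X → q₁ ∣ Nat.card X → q₂ ∣ Nat.card X → Cond {r, q₁} X → ¬ Cond {r, q₂} X) : Tri X := by
  intro r q₁ q₂ hr h₁ h₂ a b c g i j k l m hc₁ hc₂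
  exfalso
  rcases lt_or_gt_of_ne j with h1 | h1
  · exact h r q₁ q₂ hr h₁ h₂ a b c g i h1 k l m hc₁ hc₂
  · exact h r q₂ q₁ hr h₂ h₁ a c b i g h1 k m l hc₂ hc₁

theorem CrossTri.congr {t : ℕ} {X : Type u} {Y : Type v} [Group X] [Group Y] (e : X ≃* Y) (h : CrossTri t X) :
    CrossTri t Y := by
  intro r q₁ q₂ hr h₁ h₂ a b c d e' f g i j k l m hc₁ hc₂
  rw [← Nat.card_congr e.toEquiv] at k l m
  exact (h r q₁ q₂ hr h₁ h₂ a b c d e' f g i j k l m (hc₁.congr e.symm) (hc₂.congr e.symm)).congr e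

theorem Tri.congr {X : Type u} {Y : Type v} [Group X] [Group Y] (e : X ≃* Y) (h : Tri X) : Tri Y := by
  intro r q₁ q₂ hr h₁ h₂ a b c g i j k l m hc₁ hc₂
  rw [← Nat.card_congr e.toEquiv] at k l m
  exact (h r q₁ q₂ hr h₁ h₂ a b c g i j k l m (hc₁.congr e.symm) (hc₂.congr e.symm)).congr e

theorem primes_pair {p q : ℕ} (hp : p.Prime) (hq : q.Prime) : ∀ s ∈ ({p, q} : Set ℕ), s.Prime := by
  rintro s (rfl | rfl)
  · exact hp
  · exact hq

/-- Central quotients. -/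
theorem CrossTri.quot {t : ℕ} {G : Type u} {H : Type v} [Group G] [Finite G] [Group H]
    (f : G →* H) (hf : Function.Surjective f) (hk : f.ker ≤ Subgroup.center G) (h : CrossTri t G) : CrossTri t H := by
  intro r q₁ q₂ hr h₁ h₂ a b c d e' f' g i j k l m hc₁ hc₂
  have hd : Nat.card H ∣ Nat.card G := Subgroup.card_dvd_of_surjective f hf
  have h3 := h r q₁ q₂ hr h₁ h₂ a b c d e' f' g i j (k.trans hd) (l.trans hd) (m.trans hd)
    (Cond.of_quot (primes_pair hr h₁) f hf hk hc₁) (Cond.of_quot (primes_pair hr h₂) f hf hk hc₂)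
  exact Cond.of_surjective (primes_pair h₁ h₂) h3 f hf

/-- Normal subgroups of `2`-power index. -/
theorem CrossTri.of_normal {t : ℕ} {G : Type u} [Group G] [Finite G] (N : Subgroup G) [N.Normal]
    (hN : ∃ k : ℕ, N.index = 2 ^ k) (h : CrossTri t G) : CrossTri t N := by
  intro r q₁ q₂ hr h₁ h₂ a b c d e' f' g i j k l m hc₁ hc₂
  have hd : Nat.card N ∣ Nat.card G := Subgroup.card_subgroup_dvd_card N
  have hpp : ∀ p q : ℕ, p.Prime → q.Prime → p ≠ 2 → q ≠ 2 → ∀ s ∈ ({p, q} : Set ℕ), s.Prime ∧ s ≠ 2 := by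
    rintro p q hp hq hp2 hq2 s (rfl | rfl)
    · exact ⟨hp, hp2⟩
    · exact ⟨hq, hq2⟩
  have h3 := h r q₁ q₂ hr h₁ h₂ a b c d e' f' g i j (k.trans hd) (l.trans hd) (m.trans hd)
    (Cond.of_normal (hpp _ _ hr h₁ a b) N hN hc₁) (Cond.of_normal (hpp _ _ hr h₂ a c) N hN hc₂)
  exact h3.normal N

/-- From the cross characteristic version. -/
theorem Tri.of_cross {t : ℕ} {X : Type u} [Group X] (h : CrossTri t X)
    (hu : ∀ q : ℕ, q.Prime → q ≠ t → q ∣ Nat.card X →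
      ∃ x : X, (∃ k : ℕ, orderOf x = t ^ k) ∧ q ∣ (Subgroup.centralizer ({x} : Set X)).index) : Tri X := by
  have key : ∀ q : ℕ, q.Prime → t ≠ q → q ∣ Nat.card X → ∀ s : Set ℕ, t ∈ s → q ∈ s → ¬ Cond s X := by
    intro q hq hqt hd s hts hqs hc
    obtain ⟨x, hx, hx2⟩ := hu q hq hqt.symm hd
    exact hc t hts q hqs hqt x hx hx2
  intro r q₁ q₂ hr h₁ h₂ a b c g i j k l m hc₁ hc₂
  by_cases hr' : r = t
  · subst hr'
    exact absurd hc₁ (key q₁ h₁ g l _ (by simp) (by simp))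
  by_cases h1' : q₁ = t
  · subst h1'
    exact absurd hc₁ (key r hr (fun h => g h.symm) k _ (by simp) (by simp))
  by_cases h2' : q₂ = t
  · subst h2'
    exact absurd hc₂ (key r hr (fun h => i h.symm) k _ (by simp) (by simp))
  exact h r q₁ q₂ hr h₁ h₂ a b c hr' h1' h2' g i j k l m hc₁ hc₂

/-- A group whose order has only two odd prime divisors. -/
theorem Tri.of_two {X : Type u} [Group X] (a b : ℕ) (h : ∀ p : ℕ, p.Prime → p ≠ 2 → p ∣ Nat.card X → p = a ∨ p = b) :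
    Tri X := by
  intro r q₁ q₂ hr h₁ h₂ e f g i j k l m n _ _
  exfalso
  rcases h r hr e l with h3 | h3 <;> rcases h q₁ h₁ f m with h4 | h4 <;> rcases h q₂ h₂ g n with h5 | h5 <;>
    first
    | exact i (h3.trans h4.symm)
    | exact j (h3.trans h5.symm)
    | exact k (h4.trans h5.symm)

end Cfsg.Agent.H165.TriRow
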