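import Mathlib

/-!
# Small prime divisors of binomial coefficients

`choose_small_prime`: if `2 ≤ y < x` and no prime `p ≤ x` divides `(x + y).choose y`, then
`x = 4` and `y = 3` (a weak form of a theorem of Ecklund, with an elementary proof by carries).
-/

set_option autoImplicit false

namespace Cfsg.Agent.H165.ChooseDiv

/-- No carries when adding `x` and `y` in base `p` if `p` does not divide the binomial
coefficient. -/
theorem nocarry {p : ℕ} (hp : p.Prime) {x y : ℕ} (h : ¬ p ∣ (x + y).choose y) (j : ℕ) :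
    x % p ^ j + y % p ^ j < p ^ j := by
  rcases Nat.eq_zero_or_pos j with rfl | hj
  · simp [Nat.mod_one]
  by_contra hc
  push Not at hc
  have h1 : ((x + y).choose y).factorization p = 0 := Nat.factorization_eq_zero_of_not_dvd h
  have h2 := Nat.factorization_choose' (p := p) (n := x) (k := y)
    (b := max (Nat.log p (x + y)) j + 1) hp (by omega)
  rw [h1] at h2
  have h3 := Finset.card_eq_zero.mp h2.symm
  have h4 : j ∈ ({i ∈ Finset.Ico 1 (max (Nat.log p (x + y)) j + 1) |
      p ^ i ≤ y % p ^ i + x % p ^ i} : Finset ℕ) := by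
    rw [Finset.mem_filter, Finset.mem_Ico]
    exact ⟨⟨hj, by omega⟩, by omega⟩
  rw [h3] at h4
  simp at h4

/-- The divisors of a composite number. -/
theorem le_half_of_not_prime {n p : ℕ} (hn : ¬ n.Prime) (hp : p.Prime) (h : p ∣ n) (h0 : 0 < n) :
    2 * p ≤ n := by
  obtain ⟨m, rfl⟩ := h
  have hm0 : m ≠ 0 := by rintro rfl; simp at h0
  have hm1 : m ≠ 1 := by rintro rfl; rw [mul_one] at hn; exact hn hp
  have : 2 ≤ m := by omega
  nlinarith

theorem mod_of_dvd_add_one {x P : ℕ} (hP : 0 < P) (h : P ∣ x + 1) : x % P = P - 1 := by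
  obtain ⟨c, hc⟩ := h
  have hc0 : c ≠ 0 := by rintro rfl; simp at hc
  obtain ⟨d, rfl⟩ : ∃ d, c = d + 1 := ⟨c - 1, by omega⟩
  have : x = (P - 1) + P * d := by
    have : P * (d + 1) = P * d + P := by ring
    omega
  rw [this, Nat.add_mul_mod_self_left, Nat.mod_eq_of_lt (by omega)]

theorem mod_of_dvd_add_two {x P : ℕ} (hP : 2 ≤ P) (h : P ∣ x + 2) : x % P = P - 2 := by
  obtain ⟨c, hc⟩ := h
  have hc0 : c ≠ 0 := by rintro rfl; simp at hc
  obtain ⟨d, rfl⟩ : ∃ d, c = d + 1 := ⟨c - 1, by omega⟩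
  have : x = (P - 2) + P * d := by
    have : P * (d + 1) = P * d + P := by ring
    omega
  rw [this, Nat.add_mul_mod_self_left, Nat.mod_eq_of_lt (by omega)]

theorem dvd_or_dvd_of_mod_le_one {y P : ℕ} (h : y % P ≤ 1) : P ∣ y ∨ P ∣ y - 1 := by
  have h6 := Nat.div_add_mod y P
  rcases Nat.lt_or_ge (y % P) 1 with h1 | h1
  · left; exact Nat.dvd_of_mod_eq_zero (Nat.lt_one_iff.mp h1)
  · right
    have h2 : y % P = 1 := le_antisymm h h1
    rw [h2] at h6
    exact ⟨y / P, by omega⟩

theorem mod_add_eq {x y P r : ℕ} (hlt : x % P + y % P < P) (h : (x + y) % P = r) :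
    x % P + y % P = r := by
  rw [Nat.add_mod, Nat.mod_eq_of_lt hlt] at h
  exact h

theorem dvd_of_dvd_add {x y P : ℕ} (hlt : x % P + y % P < P) (h : P ∣ x + y) : P ∣ y := by
  have h1 := mod_add_eq hlt (Nat.mod_eq_zero_of_dvd h)
  exact Nat.dvd_of_mod_eq_zero (Nat.eq_zero_of_add_eq_zero_left h1)

theorem dvd_of_dvd_add_one {x y P : ℕ} (hlt : x % P + y % P < P) (h : P ∣ y + 1) : P ∣ x := by
  have hP : 0 < P := Nat.pos_of_ne_zero (by rintro rfl; simp at h)
  rw [mod_of_dvd_add_one hP h] at hlt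
  apply Nat.dvd_of_mod_eq_zero
  generalize x % P = a at hlt
  omega

theorem dvd_of_dvd_add_sub_one {x y P : ℕ} (hlt : x % P + y % P < P) (hP : 2 ≤ P)
    (hy : 1 ≤ y) (h : P ∣ x + y - 1) : P ∣ y ∨ P ∣ y - 1 := by
  have h2 : (x + y) % P = 1 := by
    obtain ⟨c, hc⟩ := h
    have : x + y = 1 + P * c := by omega
    rw [this, Nat.add_mul_mod_self_left, Nat.mod_eq_of_lt (by omega)]
  have h3 := mod_add_eq hlt h2
  apply dvd_or_dvd_of_mod_le_one
  generalize x % P = a at h3
  omega

theorem dvd_of_dvd_add_two {x y P : ℕ} (hlt : x % P + y % P < P) (hP : 2 ≤ P)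
    (h : P ∣ x + 2) : P ∣ y ∨ P ∣ y - 1 := by
  rw [mod_of_dvd_add_two hP h] at hlt
  apply dvd_or_dvd_of_mod_le_one
  omega

theorem two_le_pow {p k : ℕ} (hp : p.Prime) (hk : 0 < k) : 2 ≤ p ^ k :=
  calc 2 ≤ p := hp.two_le
    _ = p ^ 1 := (pow_one p).symm
    _ ≤ p ^ k := Nat.pow_le_pow_right hp.pos hk

/-- **Main lemma.** If `2 ≤ y < x` and no prime `p ≤ x` divides `(x + y).choose y` then
`x = 4`, `y = 3`. -/
theorem choose_small_prime {x y : ℕ} (hy : 2 ≤ y) (hyx : y < x)
    (h : ∀ p : ℕ, p.Prime → p ≤ x → ¬ p ∣ (x + y).choose y) : x = 4 ∧ y = 3 := by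
  have nc : ∀ p : ℕ, p.Prime → p ≤ x → ∀ j, x % p ^ j + y % p ^ j < p ^ j :=
    fun p hp hpx j => nocarry hp (h p hp hpx) j
  -- `x + y` is prime
  have hn : (x + y).Prime := by
    by_contra hn
    have h1 : x + y ∣ y := by
      rw [Nat.dvd_iff_prime_pow_dvd_dvd]
      intro p k hp hk
      rcases Nat.eq_zero_or_pos k with rfl | hk0
      · simp
      have hpd : p ∣ x + y := (dvd_pow_self p (by omega)).trans hk
      have hpx : p ≤ x := by
        have := le_half_of_not_prime hn hp hpd (by omega)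
        omega
      exact dvd_of_dvd_add (nc p hp hpx k) hk
    have := Nat.le_of_dvd (by omega) h1
    omega
  -- `y + 1 ∣ x`
  have hdvd : y + 1 ∣ x := by
    rw [Nat.dvd_iff_prime_pow_dvd_dvd]
    intro p k hp hk
    rcases Nat.eq_zero_or_pos k with rfl | hk0
    · simp
    have hpd : p ∣ y + 1 := (dvd_pow_self p (by omega)).trans hk
    have hpx : p ≤ x := (Nat.le_of_dvd (by omega) hpd).trans hyx
    exact dvd_of_dvd_add_one (nc p hp hpx k) hk
  obtain ⟨z, hz⟩ := hdvd
  have hz0 : z ≠ 0 := by rintro rfl; simp at hz; omega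
  have hodd : (x + y) % 2 = 1 := by
    rcases hn.eq_two_or_odd with h1 | h1
    · omega
    · exact h1
  -- `x + y - 1 ∣ (z - 1) * (y - 1)`
  have hdvd2 : x + y - 1 ∣ (z - 1) * (y - 1) := by
    rw [Nat.dvd_iff_prime_pow_dvd_dvd]
    intro p k hp hk
    rcases Nat.eq_zero_or_pos k with rfl | hk0
    · simp
    have hpd : p ∣ x + y - 1 := (dvd_pow_self p (by omega)).trans hk
    have hpx : p ≤ x := by
      have h1 : ¬ (x + y - 1).Prime := by
        intro h2
        rcases h2.eq_two_or_odd with h3 | h3 <;> omega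
      have := le_half_of_not_prime h1 hp hpd (by omega)
      omega
    rcases dvd_of_dvd_add_sub_one (nc p hp hpx k) (two_le_pow hp hk0) (by omega) hk with h5 | h5
    · apply Dvd.dvd.mul_right
      have h6 : x + y - 1 = (z - 1) + y * (z + 1) := by
        obtain ⟨w, rfl⟩ : ∃ w, z = w + 1 := ⟨z - 1, by omega⟩
        rw [hz]
        have : (y + 1) * (w + 1) + y = w + y * (w + 1 + 1) + 1 := by ring
        rw [this]
        omega
      rw [h6] at hk
      exact (Nat.dvd_add_left (h5.mul_right _)).mp hk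
    · exact Dvd.dvd.mul_left h5 _
  have hz1 : z = 1 := by
    by_contra hne
    have h2 : 0 < (z - 1) * (y - 1) := Nat.mul_pos (by omega) (by omega)
    have h3 := Nat.le_of_dvd h2 hdvd2
    obtain ⟨w, rfl⟩ : ∃ w, z = w + 1 := ⟨z - 1, by omega⟩
    obtain ⟨v, rfl⟩ : ∃ v, y = v + 1 := ⟨y - 1, by omega⟩
    simp only [Nat.add_sub_cancel] at h3
    rw [hz] at h3
    have : (v + 1 + 1) * (w + 1) + (v + 1) - 1 = v * w + (2 * w + v + 2 + v) := by
      have : (v + 1 + 1) * (w + 1) + (v + 1) = v * w + (2 * w + v + 2 + v) + 1 := by ring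
      omega
    rw [this, mul_comm w v] at h3
    omega
  subst hz1
  rw [mul_one] at hz
  -- `x + 1` is prime
  have hx1 : (x + 1).Prime := by
    by_contra hn1
    have h1 : x + 1 ∣ y := by
      rw [Nat.dvd_iff_prime_pow_dvd_dvd]
      intro p k hp hk
      rcases Nat.eq_zero_or_pos k with rfl | hk0
      · simp
      have hpd : p ∣ x + 1 := (dvd_pow_self p (by omega)).trans hk
      have hpx : p ≤ x := by
        have := le_half_of_not_prime hn1 hp hpd (by omega)
        omega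
      exact dvd_of_dvd_add_one (x := y) (y := x) (by rw [add_comm]; exact nc p hp hpx k) hk
    have := Nat.le_of_dvd (by omega) h1
    omega
  have hxe : x % 2 = 0 := by
    rcases hx1.eq_two_or_odd with h3 | h3 <;> omega
  -- `x + 2 ∣ y (y - 1)`
  have hdvd3 : x + 2 ∣ y * (y - 1) := by
    rw [Nat.dvd_iff_prime_pow_dvd_dvd]
    intro p k hp hk
    rcases Nat.eq_zero_or_pos k with rfl | hk0
    · simp
    have hpd : p ∣ x + 2 := (dvd_pow_self p (by omega)).trans hk
    have hpx : p ≤ x := by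
      have h1 : ¬ (x + 2).Prime := by
        intro h2
        rcases h2.eq_two_or_odd with h3 | h3 <;> omega
      have := le_half_of_not_prime h1 hp hpd (by omega)
      omega
    rcases dvd_of_dvd_add_two (nc p hp hpx k) (two_le_pow hp hk0) hk with h5 | h5
    · exact Dvd.dvd.mul_right h5 _
    · exact Dvd.dvd.mul_left h5 _
  have h12 : x + 2 ∣ 12 := by
    obtain ⟨v, rfl⟩ : ∃ v, y = v + 1 := ⟨y - 1, by omega⟩
    subst hz
    simp only [Nat.add_sub_cancel] at hdvd3
    have h7 : (v + 1) * v + 5 * (v + 1 + 1 + 2) + 2 * (v + 1 + 1 + 2) =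
        12 + (v + 1 + 1 + 2) * (v + 1 + 1 + 2) := by ring
    have h8 : v + 1 + 1 + 2 ∣ 12 + (v + 1 + 1 + 2) * (v + 1 + 1 + 2) := by
      rw [← h7]
      exact dvd_add (dvd_add hdvd3 (Dvd.intro_left 5 rfl)) (Dvd.intro_left 2 rfl)
    exact (Nat.dvd_add_left (Dvd.intro _ rfl)).mp h8
  have hle : x + 2 ≤ 12 := Nat.le_of_dvd (by norm_num) h12
  have hx4 : x = 4 ∨ x = 10 := by
    have : x ≤ 10 := by omega
    interval_cases x <;> omega
  rcases hx4 with h4 | h10
  · exact ⟨h4, by omega⟩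
  · exfalso
    have hy9 : y = 9 := by omega
    subst hy9
    subst h10
    exact h 2 Nat.prime_two (by norm_num) (by decide)

end Cfsg.Agent.H165.ChooseDiv
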