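import Mathlib
import Cfsg.Agent.OddOrderLocal.HallPi

/-!
# Hall subgroups of alternating groups: basic tools
-/

set_option autoImplicit false
set_option linter.unusedSectionVars false

namespace Cfsg.Agent.H165.HallAlt

open Equiv Equiv.Perm MulAction Cfsg.Agent.OddOrderLocal.HallPi

section gen

variable {G : Type*} [Group G] [Finite G]

/-- `[K ⊔ N : K] = [N : K ⊓ N]` when `K` normalizes `N`. -/
theorem relIndex_sup {K N : Subgroup G} (h : K ≤ Subgroup.normalizer (N : Set G)) :
    K.relIndex (K ⊔ N) = K.relIndex N := by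
  have h1 : N.relIndex (K ⊔ N) = N.relIndex K := by
    have hle : K ⊔ N ≤ Subgroup.normalizer (N : Set G) := sup_le h Subgroup.le_normalizer
    have hn : (N.subgroupOf (K ⊔ N)).Normal := Subgroup.normal_subgroupOf_of_le_normalizer hle
    have h2 := Subgroup.relIndex_sup_right (K.subgroupOf (K ⊔ N)) (N.subgroupOf (K ⊔ N))
    rw [← Subgroup.subgroupOf_sup le_sup_left le_sup_right, Subgroup.subgroupOf_self,
      Subgroup.relIndex_top_right] at h2
    rw [Subgroup.relIndex_subgroupOf le_sup_left] at h2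
    exact h2
  have hc1 : Nat.card K * K.relIndex (K ⊔ N) = Nat.card (K ⊔ N : Subgroup G) :=
    card_mul_relIndex le_sup_left
  have hc2 : Nat.card N * N.relIndex (K ⊔ N) = Nat.card (K ⊔ N : Subgroup G) :=
    card_mul_relIndex le_sup_right
  have hc3 : Nat.card (K ⊓ N : Subgroup G) * K.relIndex N = Nat.card N := by
    rw [← Subgroup.inf_relIndex_right]
    exact card_mul_relIndex inf_le_right
  have hc4 : Nat.card (K ⊓ N : Subgroup G) * N.relIndex K = Nat.card K := by
    rw [← Subgroup.inf_relIndex_left]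
    exact card_mul_relIndex inf_le_left
  have h0 : 0 < Nat.card K := Nat.card_pos
  apply Nat.eq_of_mul_eq_mul_left h0
  calc Nat.card K * K.relIndex (K ⊔ N) = Nat.card N * N.relIndex K := by rw [hc1, ← hc2, h1]
    _ = (Nat.card (K ⊓ N : Subgroup G) * K.relIndex N) * N.relIndex K := by rw [hc3]
    _ = (Nat.card (K ⊓ N : Subgroup G) * N.relIndex K) * K.relIndex N := by ring
    _ = Nat.card K * K.relIndex N := by rw [hc4]

theorem relIndex_dvd_relIndex {K K' L : Subgroup G} (h1 : K ≤ K') (_h2 : K' ≤ L) :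
    K.relIndex K' ∣ K.relIndex L := ⟨K'.relIndex L, (Subgroup.relIndex_mul_relIndex K K' L h1 _h2).symm⟩

theorem relIndex_dvd_relIndex' {K K' L : Subgroup G} (h1 : K ≤ K') (h2 : K ≤ L) :
    K'.relIndex L ∣ K.relIndex L := by
  rw [← Subgroup.inf_relIndex_right]
  exact ⟨K.relIndex (K' ⊓ L), by
    rw [mul_comm]
    exact (Subgroup.relIndex_mul_relIndex K (K' ⊓ L) L (le_inf h1 h2) inf_le_right).symm⟩

/-- A `p`-subgroup of `A` is conjugate into a subgroup of index prime to `p`. -/
theorem exists_conj_le {p : ℕ} [Fact p.Prime] {M A P : Subgroup G}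
    (h : ¬ p ∣ M.relIndex A) (hP : IsPGroup p P) (hPA : P ≤ A) :
    ∃ a ∈ A, ∀ x ∈ P, a⁻¹ * x * a ∈ M := by
  have hP' : IsPGroup p (P.subgroupOf A) := hP.of_injective
    ((Subgroup.subgroupOfEquivOfLe hPA).toMonoidHom) (Subgroup.subgroupOfEquivOfLe hPA).injective
  have hc : ¬ p ∣ Nat.card (A ⧸ M.subgroupOf A) := h
  obtain ⟨q, hq⟩ := hP'.nonempty_fixed_point_of_prime_not_dvd_card (α := A ⧸ M.subgroupOf A) hc
  obtain ⟨a, rfl⟩ := QuotientGroup.mk_surjective q
  refine ⟨a, a.2, fun x hx => ?_⟩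
  have h1 := hq ⟨⟨x, hPA hx⟩, Subgroup.mem_subgroupOf.mpr hx⟩
  have h2 : (QuotientGroup.mk ((⟨x, hPA hx⟩ : A) * a) : A ⧸ M.subgroupOf A) =
    QuotientGroup.mk a := h1
  rw [eq_comm, QuotientGroup.eq, Subgroup.mem_subgroupOf] at h2
  simpa [mul_assoc] using h2

end gen

theorem apply_inv {α : Type*} (a : Perm α) (x : α) : a (a⁻¹ x) = x := a.apply_symm_apply x

theorem inv_apply {α : Type*} (a : Perm α) (x : α) : a⁻¹ (a x) = x := a.symm_apply_apply x

universe u

variable {Ω : Type u} [Fintype Ω] [DecidableEq Ω]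

/-- The permutations fixing every point outside `U`. -/
def fixU (U : Finset Ω) : Subgroup (Perm Ω) where
  carrier := {g | ∀ x, x ∉ U → g x = x}
  mul_mem' := by
    intro a b ha hb x hx
    rw [Perm.mul_apply, hb x hx, ha x hx]
  one_mem' := fun x _ => rfl
  inv_mem' := by
    intro a ha x hx
    rw [Perm.inv_eq_iff_eq, ha x hx]

theorem mem_fixU {U : Finset Ω} {g : Perm Ω} : g ∈ fixU U ↔ ∀ x, x ∉ U → g x = x := Iff.rfl

/-- The set stabilizer of `U`. -/
def setStab (U : Finset Ω) : Subgroup (Perm Ω) where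
  carrier := {g | ∀ x, g x ∈ U ↔ x ∈ U}
  mul_mem' := by
    intro a b ha hb x
    rw [Perm.mul_apply]
    exact (ha (b x)).trans (hb x)
  one_mem' := fun x => Iff.rfl
  inv_mem' := by
    intro a ha x
    have := ha (a⁻¹ x)
    rw [apply_inv] at this
    exact this.symm

theorem mem_setStab {U : Finset Ω} {g : Perm Ω} : g ∈ setStab U ↔ ∀ x, g x ∈ U ↔ x ∈ U := Iff.rfl

theorem mem_setStab_of_forall {U : Finset Ω} {g : Perm Ω} (h : ∀ x ∈ U, g x ∈ U) :
    g ∈ setStab U := by
  have h1 : U.map g.toEmbedding ⊆ U := by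
    intro y hy
    obtain ⟨x, hx, rfl⟩ := Finset.mem_map.mp hy
    exact h x hx
  have h2 : U.map g.toEmbedding = U :=
    Finset.eq_of_subset_of_card_le h1 (by rw [Finset.card_map])
  intro x
  constructor
  · intro hx
    rw [← h2] at hx
    obtain ⟨y, hy, hyx⟩ := Finset.mem_map.mp hx
    have : y = x := g.injective hyx
    rwa [← this]
  · exact h x

theorem fixU_le_setStab (U : Finset Ω) : fixU U ≤ setStab U := by
  intro g hg
  apply mem_setStab_of_forall
  intro x hx
  by_contra hc
  have := hg _ hc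
  have := g.injective this
  rw [this] at hc
  exact hc hx

theorem setStab_le_normalizer_fixU (U : Finset Ω) :
    setStab U ≤ Subgroup.normalizer (fixU U : Set (Perm Ω)) := by
  have key : ∀ g ∈ setStab U, ∀ n ∈ fixU U, g * n * g⁻¹ ∈ fixU U := by
    intro g hg n hn x hx
    have h1 : g⁻¹ x ∉ U := by
      intro h
      exact hx (((setStab U).inv_mem hg x).mp h)
    rw [Perm.mul_apply, Perm.mul_apply, hn _ h1, apply_inv]
  intro g hg
  rw [Subgroup.mem_normalizer_iff]
  intro n
  constructor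
  · exact key g hg n
  · intro h
    have := key g⁻¹ ((setStab U).inv_mem hg) _ h
    simpa [mul_assoc] using this

/-- The inclusion of `Perm U` into `Perm Ω`. -/
abbrev incl (U : Finset Ω) : Perm {x // x ∈ U} →* Perm Ω := Perm.ofSubtype

theorem incl_injective (U : Finset Ω) : Function.Injective (incl U) := Perm.ofSubtype_injective

theorem incl_mem_fixU {U : Finset Ω} (σ : Perm {x // x ∈ U}) : incl U σ ∈ fixU U := by
  intro x hx
  exact Perm.ofSubtype_apply_of_not_mem σ hx

theorem exists_incl {U : Finset Ω} {g : Perm Ω} (hg : g ∈ fixU U) :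
    ∃ σ : Perm {x // x ∈ U}, incl U σ = g := by
  have h1 : ∀ x, g x ∈ U ↔ x ∈ U := fixU_le_setStab U hg
  refine ⟨g.subtypePerm (fun x => h1 x), ?_⟩
  exact Perm.ofSubtype_subtypePerm _ (fun x hx => by
    by_contra hc
    exact hx (hg x hc))

theorem map_incl_alternating (U : Finset Ω) :
    (alternatingGroup {x // x ∈ U}).map (incl U) = fixU U ⊓ alternatingGroup Ω := by
  ext g
  constructor
  · rintro ⟨σ, hσ, rfl⟩
    refine ⟨incl_mem_fixU σ, ?_⟩
    have h1 : sign σ = 1 := hσ
    change sign (Perm.ofSubtype σ) = 1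
    rw [Perm.sign_ofSubtype, h1]
  · rintro ⟨h1, h2⟩
    obtain ⟨σ, rfl⟩ := exists_incl h1
    refine ⟨σ, ?_, rfl⟩
    have h3 : sign (Perm.ofSubtype σ) = 1 := h2
    rw [Perm.sign_ofSubtype] at h3
    exact h3

theorem comap_incl_le {M : Subgroup (Perm Ω)} (hM : M ≤ alternatingGroup Ω) (U : Finset Ω) :
    M.comap (incl U) ≤ alternatingGroup {x // x ∈ U} := by
  intro σ hσ
  have h3 : sign (Perm.ofSubtype σ) = 1 := hM hσ
  rw [Perm.sign_ofSubtype] at h3
  exact h3

theorem relIndex_comap_incl (M : Subgroup (Perm Ω)) (U : Finset Ω) :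
    (M.comap (incl U)).relIndex (alternatingGroup {x // x ∈ U}) =
      M.relIndex (fixU U ⊓ alternatingGroup Ω) := by
  rw [Subgroup.relIndex_comap, map_incl_alternating]

theorem card_comap_incl_dvd (M : Subgroup (Perm Ω)) (U : Finset Ω) :
    Nat.card (M.comap (incl U)) ∣ Nat.card M := by
  rw [← Subgroup.card_map_of_injective (K := M.comap (incl U)) (incl_injective U)]
  exact Subgroup.card_dvd_of_le (Subgroup.map_comap_le _ _)

/-- **Restriction to an invariant set.** -/
theorem hall_comap {π : Set ℕ} {M : Subgroup (Perm Ω)}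
    (hM : Cfsg.IsPiHallOf π M (alternatingGroup Ω)) {U : Finset Ω} (hU : M ≤ setStab U) :
    Cfsg.IsPiHallOf π (M.comap (incl U)) (alternatingGroup {x // x ∈ U}) := by
  refine ⟨comap_incl_le hM.1 U, fun p hp hd => hM.2.1 p hp (hd.trans (card_comap_incl_dvd M U)), ?_⟩
  intro p hp hπ hd
  rw [relIndex_comap_incl] at hd
  have hnorm : M ≤ Subgroup.normalizer ((fixU U ⊓ alternatingGroup Ω : Subgroup (Perm Ω)) :
      Set (Perm Ω)) := by
    intro g hg
    have h1 := setStab_le_normalizer_fixU U (hU hg)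
    rw [Subgroup.mem_normalizer_iff] at h1 ⊢
    intro n
    rw [Subgroup.mem_inf, Subgroup.mem_inf, ← h1 n]
    have : (alternatingGroup Ω).Normal := inferInstance
    rw [this.mem_comm_iff]
    have e : g⁻¹ * (g * n) = n := by group
    rw [e]
  rw [← relIndex_sup hnorm] at hd
  exact hM.2.2 p hp hπ (hd.trans (relIndex_dvd_relIndex le_sup_left
    (sup_le hM.1 inf_le_right)))

end Cfsg.Agent.H165.HallAlt
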