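import Mathlib
import Cfsg.Agent.H165.HallAltBasic

/-!
# Hall subgroups of alternating groups: orbits, set stabilizers, cycles
-/

set_option autoImplicit false
set_option linter.unusedSectionVars false

namespace Cfsg.Agent.H165.HallAlt

open Equiv Equiv.Perm MulAction Cfsg.Agent.OddOrderLocal.HallPi

universe u

variable {Ω : Type u} [Fintype Ω] [DecidableEq Ω]

/-! ### The order of set stabilizers -/

theorem range_subtypeCongrHom (U : Finset Ω) :
    (Perm.subtypeCongrHom (fun x => x ∈ U)).range = setStab U := by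
  ext g
  constructor
  · rintro ⟨⟨a, b⟩, rfl⟩
    apply mem_setStab_of_forall
    intro x hx
    simp only [Perm.subtypeCongrHom_apply]
    rw [Perm.subtypeCongr.left_apply a b hx]
    exact (a ⟨x, hx⟩).2
  · intro hg
    refine ⟨(g.subtypePerm (fun x => hg x), g.subtypePerm (fun x => not_congr (hg x))), ?_⟩
    ext x
    simp only [Perm.subtypeCongrHom_apply]
    by_cases hx : x ∈ U
    · rw [Perm.subtypeCongr.left_apply _ _ hx]
      rfl
    · rw [Perm.subtypeCongr.right_apply _ _ hx]
      rfl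

theorem card_setStab (U : Finset Ω) :
    Nat.card (setStab U) = U.card.factorial * (Fintype.card Ω - U.card).factorial := by
  rw [← range_subtypeCongrHom U]
  rw [Nat.card_congr (MonoidHom.ofInjective
    (Perm.subtypeCongrHom_injective (fun x => x ∈ U))).symm.toEquiv, Nat.card_prod,
    Nat.card_perm, Nat.card_perm, Nat.card_eq_fintype_card, Nat.card_eq_fintype_card,
    Fintype.card_coe, Fintype.card_subtype_compl, Fintype.card_coe]

theorem index_setStab (U : Finset Ω) :
    (setStab U).index = (Fintype.card Ω).choose U.card := by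
  have h1 := Subgroup.card_mul_index (setStab U)
  have hle : U.card ≤ Fintype.card Ω := Finset.card_le_univ U
  rw [card_setStab, Nat.card_perm, Nat.card_eq_fintype_card,
    ← Nat.choose_mul_factorial_mul_factorial hle] at h1
  have h2 : 0 < U.card.factorial * (Fintype.card Ω - U.card).factorial :=
    Nat.mul_pos (Nat.factorial_pos _) (Nat.factorial_pos _)
  apply Nat.eq_of_mul_eq_mul_left h2
  rw [h1]
  ring

theorem swap_mem_setStab {U : Finset Ω} {a b : Ω} (h : a ∈ U ↔ b ∈ U) : swap a b ∈ setStab U := by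
  apply mem_setStab_of_forall
  intro x hx
  by_cases hxa : x = a
  · subst hxa
    rw [swap_apply_left]
    exact h.mp hx
  · by_cases hxb : x = b
    · subst hxb
      rw [swap_apply_right]
      exact h.mpr hx
    · rwa [swap_apply_of_ne_of_ne hxa hxb]

theorem exists_swap_mem_setStab (U : Finset Ω) (h3 : 3 ≤ Fintype.card Ω) :
    ∃ a b : Ω, a ≠ b ∧ swap a b ∈ setStab U := by
  by_cases hU : 1 < U.card
  · obtain ⟨a, ha, b, hb, hab⟩ := Finset.one_lt_card.mp hU
    exact ⟨a, b, hab, swap_mem_setStab (by simp [ha, hb])⟩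
  · have hc : 1 < Uᶜ.card := by
      rw [Finset.card_compl]
      omega
    obtain ⟨a, ha, b, hb, hab⟩ := Finset.one_lt_card.mp hc
    rw [Finset.mem_compl] at ha hb
    exact ⟨a, b, hab, swap_mem_setStab (by simp [ha, hb])⟩

theorem relIndex_setStab (U : Finset Ω) (h3 : 3 ≤ Fintype.card Ω) :
    (setStab U).relIndex (alternatingGroup Ω) = (Fintype.card Ω).choose U.card := by
  rw [← index_setStab, ← relIndex_sup (K := setStab U) (N := alternatingGroup Ω) (by
    rw [Subgroup.normalizer_eq_top]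
    exact le_top)]
  have htop : setStab U ⊔ alternatingGroup Ω = ⊤ := by
    obtain ⟨a, b, hab, hs⟩ := exists_swap_mem_setStab U h3
    apply top_unique
    intro g _
    rcases Int.units_eq_one_or (sign g) with h | h
    · exact Subgroup.mem_sup_right h
    · have h1 : g * swap a b ∈ alternatingGroup Ω := by
        rw [mem_alternatingGroup, map_mul, h, sign_swap hab]
        rfl
      have h2 : g = (g * swap a b) * swap a b := by
        rw [mul_assoc, swap_mul_self, mul_one]
      rw [h2]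
      exact mul_mem (Subgroup.mem_sup_right h1) (Subgroup.mem_sup_left hs)
  rw [htop, Subgroup.relIndex_top_right]

/-- The index of a subgroup of `A_n` preserving `U` is divisible by the binomial coefficient. -/
theorem choose_dvd {M : Subgroup (Perm Ω)} (hM : M ≤ alternatingGroup Ω) {U : Finset Ω}
    (hU : M ≤ setStab U) (h3 : 3 ≤ Fintype.card Ω) :
    (Fintype.card Ω).choose U.card ∣ M.relIndex (alternatingGroup Ω) := by
  rw [← relIndex_setStab U h3]
  exact relIndex_dvd_relIndex' hU hM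

/-! ### Orbits -/

/-- The orbit of `x` under `M` as a finset. -/
noncomputable def orbF (M : Subgroup (Perm Ω)) (x : Ω) : Finset Ω := by
  classical exact Finset.univ.filter (fun y => ∃ g ∈ M, g x = y)

theorem mem_orbF {M : Subgroup (Perm Ω)} {x y : Ω} : y ∈ orbF M x ↔ ∃ g ∈ M, g x = y := by
  classical
  unfold orbF
  rw [Finset.mem_filter]
  simp

theorem self_mem_orbF (M : Subgroup (Perm Ω)) (x : Ω) : x ∈ orbF M x :=
  mem_orbF.mpr ⟨1, M.one_mem, rfl⟩

theorem le_setStab_orbF (M : Subgroup (Perm Ω)) (x : Ω) : M ≤ setStab (orbF M x) := by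
  intro g hg
  apply mem_setStab_of_forall
  intro y hy
  obtain ⟨h, hh, rfl⟩ := mem_orbF.mp hy
  exact mem_orbF.mpr ⟨g * h, M.mul_mem hg hh, rfl⟩

theorem orbF_subset {M : Subgroup (Perm Ω)} {U : Finset Ω} (hU : M ≤ setStab U) {x : Ω}
    (hx : x ∈ U) : orbF M x ⊆ U := by
  intro y hy
  obtain ⟨g, hg, rfl⟩ := mem_orbF.mp hy
  exact (hU hg x).mpr hx

theorem card_orbF_dvd (M : Subgroup (Perm Ω)) (x : Ω) : (orbF M x).card ∣ Nat.card M := by
  have h1 : (orbit M x) = ↑(orbF M x) := by
    ext y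
    rw [Finset.mem_coe, mem_orbF]
    constructor
    · rintro ⟨g, rfl⟩
      exact ⟨g, g.2, rfl⟩
    · rintro ⟨g, hg, rfl⟩
      exact ⟨⟨g, hg⟩, rfl⟩
  have h2 := MulAction.index_stabilizer M x
  rw [h1, Set.ncard_coe_finset] at h2
  rw [← h2]
  exact Subgroup.index_dvd_card _

/-- A permutation in `M` with a cycle of length `k` gives an orbit of length at least `k`. -/
theorem exists_orbF_ge {M : Subgroup (Perm Ω)} {g : Perm Ω} (hg : g ∈ M) {k : ℕ}
    (hk : k ∈ g.cycleType) : ∃ x, k ≤ (orbF M x).card := by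
  obtain ⟨c, τ, hcτ, hd, hc, hk⟩ := mem_cycleType_iff.mp hk
  obtain ⟨a, ha, hca⟩ := hc
  refine ⟨a, ?_⟩
  rw [← hk]
  apply Finset.card_le_card
  intro b hb
  rw [mem_orbF]
  have hb' : c b ≠ b := mem_support.mp hb
  obtain ⟨i, hi⟩ := hca hb'
  refine ⟨g ^ i, M.zpow_mem hg i, ?_⟩
  rw [hcτ, (hd.commute).mul_zpow, Perm.mul_apply]
  have h1 : τ a = a := by
    rcases hd a with h | h
    · exact absurd h ha
    · exact h
  rw [zpow_apply_eq_self_of_apply_eq_self h1]
  exact hi

/-- `M` contains an even permutation with prescribed cycle type of prime power order. -/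
theorem exists_mem_cycleType {p : ℕ} [hp : Fact p.Prime] {M : Subgroup (Perm Ω)}
    (h : ¬ p ∣ M.relIndex (alternatingGroup Ω)) {m : Multiset ℕ}
    (hm : m.sum ≤ Fintype.card Ω) (hm2 : ∀ a ∈ m, ∃ j, 0 < j ∧ a = p ^ j)
    (hs : (-1 : ℤˣ) ^ (m.sum + m.card) = 1) : ∃ g ∈ M, g.cycleType = m := by
  obtain ⟨g, hg⟩ := (exists_with_cycleType_iff (α := Ω) (m := m)).mpr
    ⟨hm, fun a ha => by
      obtain ⟨j, hj, rfl⟩ := hm2 a ha
      calc 2 ≤ p := hp.out.two_le
        _ = p ^ 1 := (pow_one p).symm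
        _ ≤ p ^ j := Nat.pow_le_pow_right hp.out.pos hj⟩
  have hsg : g ∈ alternatingGroup Ω := by
    rw [mem_alternatingGroup, sign_of_cycleType, hg]
    exact hs
  have hord : ∃ j, orderOf g = p ^ j := by
    have h1 : orderOf g ∣ p ^ (m.sum) := by
      rw [← lcm_cycleType, hg, Multiset.lcm_dvd]
      intro a ha
      obtain ⟨j, hj, rfl⟩ := hm2 a ha
      apply pow_dvd_pow
      calc j ≤ p ^ j := (Nat.lt_pow_self hp.out.one_lt).le
        _ ≤ m.sum := Multiset.single_le_sum (fun _ _ => Nat.zero_le _) _ ha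
    obtain ⟨j, -, hj⟩ := (Nat.dvd_prime_pow hp.out).mp h1
    exact ⟨j, hj⟩
  obtain ⟨j, hj⟩ := hord
  have hP : IsPGroup p (Subgroup.zpowers g) := by
    apply IsPGroup.of_card (n := j)
    rw [Nat.card_zpowers, hj]
  obtain ⟨a, -, ha⟩ := exists_conj_le h hP ((Subgroup.zpowers_le).mpr hsg)
  refine ⟨a⁻¹ * g * a, ha g (Subgroup.mem_zpowers g), ?_⟩
  have := cycleType_conj (σ := g) (τ := a⁻¹)
  rw [inv_inv] at this
  rw [this, hg]

end Cfsg.Agent.H165.HallAlt
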