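import Mathlib
import Cfsg.Agent.H165.HallAltOrb

/-!
# Hall subgroups of alternating groups: the transitive case
-/

set_option autoImplicit false
set_option linter.unusedSectionVars false

namespace Cfsg.Agent.H165.HallAlt

open Equiv Equiv.Perm MulAction Cfsg.Agent.OddOrderLocal.HallPi

universe u

variable {Ω : Type u} [Fintype Ω] [DecidableEq Ω]

/-! ### Three-cycles -/

/-- The cycle `a → b → c → a`. -/
def c3 (a b c : Ω) : Perm Ω := swap a b * swap b c

theorem c3_mem {a b c : Ω} (hab : a ≠ b) (hbc : b ≠ c) : c3 a b c ∈ alternatingGroup Ω := by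
  rw [mem_alternatingGroup, c3, map_mul, sign_swap hab, sign_swap hbc]
  rfl

theorem c3_left {a b c : Ω} (hab : a ≠ b) (hac : a ≠ c) : c3 a b c a = b := by
  rw [c3, Perm.mul_apply, swap_apply_of_ne_of_ne hab hac, swap_apply_left]

theorem c3_mid {a b c : Ω} (hac : a ≠ c) (hbc : b ≠ c) : c3 a b c b = c := by
  rw [c3, Perm.mul_apply, swap_apply_left, swap_apply_of_ne_of_ne hac.symm hbc.symm]

theorem c3_right (a b c : Ω) : c3 a b c c = a := by
  rw [c3, Perm.mul_apply, swap_apply_right, swap_apply_right]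

theorem c3_other {a b c x : Ω} (ha : x ≠ a) (hb : x ≠ b) (hc : x ≠ c) : c3 a b c x = x := by
  rw [c3, Perm.mul_apply, swap_apply_of_ne_of_ne hb hc, swap_apply_of_ne_of_ne ha hb]

theorem c3_preserves {a b c : Ω} {S : Finset Ω} (ha : a ∈ S) (hb : b ∈ S) (hc : c ∈ S) :
    ∀ x ∈ S, c3 a b c x ∈ S := by
  intro x hx
  rw [c3, Perm.mul_apply]
  have h1 : ∀ u v y : Ω, u ∈ S → v ∈ S → y ∈ S → swap u v y ∈ S := by
    intro u v y hu hv hy
    rw [swap_apply_def]
    split_ifs <;> assumption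
  exact h1 _ _ _ ha hb (h1 _ _ _ hb hc hx)

theorem c3_preserves' {a b c : Ω} {S : Finset Ω} (ha : a ∉ S) (hb : b ∉ S) (hc : c ∉ S) :
    ∀ x ∈ S, c3 a b c x ∈ S := by
  intro x hx
  have h1 : x ≠ a := by rintro rfl; exact ha hx
  have h2 : x ≠ b := by rintro rfl; exact hb hx
  have h3 : x ≠ c := by rintro rfl; exact hc hx
  rw [c3_other h1 h2 h3]
  exact hx

theorem fresh (S : Finset Ω) (h : S.card + 2 ≤ Fintype.card Ω) :
    ∃ x y : Ω, x ≠ y ∧ x ∉ S ∧ y ∉ S := by
  have hc : 1 < Sᶜ.card := by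
    rw [Finset.card_compl]
    omega
  obtain ⟨a, ha, b, hb, hab⟩ := Finset.one_lt_card.mp hc
  rw [Finset.mem_compl] at ha hb
  exact ⟨a, b, hab, ha, hb⟩

/-! ### The point stabilizer -/

theorem mem_fixU_erase {α : Ω} {g : Perm Ω} : g ∈ fixU (Finset.univ.erase α) ↔ g α = α := by
  rw [mem_fixU]
  constructor
  · intro h
    exact h α (by simp)
  · intro h x hx
    have : x = α := by simpa using hx
    rw [this, h]

theorem card_eq_mul (K : Subgroup (Perm Ω)) (α : Ω) :
    Nat.card K = (orbF K α).card * Nat.card (K ⊓ fixU (Finset.univ.erase α) : Subgroup (Perm Ω)) := by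
  have h1 : (orbit K α) = ↑(orbF K α) := by
    ext y
    rw [Finset.mem_coe, mem_orbF]
    constructor
    · rintro ⟨g, rfl⟩
      exact ⟨g, g.2, rfl⟩
    · rintro ⟨g, hg, rfl⟩
      exact ⟨⟨g, hg⟩, rfl⟩
  have h2 := MulAction.index_stabilizer K α
  rw [h1, Set.ncard_coe_finset] at h2
  have h3 : (stabilizer K α).map K.subtype = K ⊓ fixU (Finset.univ.erase α) := by
    ext g
    rw [Subgroup.mem_inf, mem_fixU_erase]
    constructor
    · rintro ⟨⟨g, hg⟩, h, rfl⟩
      exact ⟨hg, h⟩
    · rintro ⟨hg, h⟩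
      exact ⟨⟨g, hg⟩, h, rfl⟩
  rw [← h3, Subgroup.card_map_of_injective K.subtype_injective, ← h2, mul_comm]
  exact (Subgroup.card_mul_index _).symm

theorem relIndex_point {M : Subgroup (Perm Ω)} (hM : M ≤ alternatingGroup Ω) {α : Ω}
    (ht : orbF M α = Finset.univ) :
    M.relIndex (fixU (Finset.univ.erase α) ⊓ alternatingGroup Ω) =
      M.relIndex (alternatingGroup Ω) := by
  have ht' : orbF (alternatingGroup Ω) α = Finset.univ := by
    apply Finset.eq_univ_of_forall
    intro x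
    have : x ∈ orbF M α := by rw [ht]; exact Finset.mem_univ x
    obtain ⟨g, hg, hgx⟩ := mem_orbF.mp this
    exact mem_orbF.mpr ⟨g, hM hg, hgx⟩
  have h1 := card_eq_mul M α
  have h2 := card_eq_mul (alternatingGroup Ω) α
  rw [ht] at h1
  rw [ht'] at h2
  have h3 := card_mul_relIndex hM
  have h4 : Nat.card (M ⊓ (fixU (Finset.univ.erase α) ⊓ alternatingGroup Ω) : Subgroup (Perm Ω)) *
      M.relIndex (fixU (Finset.univ.erase α) ⊓ alternatingGroup Ω) =
      Nat.card (fixU (Finset.univ.erase α) ⊓ alternatingGroup Ω : Subgroup (Perm Ω)) := by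
    rw [← Subgroup.inf_relIndex_right]
    exact card_mul_relIndex inf_le_right
  have h5 : M ⊓ (fixU (Finset.univ.erase α) ⊓ alternatingGroup Ω) =
      M ⊓ fixU (Finset.univ.erase α) := by
    rw [inf_comm (fixU _), ← inf_assoc, inf_eq_left.mpr hM]
  have h6 : alternatingGroup Ω ⊓ fixU (Finset.univ.erase α) =
      fixU (Finset.univ.erase α) ⊓ alternatingGroup Ω := inf_comm _ _
  rw [h5] at h4
  rw [h6] at h2
  have h0 : 0 < (Finset.univ : Finset Ω).card *
      Nat.card (M ⊓ fixU (Finset.univ.erase α) : Subgroup (Perm Ω)) :=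
    Nat.mul_pos (Finset.card_pos.mpr ⟨α, Finset.mem_univ α⟩) Nat.card_pos
  apply Nat.eq_of_mul_eq_mul_left h0
  rw [mul_assoc, h4, ← h2, ← h3, h1]

theorem hall_point {π : Set ℕ} {M : Subgroup (Perm Ω)}
    (hM : Cfsg.IsPiHallOf π M (alternatingGroup Ω)) {α : Ω} (ht : orbF M α = Finset.univ)
    {U : Finset Ω} (hU : U = Finset.univ.erase α) :
    Cfsg.IsPiHallOf π (M.comap (incl U)) (alternatingGroup {x // x ∈ U}) := by
  refine ⟨comap_incl_le hM.1 _, fun p hp hd => hM.2.1 p hp (hd.trans (card_comap_incl_dvd M _)), ?_⟩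
  intro p hp hπ hd
  rw [relIndex_comap_incl, hU, relIndex_point hM.1 ht] at hd
  exact hM.2.2 p hp hπ hd

/-! ### Conjugating the description of point stabilizers -/

theorem conj_mem_iff {M : Subgroup (Perm Ω)} {h : Perm Ω} (hh : h ∈ M) (g : Perm Ω) :
    h⁻¹ * g * h ∈ M ↔ g ∈ M := by
  constructor
  · intro h1
    have := M.mul_mem (M.mul_mem hh h1) (M.inv_mem hh)
    simpa [mul_assoc] using this
  · intro h1
    exact M.mul_mem (M.mul_mem (M.inv_mem hh) h1) hh

theorem conj_apply_eq (h g : Perm Ω) (x : Ω) : (h⁻¹ * g * h) x = x ↔ g (h x) = h x := by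
  rw [Perm.mul_apply, Perm.mul_apply, Perm.inv_eq_iff_eq]

theorem conj_alt (h : Perm Ω) {g : Perm Ω} : h⁻¹ * g * h ∈ alternatingGroup Ω ↔
    g ∈ alternatingGroup Ω := by
  rw [mem_alternatingGroup, mem_alternatingGroup, map_mul, map_mul, map_inv,
    mul_comm ((sign h)⁻¹), mul_assoc, inv_mul_cancel, mul_one]

/-- A transitive group all of whose point stabilizers are `A_{n-2}` does not exist. -/
theorem transB {M : Subgroup (Perm Ω)} {α β : Ω} (hn : 6 ≤ Fintype.card Ω) (hαβ : α ≠ β)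
    (ht : ∀ x, ∃ h ∈ M, h α = x)
    (hs : ∀ g ∈ alternatingGroup Ω, g α = α → (g ∈ M ↔ g β = β)) : False := by
  have hc : ∀ h ∈ M, ∀ g ∈ alternatingGroup Ω, g (h α) = h α → (g ∈ M ↔ g (h β) = h β) := by
    intro h hh g hg hgα
    have h1 := hs (h⁻¹ * g * h) ((conj_alt h).mpr hg) ((conj_apply_eq h g α).mpr hgα)
    rw [conj_mem_iff hh, conj_apply_eq] at h1
    exact h1
  have hcard3 : ∀ a b c : Ω, ({a, b, c} : Finset Ω).card ≤ 3 := fun a b c => Finset.card_le_three
  have hcard4 : ∀ a b c d : Ω, ({a, b, c, d} : Finset Ω).card ≤ 4 := fun a b c d =>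
    Finset.card_le_four
  -- choose a third point
  obtain ⟨γ, -, -, hγ, -⟩ := fresh ({α, β} : Finset Ω) (by
    have := Finset.card_le_two (a := α) (b := β)
    omega)
  have hγα : γ ≠ α := by rintro rfl; simp at hγ
  have hγβ : γ ≠ β := by rintro rfl; simp at hγ
  obtain ⟨h, hh, rfl⟩ := ht γ
  have hδγ : h β ≠ h α := fun e => hαβ (h.injective e.symm)
  by_cases h1 : h β = α
  · -- `δ = α`
    obtain ⟨x, y, hxy, hx, hy⟩ := fresh ({α, β, h α} : Finset Ω) (by
      have := hcard3 α β (h α); omega)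
    simp only [Finset.mem_insert, Finset.mem_singleton, not_or] at hx hy
    have hκ := c3_mem (a := β) (b := x) (c := y) (Ne.symm hx.2.1) hxy
    have h2 : c3 β x y (h α) = h α := c3_other hγβ (Ne.symm hx.2.2) (Ne.symm hy.2.2)
    have h3 : c3 β x y (h β) = h β := by
      rw [h1]
      exact c3_other hαβ (Ne.symm hx.1) (Ne.symm hy.1)
    have h4 := (hc h hh _ hκ h2).mpr h3
    have h5 := (hs _ hκ (by rw [← h1]; exact h3)).mp h4
    rw [c3_left (Ne.symm hx.2.1) (Ne.symm hy.2.1)] at h5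
    exact hx.2.1 h5
  · by_cases h2 : h β = β
    · -- `δ = β`
      obtain ⟨h', hh', hh'β⟩ := ht β
      have hεβ : h' β ≠ β := by
        intro e
        have : h' β = h' α := by rw [e, hh'β]
        exact hαβ (h'.injective this.symm)
      by_cases h3 : h' β = α
      · obtain ⟨x, y, hxy, hx, hy⟩ := fresh ({α, β, h α} : Finset Ω) (by
          have := hcard3 α β (h α); omega)
        simp only [Finset.mem_insert, Finset.mem_singleton, not_or] at hx hy
        have hκ := c3_mem (a := α) (b := x) (c := y) (Ne.symm hx.1) hxy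
        have h4 : c3 α x y (h α) = h α := c3_other hγα (Ne.symm hx.2.2) (Ne.symm hy.2.2)
        have h5 : c3 α x y β = β := c3_other hαβ.symm (Ne.symm hx.2.1) (Ne.symm hy.2.1)
        have h6 := (hc h hh _ hκ h4).mpr (by rw [h2]; exact h5)
        have h7 := (hc h' hh' _ hκ (by rw [hh'β]; exact h5)).mp h6
        rw [h3, c3_left (Ne.symm hx.1) (Ne.symm hy.1)] at h7
        exact hx.1 h7
      · obtain ⟨x, y, hxy, hx, hy⟩ := fresh ({α, β, h' β} : Finset Ω) (by
          have := hcard3 α β (h' β); omega)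
        simp only [Finset.mem_insert, Finset.mem_singleton, not_or] at hx hy
        have hκ := c3_mem (a := h' β) (b := x) (c := y) (Ne.symm hx.2.2) hxy
        have h4 : c3 (h' β) x y α = α := c3_other (Ne.symm h3) (Ne.symm hx.1) (Ne.symm hy.1)
        have h5 : c3 (h' β) x y β = β :=
          c3_other (Ne.symm hεβ) (Ne.symm hx.2.1) (Ne.symm hy.2.1)
        have h6 := (hs _ hκ h4).mpr h5
        have h7 := (hc h' hh' _ hκ (by rw [hh'β]; exact h5)).mp h6
        rw [c3_left (Ne.symm hx.2.2) (Ne.symm hy.2.2)] at h7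
        exact hx.2.2 h7
    · obtain ⟨x, y, hxy, hx, hy⟩ := fresh ({α, β, h α, h β} : Finset Ω) (by
        have := hcard4 α β (h α) (h β); omega)
      simp only [Finset.mem_insert, Finset.mem_singleton, not_or] at hx hy
      have hκ := c3_mem (a := h β) (b := x) (c := y) (Ne.symm hx.2.2.2) hxy
      have h4 : c3 (h β) x y α = α := c3_other (Ne.symm h1) (Ne.symm hx.1) (Ne.symm hy.1)
      have h5 : c3 (h β) x y β = β := c3_other (Ne.symm h2) (Ne.symm hx.2.1) (Ne.symm hy.2.1)
      have h6 : c3 (h β) x y (h α) = h α :=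
        c3_other (Ne.symm hδγ) (Ne.symm hx.2.2.1) (Ne.symm hy.2.2.1)
      have h7 := (hs _ hκ h4).mpr h5
      have h8 := (hc h hh _ hκ h6).mp h7
      rw [c3_left (Ne.symm hx.2.2.2) (Ne.symm hy.2.2.2)] at h8
      exact hx.2.2.2 h8

/-- If `∀ x ∈ S, g x ∈ S` then `g⁻¹` preserves `S` too. -/
theorem inv_preserves {g : Perm Ω} {S : Finset Ω} (h : ∀ x ∈ S, g x ∈ S) : ∀ x ∈ S, g⁻¹ x ∈ S := by
  intro x hx
  exact ((setStab S).inv_mem (mem_setStab_of_forall h) x).mpr hx

/-- The transitive case with stabilizer `(S₄ × S₃) ∩ A₇`. -/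
theorem transC {M : Subgroup (Perm Ω)} (hMA : M ≤ alternatingGroup Ω) {α : Ω}
    (hn : Fintype.card Ω = 8) {S : Finset Ω} (hS : S.card = 4) (hαS : α ∉ S)
    (ht : ∀ x, ∃ h ∈ M, h α = x)
    (hs : ∀ g ∈ alternatingGroup Ω, g α = α → (g ∈ M ↔ ∀ x ∈ S, g x ∈ S)) :
    ∀ g, g ∈ M ↔ g ∈ alternatingGroup Ω ∧ ((∀ x ∈ S, g x ∈ S) ∨ (∀ x ∈ S, g x ∉ S)) := by
  have hcompl : Sᶜ.card = 4 := by rw [Finset.card_compl, hn, hS]
  -- elements of `M` fixing `g α` preserve `g S`
  have hc : ∀ g ∈ M, ∀ k ∈ M, k (g α) = g α → ∀ x ∈ S, g⁻¹ (k (g x)) ∈ S := by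
    intro g hg k hk hkα x hx
    have h1 := (hs (g⁻¹ * k * g) ((conj_alt g).mpr (hMA hk)) ((conj_apply_eq g k α).mpr hkα)).mp
      ((conj_mem_iff hg k).mpr hk) x hx
    exact h1
  -- first case
  have first : ∀ g ∈ M, g α ∉ S → ∀ x ∈ S, g x ∈ S := by
    intro g hg hgα
    by_cases hgα' : g α = α
    · exact (hs g (hMA hg) hgα').mp hg
    -- if some `x ∈ S` has `g x ∈ S` then `S ⊆ g S`
    have step : ∀ x ∈ S, g x ∈ S → ∀ y ∈ S, g⁻¹ y ∈ S := by
      intro x hx hgx y hy
      by_cases hxy : y = g x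
      · rw [hxy, inv_apply]; exact hx
      -- a third point of `S`
      have hc3 : 0 < (S \ {g x, y}).card := by
        have h1 := Finset.le_card_sdiff ({g x, y} : Finset Ω) S
        have h2 := Finset.card_le_two (a := g x) (b := y)
        omega
      obtain ⟨z, hz⟩ := Finset.card_pos.mp hc3
      rw [Finset.mem_sdiff] at hz
      simp only [Finset.mem_insert, Finset.mem_singleton, not_or] at hz
      have hκA := c3_mem (a := g x) (b := y) (c := z) (Ne.symm hxy) (Ne.symm hz.2.2)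
      have hκα : c3 (g x) y z α = α := c3_other (fun h => hαS (h ▸ hgx)) (fun h => hαS (h ▸ hy))
        (fun h => hαS (h ▸ hz.1))
      have hκM : c3 (g x) y z ∈ M := (hs _ hκA hκα).mpr (c3_preserves hgx hy hz.1)
      have hκγ : c3 (g x) y z (g α) = g α := c3_other (fun h => hgα (h ▸ hgx))
        (fun h => hgα (h ▸ hy)) (fun h => hgα (h ▸ hz.1))
      have := hc g hg _ hκM hκγ x hx
      rw [c3_left (Ne.symm hxy) (Ne.symm hz.2.1)] at this
      exact this
    by_cases hex : ∃ x ∈ S, g x ∈ S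
    · obtain ⟨x, hx, hgx⟩ := hex
      have h1 := inv_preserves (g := g⁻¹) (step x hx hgx)
      simpa using h1
    · exfalso
      push Not at hex
      have h1 : S.map g.toEmbedding ⊆ Sᶜ.erase (g α) := by
        intro y hy
        obtain ⟨x, hx, rfl⟩ := Finset.mem_map.mp hy
        rw [Finset.mem_erase, Finset.mem_compl]
        refine ⟨?_, hex x hx⟩
        intro h
        have : x = α := g.injective h
        exact hαS (this ▸ hx)
      have h2 := Finset.card_le_card h1
      rw [Finset.card_map, Finset.card_erase_of_mem (Finset.mem_compl.mpr hgα), hcompl, hS] at h2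
      omega
  have second : ∀ g ∈ M, g α ∈ S → ∀ x ∈ S, g x ∉ S := by
    intro g hg hgα
    -- `g⁻¹ t ∈ S` for `t ∉ S`
    have h1 : ∀ t ∉ S, g⁻¹ t ∈ S := by
      intro t htS
      by_contra hc'
      obtain ⟨h, hh, rfl⟩ := ht t
      have h2 := first h hh htS
      have h3 := first (g⁻¹ * h) (M.mul_mem (M.inv_mem hg) hh) hc'
      have h4 : ∀ x ∈ S, g⁻¹ x ∈ S := by
        intro x hx
        have := h3 (h⁻¹ x) (inv_preserves h2 x hx)
        rwa [Perm.mul_apply, apply_inv] at this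
      have h5 := h4 _ hgα
      rw [inv_apply] at h5
      exact hαS h5
    have h2 : Sᶜ.map (g⁻¹).toEmbedding ⊆ S := by
      intro y hy
      obtain ⟨x, hx, rfl⟩ := Finset.mem_map.mp hy
      exact h1 x (Finset.mem_compl.mp hx)
    have h3 : Sᶜ.map (g⁻¹).toEmbedding = S :=
      Finset.eq_of_subset_of_card_le h2 (by rw [Finset.card_map, hcompl, hS])
    intro x hx
    rw [← h3] at hx
    obtain ⟨y, hy, rfl⟩ := Finset.mem_map.mp hx
    have : g ((g⁻¹).toEmbedding y) = y := apply_inv g y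
    rw [this]
    exact Finset.mem_compl.mp hy
  intro g
  constructor
  · intro hg
    refine ⟨hMA hg, ?_⟩
    by_cases h : g α ∈ S
    · exact Or.inr (second g hg h)
    · exact Or.inl (first g hg h)
  · rintro ⟨hgA, h⟩
    obtain ⟨k, hk, hkα⟩ := ht (g α)
    have hkg : (k⁻¹ * g) α = α := by
      rw [Perm.mul_apply, ← hkα, inv_apply]
    have hkgA : k⁻¹ * g ∈ alternatingGroup Ω := mul_mem (inv_mem (hMA hk)) hgA
    suffices hgoal : ∀ x ∈ S, (k⁻¹ * g) x ∈ S by
      have h1 := (hs _ hkgA hkg).mpr hgoal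
      have := M.mul_mem hk h1
      simpa [mul_assoc] using this
    rcases h with h | h
    · have h1 : g α ∉ S := by
        intro hc'
        exact hαS ((mem_setStab_of_forall h α).mp hc')
      rw [← hkα] at h1
      intro x hx
      exact inv_preserves (first k hk h1) _ (h x hx)
    · -- `g` maps `S` onto `Sᶜ`
      have h1 : S.map g.toEmbedding = Sᶜ := by
        apply Finset.eq_of_subset_of_card_le
        · intro y hy
          obtain ⟨x, hx, rfl⟩ := Finset.mem_map.mp hy
          exact Finset.mem_compl.mpr (h x hx)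
        · rw [Finset.card_map, hcompl, hS]
      have h2 : g α ∈ S := by
        by_contra hc'
        rw [← Finset.mem_compl, ← h1] at hc'
        obtain ⟨x, hx, hxα⟩ := Finset.mem_map.mp hc'
        have : x = α := g.injective hxα
        exact hαS (this ▸ hx)
      rw [← hkα] at h2
      have h3 := second k hk h2
      have h4 : S.map k.toEmbedding = Sᶜ := by
        apply Finset.eq_of_subset_of_card_le
        · intro y hy
          obtain ⟨x, hx, rfl⟩ := Finset.mem_map.mp hy
          exact Finset.mem_compl.mpr (h3 x hx)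
        · rw [Finset.card_map, hcompl, hS]
      intro x hx
      have h5 : g x ∈ Sᶜ := Finset.mem_compl.mpr (h x hx)
      rw [← h4] at h5
      obtain ⟨y, hy, hyx⟩ := Finset.mem_map.mp h5
      have : k⁻¹ (g x) = y := by
        rw [← hyx]
        exact inv_apply k y
      rw [Perm.mul_apply, this]
      exact hy

end Cfsg.Agent.H165.HallAlt
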