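import Mathlib
import Cfsg.Agent.H165.HallAltTrans
import Cfsg.Agent.H891.MinDegTwo

/-!
# Hall subgroups of alternating groups: the transitive case, primitive part
-/

set_option autoImplicit false
set_option linter.unusedSectionVars false

namespace Cfsg.Agent.H165.HallAlt

open Equiv Equiv.Perm MulAction Cfsg.Agent.OddOrderLocal.HallPi

universe u

variable {Ω : Type u} [Fintype Ω] [DecidableEq Ω]

/-- Every prime at most `n` divides the order of the alternating group. -/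
theorem prime_dvd_card_alt (h4 : 4 ≤ Fintype.card Ω) {p : ℕ} (hp : p.Prime)
    (hpn : p ≤ Fintype.card Ω) : p ∣ Nat.card (alternatingGroup Ω) := by
  have : Nontrivial Ω := Fintype.one_lt_card_iff_nontrivial.mp (by omega)
  have h1 := two_mul_nat_card_alternatingGroup (α := Ω)
  rw [Nat.card_perm, Nat.card_eq_fintype_card (α := Ω)] at h1
  by_cases h2 : p = 2
  · subst h2
    have h3 : 2 * 2 ∣ 2 * Nat.card (alternatingGroup Ω) := by
      rw [h1]
      exact Nat.dvd_factorial (by norm_num) h4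
    exact Nat.dvd_of_mul_dvd_mul_left (by norm_num) h3
  · have h3 : p ∣ 2 * Nat.card (alternatingGroup Ω) := by
      rw [h1]
      exact Nat.dvd_factorial hp.pos hpn
    rcases (Nat.Prime.dvd_mul hp).mp h3 with h | h
    · exact absurd ((Nat.prime_dvd_prime_iff_eq hp Nat.prime_two).mp h) h2
    · exact h

theorem pretransitive_of {M : Subgroup (Perm Ω)} {α : Ω} (ht : ∀ x, ∃ h ∈ M, h α = x) :
    IsPretransitive M Ω := by
  constructor
  intro x y
  obtain ⟨h, hh, rfl⟩ := ht x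
  obtain ⟨k, hk, rfl⟩ := ht y
  refine ⟨⟨k * h⁻¹, M.mul_mem hk (M.inv_mem hh)⟩, ?_⟩
  change (k * h⁻¹) (h α) = k α
  rw [Perm.mul_apply, inv_apply]

/-- Transitive of degree 9 with stabilizer `(S₄ wr S₂) ∩ A₈`. -/
theorem transD {M : Subgroup (Perm Ω)} {α : Ω}
    (hn : Fintype.card Ω = 9) {S : Finset Ω} (hS : S.card = 4) (hαS : α ∉ S)
    (ht : ∀ x, ∃ h ∈ M, h α = x)
    (hs : ∀ g ∈ alternatingGroup Ω, g α = α →
      (g ∈ M ↔ ((∀ x ∈ S, g x ∈ S) ∨ (∀ x ∈ S, g x ∉ S))))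
    (hsw : ∃ g ∈ M, g α = α ∧ ∀ x ∈ S, g x ∉ S) : alternatingGroup Ω ≤ M := by
  obtain ⟨sw, hswM, hswα, hsw⟩ := hsw
  -- transitivity within S
  have hT1 : ∀ x ∈ S, ∀ y ∈ S, ∃ g ∈ M, g α = α ∧ g x = y := by
    intro x hx y hy
    by_cases hxy : x = y
    · exact ⟨1, M.one_mem, rfl, hxy⟩
    have hc3 : 0 < (S \ {x, y}).card := by
      have h1 := Finset.le_card_sdiff ({x, y} : Finset Ω) S
      have h2 := Finset.card_le_two (a := x) (b := y)
      omega
    obtain ⟨z, hz⟩ := Finset.card_pos.mp hc3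
    rw [Finset.mem_sdiff] at hz
    simp only [Finset.mem_insert, Finset.mem_singleton, not_or] at hz
    have h1 : c3 x y z α = α := c3_other (fun h => hαS (h ▸ hx)) (fun h => hαS (h ▸ hy))
        (fun h => hαS (h ▸ hz.1))
    exact ⟨c3 x y z, (hs _ (c3_mem hxy (Ne.symm hz.2.2)) h1).mpr
      (Or.inl (c3_preserves hx hy hz.1)), h1, c3_left hxy (Ne.symm hz.2.1)⟩
  have hT2 : ∀ x ∉ S, x ≠ α → ∀ y ∉ S, y ≠ α → ∃ g ∈ M, g α = α ∧ g x = y := by
    intro x hx hxα y hy hyα
    by_cases hxy : x = y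
    · exact ⟨1, M.one_mem, rfl, hxy⟩
    have hc3 : 0 < (Sᶜ \ {x, y, α}).card := by
      have h1 := Finset.le_card_sdiff ({x, y, α} : Finset Ω) Sᶜ
      have h2 := Finset.card_le_three (a := x) (b := y) (c := α)
      have h3 : Sᶜ.card = 5 := by rw [Finset.card_compl, hn, hS]
      omega
    obtain ⟨z, hz⟩ := Finset.card_pos.mp hc3
    rw [Finset.mem_sdiff, Finset.mem_compl] at hz
    simp only [Finset.mem_insert, Finset.mem_singleton, not_or] at hz
    have h1 : c3 x y z α = α := c3_other hxα.symm hyα.symm (Ne.symm hz.2.2.2)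
    exact ⟨c3 x y z, (hs _ (c3_mem hxy (Ne.symm hz.2.2.1)) h1).mpr
      (Or.inl (c3_preserves' hx hy hz.1)), h1, c3_left hxy (Ne.symm hz.2.1)⟩
  have hswne : ∀ x ∈ S, sw x ≠ α := by
    intro x hx h
    have : sw x = sw α := by rw [h, hswα]
    have := sw.injective this
    exact hαS (this ▸ hx)
  have hT3 : ∀ x ∈ S, ∀ y ∉ S, y ≠ α → ∃ g ∈ M, g α = α ∧ g x = y := by
    intro x hx y hy hyα
    obtain ⟨g, hg, hgα, hgx⟩ := hT2 (sw x) (hsw x hx) (hswne x hx) y hy hyα
    exact ⟨g * sw, M.mul_mem hg hswM, by rw [Perm.mul_apply, hswα, hgα],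
      by rw [Perm.mul_apply, hgx]⟩
  have hT : ∀ x y, x ≠ α → y ≠ α → ∃ g ∈ M, g α = α ∧ g x = y := by
    intro x y hx hy
    by_cases h1 : x ∈ S
    · by_cases h2 : y ∈ S
      · exact hT1 x h1 y h2
      · exact hT3 x h1 y h2 hy
    · by_cases h2 : y ∈ S
      · obtain ⟨g, hg, hgα, hgx⟩ := hT3 y h2 x h1 hx
        exact ⟨g⁻¹, M.inv_mem hg, by rw [Perm.inv_eq_iff_eq, hgα], by
          rw [Perm.inv_eq_iff_eq, hgx]⟩
      · exact hT2 x h1 hx y h2 hy
  have h2t : IsMultiplyPretransitive M Ω 2 := by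
    rw [is_two_pretransitive_iff]
    intro a b c d hab hcd
    obtain ⟨h, hh, rfl⟩ := ht a
    obtain ⟨k, hk, rfl⟩ := ht c
    obtain ⟨g, hg, hgα, hgx⟩ := hT (h⁻¹ b) (k⁻¹ d)
      (by intro e; rw [Perm.inv_eq_iff_eq] at e; exact hab e.symm)
      (by intro e; rw [Perm.inv_eq_iff_eq] at e; exact hcd e.symm)
    refine ⟨⟨k * g * h⁻¹, M.mul_mem (M.mul_mem hk hg) (M.inv_mem hh)⟩, ?_, ?_⟩
    · change (k * g * h⁻¹) (h α) = k α
      rw [Perm.mul_apply, Perm.mul_apply, inv_apply, hgα]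
    · change (k * g * h⁻¹) b = d
      rw [Perm.mul_apply, Perm.mul_apply, hgx, apply_inv]
  have hprim : IsPreprimitive M Ω := isPreprimitive_of_is_two_pretransitive h2t
  -- a 3-cycle in `S`
  obtain ⟨x, hx, y, hy, z, hz, hxy, hxz, hyz⟩ := Finset.two_lt_card.mp (show 2 < S.card by omega)
  have h1 : c3 x y z α = α := c3_other (fun h => hαS (h ▸ hx)) (fun h => hαS (h ▸ hy))
        (fun h => hαS (h ▸ hz))
  have h2 : c3 x y z ∈ M := (hs _ (c3_mem hxy hyz) h1).mpr (Or.inl (c3_preserves hx hy hz))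
  have h3 : (c3 x y z).IsThreeCycle := by
    rw [c3, swap_comm x y]
    exact isThreeCycle_swap_mul_swap_same hxy.symm hyz hxz
  exact alternatingGroup_le_of_isPreprimitive_of_isThreeCycle_mem hprim h3 h2

/-! ### Two-transitivity from Jordan sets -/

/-- If a primitive group contains a subgroup acting transitively on the proper subset `Δ` with at
least two points and fixing the other points then it is 2-transitive. -/
theorem two_trans_of_jordan {M : Subgroup (Perm Ω)} (hprim : IsPreprimitive M Ω) {Δ : Finset Ω}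
    (h2 : 2 ≤ Δ.card) (hlt : Δ.card < Fintype.card Ω)
    (htr : ∀ x ∈ Δ, ∀ y ∈ Δ, ∃ g ∈ M, g ∈ fixU Δ ∧ g x = y) : IsMultiplyPretransitive M Ω 2 := by
  apply hprim.is_two_pretransitive (s := ((Δᶜ : Finset Ω) : Set Ω))
    (n := Fintype.card Ω - Δ.card - 1)
  · rw [Set.ncard_coe_finset, Finset.card_compl]
    omega
  · rw [Nat.card_eq_fintype_card]
    omega
  · constructor
    rintro ⟨x, hx⟩ ⟨y, hy⟩
    rw [SubMulAction.mem_ofFixingSubgroup_iff, Finset.mem_coe, Finset.mem_compl, not_not] at hx hy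
    obtain ⟨g, hg, hgf, hgx⟩ := htr x hx y hy
    refine ⟨⟨⟨g, hg⟩, ?_⟩, ?_⟩
    · rw [mem_fixingSubgroup_iff]
      intro z hz
      rw [Finset.mem_coe, Finset.mem_compl] at hz
      exact hgf z hz
    · apply Subtype.ext
      exact hgx

theorem dvd_of_two_trans {M : Subgroup (Perm Ω)} (h : IsMultiplyPretransitive M Ω 2)
    (hn : 2 ≤ Fintype.card Ω) : Fintype.card Ω - 1 ∣ Nat.card M := by
  rw [is_two_pretransitive_iff] at h
  obtain ⟨α, β, hαβ⟩ := Fintype.exists_pair_of_one_lt_card (show 1 < Fintype.card Ω by omega)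
  set K := M ⊓ fixU (Finset.univ.erase α) with hK
  have h1 : orbF K β = Finset.univ.erase α := by
    ext y
    rw [mem_orbF, Finset.mem_erase]
    constructor
    · rintro ⟨g, hg, rfl⟩
      refine ⟨?_, Finset.mem_univ _⟩
      intro e
      have h2 : g α = α := mem_fixU_erase.mp hg.2
      have : g β = g α := by rw [e, h2]
      exact hαβ (g.injective this).symm
    · rintro ⟨hy, -⟩
      obtain ⟨⟨g, hg⟩, hg1, hg2⟩ := h hαβ (Ne.symm hy)
      exact ⟨g, ⟨hg, mem_fixU_erase.mpr hg1⟩, hg2⟩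
  have h2 := card_orbF_dvd K β
  rw [h1, Finset.card_erase_of_mem (Finset.mem_univ α), Finset.card_univ] at h2
  exact h2.trans (Subgroup.card_dvd_of_le inf_le_left)

/-! ### Simple groups and small index -/

theorem card_le_factorial_index {G : Type*} [Group G] [Finite G] [IsSimpleGroup G]
    {H : Subgroup G} (hH : H ≠ ⊤) : Nat.card G ≤ H.index.factorial := by
  have h0 : H.normalCore = ⊥ := by
    rcases (H.normalCore_normal).eq_bot_or_eq_top with h | h
    · exact h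
    · exact absurd (top_unique (h ▸ H.normalCore_le)) hH
  have h : H.normalCore.index ∣ H.index.factorial := by
    rw [Subgroup.normalCore_eq_ker, Subgroup.index_ker, Subgroup.index_eq_card, ← Nat.card_perm]
    exact Subgroup.card_subgroup_dvd_card (toPermHom G (G ⧸ H)).range
  rw [h0, Subgroup.index_bot] at h
  exact Nat.le_of_dvd (Nat.factorial_pos _) h

/-! ### The Klein four-group -/

/-- The Klein four group in `Perm (Fin 4)`. -/
def V4 : Subgroup (Perm (Fin 4)) where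
  carrier := {g | g = 1 ∨ g = swap 0 1 * swap 2 3 ∨ g = swap 0 2 * swap 1 3 ∨
    g = swap 0 3 * swap 1 2}
  mul_mem' := by
    rintro a b (rfl | rfl | rfl | rfl) (rfl | rfl | rfl | rfl) <;> decide
  one_mem' := Or.inl rfl
  inv_mem' := by
    rintro a (rfl | rfl | rfl | rfl) <;> decide

theorem V4_sq : ∀ g ∈ V4, g ^ 2 = 1 := by
  rintro a (rfl | rfl | rfl | rfl) <;> decide

theorem V4_sign : ∀ g ∈ V4, sign g = 1 := by
  rintro a (rfl | rfl | rfl | rfl) <;> decide

theorem V4_trans : ∀ i j : Fin 4, ∃ g ∈ V4, g i = j := by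
  intro i j
  have h : ∀ i j : Fin 4, (1 : Perm (Fin 4)) i = j ∨ (swap 0 1 * swap 2 3 : Perm (Fin 4)) i = j ∨
    (swap 0 2 * swap 1 3 : Perm (Fin 4)) i = j ∨ (swap 0 3 * swap 1 2 : Perm (Fin 4)) i = j := by
    decide
  rcases h i j with h | h | h | h
  · exact ⟨_, Or.inl rfl, h⟩
  · exact ⟨_, Or.inr (Or.inl rfl), h⟩
  · exact ⟨_, Or.inr (Or.inr (Or.inl rfl)), h⟩
  · exact ⟨_, Or.inr (Or.inr (Or.inr rfl)), h⟩

theorem V4_isPGroup : IsPGroup 2 V4 := by
  intro g
  refine ⟨1, Subtype.ext ?_⟩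
  exact V4_sq g g.2

/-- A subgroup of odd index of `A_n` contains a Klein four group acting regularly on four
points. -/
theorem exists_four {M : Subgroup (Perm Ω)} (h : ¬ 2 ∣ M.relIndex (alternatingGroup Ω))
    (h4 : 4 ≤ Fintype.card Ω) :
    ∃ ι : Fin 4 ↪ Ω, ∀ g ∈ V4, g.viaEmbedding ι ∈ M := by
  obtain ⟨ι⟩ : Nonempty (Fin 4 ↪ Ω) := by
    apply Function.Embedding.nonempty_of_card_le
    rwa [Fintype.card_fin]
  have hsign : ∀ g : Perm (Fin 4), sign (g.viaEmbedding ι) = sign g := by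
    intro g
    unfold Perm.viaEmbedding
    letI : DecidablePred (fun x => x ∈ Set.range ι.1) := fun a => Classical.propDecidable _
    exact sign_extendDomain g (Equiv.ofInjective ι.1 ι.2)
  have hP : IsPGroup 2 (V4.map (viaEmbeddingHom ι)) := V4_isPGroup.map _
  obtain ⟨a, -, ha⟩ := exists_conj_le h hP (by
    rintro _ ⟨g, hg, rfl⟩
    rw [mem_alternatingGroup, viaEmbeddingHom_apply, hsign, V4_sign g hg])
  refine ⟨ι.trans (a⁻¹).toEmbedding, fun g hg => ?_⟩
  have h1 := ha _ ⟨g, hg, rfl⟩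
  convert h1 using 1
  ext x
  rw [viaEmbeddingHom_apply, Perm.mul_apply, Perm.mul_apply]
  by_cases hx : ∃ i, (ι.trans (a⁻¹).toEmbedding) i = x
  · obtain ⟨i, rfl⟩ := hx
    rw [viaEmbedding_apply]
    have e : ∀ j, (ι.trans (a⁻¹).toEmbedding) j = a⁻¹ (ι j) := fun j => rfl
    rw [e, e, apply_inv, viaEmbedding_apply]
  · rw [viaEmbedding_apply_of_notMem _ _ _ (by
      rintro ⟨i, hi⟩; exact hx ⟨i, hi⟩), viaEmbedding_apply_of_notMem, inv_apply]
    rintro ⟨i, hi⟩
    apply hx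
    refine ⟨i, ?_⟩
    change a⁻¹ (ι i) = x
    rw [hi, inv_apply]

end Cfsg.Agent.H165.HallAlt
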