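import Mathlib
import Cfsg.Agent.H165.HallAltPrim
import Cfsg.Agent.H165.ChooseDiv

/-!
# Hall subgroups of alternating groups: the main theorem
-/

set_option autoImplicit false
set_option linter.unusedSectionVars false

namespace Cfsg.Agent.H165.HallAlt

open Equiv Equiv.Perm MulAction Cfsg.Agent.OddOrderLocal.HallPi

universe u

variable {Ω : Type u} [Fintype Ω] [DecidableEq Ω]

/-- The case of prime degree with only one smaller prime in `π`. -/
theorem transE {π : Set ℕ} {M : Subgroup (Perm Ω)}
    (hM : Cfsg.IsPiHallOf π M (alternatingGroup Ω)) (hn5 : 5 ≤ Fintype.card Ω)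
    (hnp : (Fintype.card Ω).Prime) (hnπ : Fintype.card Ω ∈ π) {α : Ω}
    (ht : ∀ x, ∃ h ∈ M, h α = x) {r : ℕ} (hr : r.Prime) (hrn : r < Fintype.card Ω) (hrπ : r ∈ π)
    (huniq : ∀ p : ℕ, p.Prime → p ∈ π → p < Fintype.card Ω → p = r) : False := by
  have hprim : IsPreprimitive M Ω := by
    have := pretransitive_of ht
    exact IsPreprimitive.of_prime_card (by rw [Nat.card_eq_fintype_card]; exact hnp)
  have hA : ¬ alternatingGroup Ω ≤ M := by
    intro hA
    have h2 := huniq 2 Nat.prime_two (hM.2.1 2 Nat.prime_two
      ((prime_dvd_card_alt (by omega) Nat.prime_two (by omega)).trans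
        (Subgroup.card_dvd_of_le hA))) (by omega)
    have h3 := huniq 3 Nat.prime_three (hM.2.1 3 Nat.prime_three
      ((prime_dvd_card_alt (by omega) Nat.prime_three (by omega)).trans
        (Subgroup.card_dvd_of_le hA))) (by omega)
    omega
  by_cases hr2 : r = 2
  · subst hr2
    obtain ⟨ι, hι⟩ := exists_four (hM.2.2 2 Nat.prime_two hrπ) (by omega)
    have hcard : (Finset.univ.map ι).card = 4 := by rw [Finset.card_map]; rfl
    have h2t : IsMultiplyPretransitive M Ω 2 := by
      apply two_trans_of_jordan hprim (Δ := Finset.univ.map ι) (by omega) (by omega)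
      intro x hx y hy
      obtain ⟨i, -, rfl⟩ := Finset.mem_map.mp hx
      obtain ⟨j, -, rfl⟩ := Finset.mem_map.mp hy
      obtain ⟨g, hg, hgi⟩ := V4_trans i j
      refine ⟨g.viaEmbedding ι, hι g hg, ?_, by rw [viaEmbedding_apply, hgi]⟩
      intro z hz
      apply viaEmbedding_apply_of_notMem
      rintro ⟨k, rfl⟩
      exact hz (by simp)
    have hdvd := dvd_of_two_trans h2t (by omega)
    have h2t' : ∀ {a b c d : Ω}, a ≠ b → c ≠ d → ∃ g : M, g • a = c ∧ g • b = d :=
      is_two_pretransitive_iff.mp h2t
    set g0 : Perm (Fin 4) := swap 0 1 * swap 2 3 with hg0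
    have hg0V : g0 ∈ V4 := Or.inr (Or.inl rfl)
    have hb := H891.MinDeg.two_trans_bound (G := M) hprim (by
        intro h
        apply hA
        refine h.trans ?_
        rintro _ ⟨g, rfl⟩
        exact g.2) (by
        intro p x y hx hy
        obtain ⟨k, hk1, hk2⟩ := h2t' (Ne.symm hx) (Ne.symm hy)
        exact ⟨k, hk1, hk2⟩) ⟨g0.viaEmbedding ι, hι g0 hg0V⟩ (ι 0) (by
        change (g0.viaEmbedding ι) (ι 0) ≠ ι 0
        rw [viaEmbedding_apply]
        intro e
        exact absurd (ι.injective e) (by decide))
    have hsub : (Finset.univ.filter (fun x : Ω =>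
        (⟨g0.viaEmbedding ι, hι g0 hg0V⟩ : M) • x ≠ x)).card ≤ 4 := by
      refine le_trans (Finset.card_le_card ?_) hcard.le
      intro x hx
      rw [Finset.mem_filter] at hx
      by_contra hc
      apply hx.2
      change (g0.viaEmbedding ι) x = x
      apply viaEmbedding_apply_of_notMem
      rintro ⟨k, rfl⟩
      exact hc (by simp)
    generalize (Finset.univ.filter (fun x : Ω =>
        (⟨g0.viaEmbedding ι, hι g0 hg0V⟩ : M) • x ≠ x)).card = c at hb hsub
    have hc3 : c - 1 ≤ 3 := by omega
    have hb2 : Fintype.card Ω - 1 ≤ 9 := hb.trans (by nlinarith)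
    have h3π : ¬ 3 ∣ Nat.card M := by
      intro h3
      have := huniq 3 Nat.prime_three (hM.2.1 3 Nat.prime_three h3) (by omega)
      omega
    have h5or7 : Fintype.card Ω = 5 ∨ Fintype.card Ω = 7 := by
      have h1 : Fintype.card Ω ≤ 10 := by omega
      generalize Fintype.card Ω = n at hnp hn5 h1
      interval_cases n
      · left; rfl
      · exact absurd hnp (by norm_num)
      · right; rfl
      · exact absurd hnp (by norm_num)
      · exact absurd hnp (by norm_num)
      · exact absurd hnp (by norm_num)
    rcases h5or7 with h5 | h7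
    · have hnt : Nontrivial Ω := Fintype.one_lt_card_iff_nontrivial.mp (by omega)
      have h1 := two_mul_nat_card_alternatingGroup (α := Ω)
      rw [Nat.card_perm, Nat.card_eq_fintype_card (α := Ω), h5] at h1
      have h2 : Nat.card (alternatingGroup Ω) = 60 := by
        have : Nat.factorial 5 = 120 := rfl
        omega
      have h3 := card_mul_relIndex hM.1
      rw [h2] at h3
      have h4 : M.relIndex (alternatingGroup Ω) ∣ 60 := ⟨Nat.card M, by rw [← h3]; ring⟩
      have h6 : M.relIndex (alternatingGroup Ω) ∣ 3 := by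
        have hcop : Nat.Coprime (M.relIndex (alternatingGroup Ω)) 20 := by
          rw [show 20 = 2 ^ 2 * 5 by norm_num]
          apply Nat.Coprime.mul_right
          · apply Nat.Coprime.pow_right
            rw [Nat.coprime_comm, Nat.Prime.coprime_iff_not_dvd Nat.prime_two]
            exact hM.2.2 2 Nat.prime_two hrπ
          · rw [Nat.coprime_comm, Nat.Prime.coprime_iff_not_dvd Nat.prime_five]
            exact hM.2.2 5 Nat.prime_five (h5 ▸ hnπ)
        rw [show 60 = 20 * 3 by norm_num] at h4
        exact hcop.dvd_of_dvd_mul_left h4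
      have hsimp : IsSimpleGroup (alternatingGroup Ω) :=
        alternatingGroup.isSimpleGroup (by rw [Nat.card_eq_fintype_card]; omega)
      have hne : M.subgroupOf (alternatingGroup Ω) ≠ ⊤ := by
        intro h
        exact hA (Subgroup.subgroupOf_eq_top.mp h)
      have h7 := card_le_factorial_index hne
      have h8 : (M.subgroupOf (alternatingGroup Ω)).index ≤ 3 := Nat.le_of_dvd (by norm_num) h6
      have h9 := Nat.factorial_le h8
      rw [h2] at h7
      have : Nat.factorial 3 = 6 := rfl
      omega
    · apply h3π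
      rw [h7] at hdvd
      exact (show 3 ∣ 7 - 1 by norm_num).trans hdvd
  · -- `r` odd
    have hrodd : r % 2 = 1 := hr.eq_two_or_odd.resolve_left hr2
    have : Fact r.Prime := ⟨hr⟩
    obtain ⟨g, hg, hgc⟩ := exists_mem_cycleType (p := r) (M := M) (hM.2.2 r hr hrπ) (m := {r})
      (by rw [Multiset.sum_singleton]; exact hrn.le)
      (by
        intro a ha
        rw [Multiset.mem_singleton] at ha
        exact ⟨1, one_pos, by rw [ha, pow_one]⟩)
      (by
        rw [Multiset.sum_singleton, Multiset.card_singleton]
        have : Even (r + 1) := by rw [Nat.even_iff]; omega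
        exact this.neg_one_pow)
    have hcyc : g.IsCycle := by
      rw [← card_cycleType_eq_one, hgc, Multiset.card_singleton]
    have hsupp : g.support.card = r := by
      rw [← sum_cycleType, hgc, Multiset.sum_singleton]
    have h2t : IsMultiplyPretransitive M Ω 2 := by
      apply two_trans_of_jordan hprim (Δ := g.support) (by rw [hsupp]; exact hr.two_le)
        (by rw [hsupp]; exact hrn)
      intro x hx y hy
      obtain ⟨i, hi⟩ := hcyc.exists_zpow_eq (mem_support.mp hx) (mem_support.mp hy)
      refine ⟨g ^ i, M.zpow_mem hg i, ?_, hi⟩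
      intro z hz
      exact zpow_apply_eq_self_of_apply_eq_self (notMem_support.mp hz) i
    have hdvd := dvd_of_two_trans h2t (by omega)
    have hodd : Fintype.card Ω % 2 = 1 := hnp.eq_two_or_odd.resolve_left (by omega)
    have h2 : 2 ∣ Nat.card M := (show 2 ∣ Fintype.card Ω - 1 by omega).trans hdvd
    exact hr2 (huniq 2 Nat.prime_two (hM.2.1 2 Nat.prime_two h2) (by omega)).symm

/-- The conclusion of the main theorem. -/
def Concl (π : Set ℕ) (M : Subgroup (Perm Ω)) : Prop :=
  (M = alternatingGroup Ω ∧ ∀ p : ℕ, p.Prime → p ≤ Fintype.card Ω → p ∈ π) ∨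
  ((Fintype.card Ω).Prime ∧
    (∀ p : ℕ, p.Prime → p ≤ Fintype.card Ω → (p ∈ π ↔ p < Fintype.card Ω)) ∧
    ∃ a : Ω, ∀ g, g ∈ M ↔ g ∈ alternatingGroup Ω ∧ g a = a) ∨
  (Fintype.card Ω = 7 ∧ (∀ p : ℕ, p.Prime → p ≤ 7 → (p ∈ π ↔ p = 2 ∨ p = 3)) ∧
    ∃ S : Finset Ω, S.card = 4 ∧ ∀ g, g ∈ M ↔ g ∈ alternatingGroup Ω ∧ ∀ x ∈ S, g x ∈ S) ∨
  (Fintype.card Ω = 8 ∧ (∀ p : ℕ, p.Prime → p ≤ 8 → (p ∈ π ↔ p = 2 ∨ p = 3)) ∧
    ∃ S : Finset Ω, S.card = 4 ∧ ∀ g, g ∈ M ↔ g ∈ alternatingGroup Ω ∧
      ((∀ x ∈ S, g x ∈ S) ∨ (∀ x ∈ S, g x ∉ S)))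

theorem relIndex_ne_one_of_ne {M : Subgroup (Perm Ω)} (h : M ≤ alternatingGroup Ω)
    (h1 : M.relIndex (alternatingGroup Ω) = 1) : M = alternatingGroup Ω :=
  le_antisymm h (Subgroup.relIndex_eq_one.mp h1)

/-- The transitive case. -/
theorem transitive_case {π : Set ℕ} {M : Subgroup (Perm Ω)}
    (IH : ∀ (U : Finset Ω), U.card < Fintype.card Ω →
      ∀ (L : Subgroup (Perm {x // x ∈ U})),
      Cfsg.IsPiHallOf π L (alternatingGroup {x // x ∈ U}) →
      (∃ r s : ℕ, r.Prime ∧ s.Prime ∧ r < s ∧ r ∈ π ∧ s ∈ π ∧ s ≤ U.card) → Concl π L)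
    (hM : Cfsg.IsPiHallOf π M (alternatingGroup Ω)) {r s : ℕ} (hr : r.Prime) (hs : s.Prime)
    (hrs : r < s) (hrπ : r ∈ π) (hsπ : s ∈ π) (hsn : s ≤ Fintype.card Ω) {α : Ω}
    (htr : orbF M α = Finset.univ) : Concl π M := by
  have ht : ∀ x, ∃ h ∈ M, h α = x := by
    intro x
    exact mem_orbF.mp (by rw [htr]; exact Finset.mem_univ x)
  have hn3 : 3 ≤ Fintype.card Ω := by
    have := hr.two_le
    omega
  have hndvd : Fintype.card Ω ∣ Nat.card M := by
    have := card_orbF_dvd M α
    rwa [htr, Finset.card_univ] at this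
  by_cases hex : ∃ r s : ℕ, r.Prime ∧ s.Prime ∧ r < s ∧ r ∈ π ∧ s ∈ π ∧ s ≤ Fintype.card Ω - 1
  · obtain ⟨U, hU⟩ : ∃ U : Finset Ω, U = Finset.univ.erase α := ⟨_, rfl⟩
    have hUcard : U.card = Fintype.card Ω - 1 := by
      rw [hU, Finset.card_erase_of_mem (Finset.mem_univ α), Finset.card_univ]
    have hαU : α ∉ U := by rw [hU]; simp
    have hmemU : ∀ x, x ∈ U ↔ x ≠ α := by intro x; rw [hU]; simp
    have hL := hall_point hM htr hU
    have hfix : ∀ {g : Perm Ω}, g α = α → g ∈ fixU U := by
      intro g hg
      rw [hU]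
      exact mem_fixU_erase.mpr hg
    have hincα : ∀ σ : Perm {x // x ∈ U}, incl U σ α = α := by
      intro σ
      exact incl_mem_fixU σ α hαU
    have hincA : ∀ σ : Perm {x // x ∈ U}, incl U σ ∈ alternatingGroup Ω ↔
        σ ∈ alternatingGroup {x // x ∈ U} := by
      intro σ
      rw [mem_alternatingGroup, mem_alternatingGroup]
      rw [show sign (incl U σ) = sign σ from Perm.sign_ofSubtype σ]
    have hinc : ∀ (σ : Perm {x // x ∈ U}) (x : {x // x ∈ U}), incl U σ x = σ x := by
      intro σ x
      exact Perm.ofSubtype_apply_coe σ x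
    have hcardU : Fintype.card {x // x ∈ U} = Fintype.card Ω - 1 := by
      rw [Fintype.card_coe, hUcard]
    rcases IH U (by omega) _ hL (by
      obtain ⟨r, s, h1, h2, h3, h4, h5, h6⟩ := hex
      exact ⟨r, s, h1, h2, h3, h4, h5, by omega⟩) with hA | hB | hC | hD
    · -- `A_{n-1}`
      left
      have h1 : M.relIndex (alternatingGroup Ω) = 1 := by
        rw [← relIndex_point hM.1 htr, ← hU, ← relIndex_comap_incl, hA.1, Subgroup.relIndex_self]
      refine ⟨relIndex_ne_one_of_ne hM.1 h1, ?_⟩
      intro p hp hpn
      rcases Nat.lt_or_ge p (Fintype.card Ω) with h | h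
      · exact hA.2 p hp (by rw [hcardU]; omega)
      · have : p = Fintype.card Ω := le_antisymm hpn h
        exact hM.2.1 p hp (this ▸ hndvd)
    · exfalso
      obtain ⟨hprime, hπ, ⟨b, hb⟩, hbL⟩ := hB
      rw [hcardU] at hprime hπ
      have hn6 : 6 ≤ Fintype.card Ω := by
        obtain ⟨r, s, h1, h2, h3, h4, h5, h6⟩ := hex
        have h7 := (hπ s h2 h6).mp h5
        have h8 := h1.two_le
        have h9 : Fintype.card Ω - 1 ≠ 4 := by
          intro h; rw [h] at hprime; revert hprime; norm_num
        omega
      have hbα : α ≠ b := by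
        rintro rfl
        exact hαU hb
      apply transB hn6 hbα ht
      intro g hg hgα
      obtain ⟨σ, rfl⟩ := exists_incl (hfix hgα)
      have h1 := hbL σ
      rw [Subgroup.mem_comap] at h1
      rw [h1]
      constructor
      · rintro ⟨-, h2⟩
        have := hinc σ ⟨b, hb⟩
        rw [h2] at this
        exact this
      · intro h2
        refine ⟨(hincA σ).mp hg, ?_⟩
        apply Subtype.ext
        rw [← hinc σ ⟨b, hb⟩]
        exact h2
    · obtain ⟨h7, hπ, S, hS, hSL⟩ := hC
      rw [hcardU] at h7
      right; right; right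
      have h8 : Fintype.card Ω = 8 := by omega
      refine ⟨h8, ?_, S.map (Function.Embedding.subtype _), by rw [Finset.card_map, hS], ?_⟩
      · intro p hp hp8
        have : p ≠ 8 := by rintro rfl; revert hp; norm_num
        exact hπ p hp (by omega)
      · apply transC hM.1 h8 (by rw [Finset.card_map, hS]) (α := α) ?_ ht
        · intro g hg hgα
          obtain ⟨σ, rfl⟩ := exists_incl (hfix hgα)
          have h1 := hSL σ
          rw [Subgroup.mem_comap] at h1
          rw [h1]
          constructor
          · rintro ⟨-, h2⟩ x hx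
            obtain ⟨y, hy, rfl⟩ := Finset.mem_map.mp hx
            have h3 := h2 y hy
            exact Finset.mem_map.mpr ⟨σ y, h3, (hinc σ y).symm⟩
          · intro h2
            refine ⟨(hincA σ).mp hg, ?_⟩
            intro y hy
            have h3 := h2 y (Finset.mem_map.mpr ⟨y, hy, rfl⟩)
            rw [hinc] at h3
            obtain ⟨z, hz, hzy⟩ := Finset.mem_map.mp h3
            have : z = σ y := Subtype.ext hzy
            rwa [← this]
        · intro h
          obtain ⟨y, hy, hyα⟩ := Finset.mem_map.mp h
          apply hαU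
          rw [← hyα]
          exact y.2
    · exfalso
      obtain ⟨h8, hπ, S, hS, hSL⟩ := hD
      rw [hcardU] at h8
      have h9 : Fintype.card Ω = 9 := by omega
      have h2π : 2 ∈ π := (hπ 2 Nat.prime_two (by norm_num)).mpr (Or.inl rfl)
      have h5π : 5 ∉ π := by
        intro h
        have := (hπ 5 Nat.prime_five (by norm_num)).mp h
        omega
      apply h5π
      have hA : alternatingGroup Ω ≤ M := by
        have hs' : ∀ g ∈ alternatingGroup Ω, g α = α →
            (g ∈ M ↔ ((∀ x ∈ S.map (Function.Embedding.subtype (fun x => x ∈ U)),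
              g x ∈ S.map (Function.Embedding.subtype (fun x => x ∈ U))) ∨
              (∀ x ∈ S.map (Function.Embedding.subtype (fun x => x ∈ U)),
              g x ∉ S.map (Function.Embedding.subtype (fun x => x ∈ U))))) := by
          intro g hg hgα
          obtain ⟨σ, rfl⟩ := exists_incl (hfix hgα)
          have h1 := hSL σ
          rw [Subgroup.mem_comap] at h1
          rw [h1]
          have hiff : ∀ y : {x // x ∈ U}, σ y ∈ S ↔
              incl U σ y ∈ S.map (Function.Embedding.subtype (fun x => x ∈ U)) := by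
            intro y
            rw [hinc]
            constructor
            · intro h; exact Finset.mem_map.mpr ⟨σ y, h, rfl⟩
            · intro h
              obtain ⟨z, hz, hzy⟩ := Finset.mem_map.mp h
              have : z = σ y := Subtype.ext hzy
              rwa [← this]
          constructor
          · rintro ⟨-, h2 | h2⟩
            · left
              intro x hx
              obtain ⟨y, hy, rfl⟩ := Finset.mem_map.mp hx
              exact (hiff y).mp (h2 y hy)
            · right
              intro x hx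
              obtain ⟨y, hy, rfl⟩ := Finset.mem_map.mp hx
              exact fun h => h2 y hy ((hiff y).mpr h)
          · intro h2
            refine ⟨(hincA σ).mp hg, ?_⟩
            rcases h2 with h2 | h2
            · left
              intro y hy
              exact (hiff y).mpr (h2 y (Finset.mem_map.mpr ⟨y, hy, rfl⟩))
            · right
              intro y hy h
              exact h2 y (Finset.mem_map.mpr ⟨y, hy, rfl⟩) ((hiff y).mp h)
        apply transD h9 (by rw [Finset.card_map, hS]) ?_ ht hs'
        · -- an element swapping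
          by_contra hno
          push Not at hno
          have hpres : M.comap (incl U) ≤ setStab S := by
            intro σ hσ
            rcases ((hSL σ).mp hσ).2 with h | h
            · exact mem_setStab_of_forall h
            · exfalso
              obtain ⟨x, hx, hx2⟩ := hno (incl U σ) hσ (hincα σ)
              obtain ⟨y, hy, rfl⟩ := Finset.mem_map.mp hx
              have h3 : incl U σ y ∈ S.map (Function.Embedding.subtype (fun x => x ∈ U)) := hx2
              rw [hinc] at h3
              obtain ⟨z, hz, hzy⟩ := Finset.mem_map.mp h3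
              have h4 : z = σ y := Subtype.ext hzy
              exact h y hy (h4 ▸ hz)
          have h1 := choose_dvd hL.1 hpres (by rw [hcardU]; omega)
          rw [hcardU, h9, hS] at h1
          exact hL.2.2 2 Nat.prime_two h2π ((show 2 ∣ Nat.choose (9 - 1) 4 by decide).trans h1)
        · intro h
          obtain ⟨y, hy, hyα⟩ := Finset.mem_map.mp h
          apply hαU
          rw [← hyα]
          exact y.2
      exact hM.2.1 5 Nat.prime_five ((prime_dvd_card_alt (by omega) Nat.prime_five
        (by omega)).trans (Subgroup.card_dvd_of_le hA))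
  · -- `s = n`, `r` the only smaller prime
    have hsn' : s = Fintype.card Ω := by
      by_contra hne
      exact hex ⟨r, s, hr, hs, hrs, hrπ, hsπ, by omega⟩
    have huniq : ∀ p : ℕ, p.Prime → p ∈ π → p < Fintype.card Ω → p = r := by
      intro p hp hpπ hpn
      by_contra hne
      rcases Nat.lt_or_gt_of_ne hne with h | h
      · exact hex ⟨p, r, hp, hr, h, hpπ, hrπ, by omega⟩
      · exact hex ⟨r, p, hr, hp, h, hrπ, hpπ, by omega⟩
    rcases Nat.lt_or_ge (Fintype.card Ω) 5 with h5 | h5
    · -- degree 3
      have h3 : Fintype.card Ω = 3 := by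
        have h4 : Fintype.card Ω ≠ 4 := by
          intro h; rw [hsn', h] at hs; revert hs; norm_num
        omega
      have hr2 : r = 2 := by
        have := hr.two_le
        omega
      subst hr2
      have hnt : Nontrivial Ω := Fintype.one_lt_card_iff_nontrivial.mp (by omega)
      have h1 := two_mul_nat_card_alternatingGroup (α := Ω)
      rw [Nat.card_perm, Nat.card_eq_fintype_card (α := Ω), h3] at h1
      have h2 : Nat.card (alternatingGroup Ω) = 3 := by
        have : Nat.factorial 3 = 6 := rfl
        omega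
      left
      have hcard := card_mul_relIndex hM.1
      rw [h2] at hcard
      have h4 : M.relIndex (alternatingGroup Ω) ∣ 3 := ⟨Nat.card M, by rw [← hcard]; ring⟩
      rcases (Nat.dvd_prime Nat.prime_three).mp h4 with h6 | h6
      · refine ⟨relIndex_ne_one_of_ne hM.1 h6, ?_⟩
        intro p hp hpn
        have := hp.two_le
        have h7 : p = 2 ∨ p = 3 := by omega
        rcases h7 with rfl | rfl
        · exact hrπ
        · rw [← h3, ← hsn']; exact hsπ
      · exfalso
        apply hM.2.2 s hs hsπ
        rw [h6, hsn', h3]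
    · exfalso
      exact transE hM h5 (hsn' ▸ hs) (hsn' ▸ hsπ) ht hr (by omega) hrπ huniq

end Cfsg.Agent.H165.HallAlt
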