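import Mathlib
import Cfsg.Agent.H165.HallAltMain

/-!
# Hall subgroups of alternating groups (P. Hall, Thompson)

`main`: let `M` be a Hall `π`-subgroup of the alternating group of degree `n`, where two primes
of `π` are at most `n`.  Then one of the following holds (see `Concl`):
* all primes `≤ n` lie in `π` and `M = A_n`;
* `n` is prime, `π` contains exactly the primes `< n` and `M` is a point stabilizer in `A_n`;
* `n = 7`, `π` meets the primes `≤ 7` in `{2, 3}`, `M` is the stabilizer in `A_n` of a 4-set;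
* `n = 8`, `π` meets the primes `≤ 8` in `{2, 3}`, `M` is the stabilizer in `A_n` of a partition
  into two 4-sets.
-/

set_option autoImplicit false
set_option linter.unusedSectionVars false

namespace Cfsg.Agent.H165.HallAlt

open Equiv Equiv.Perm MulAction Cfsg.Agent.OddOrderLocal.HallPi

universe u

variable {Ω : Type u} [Fintype Ω] [DecidableEq Ω]

theorem incl_mem_alt {U : Finset Ω} (σ : Perm {x // x ∈ U}) :
    incl U σ ∈ alternatingGroup Ω ↔ σ ∈ alternatingGroup {x // x ∈ U} := by
  rw [mem_alternatingGroup, mem_alternatingGroup]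
  rw [show sign (incl U σ) = sign σ from Perm.sign_ofSubtype σ]

theorem incl_apply {U : Finset Ω} (σ : Perm {x // x ∈ U}) (x : {x // x ∈ U}) :
    incl U σ x = σ x := Perm.ofSubtype_apply_coe σ x

theorem orbF_eq_of_mem {M : Subgroup (Perm Ω)} {x y : Ω} (h : y ∈ orbF M x) :
    orbF M y = orbF M x := by
  obtain ⟨g, hg, rfl⟩ := mem_orbF.mp h
  apply le_antisymm
  · exact orbF_subset (le_setStab_orbF M x) h
  · apply orbF_subset (le_setStab_orbF M _)
    rw [mem_orbF]
    exact ⟨g⁻¹, M.inv_mem hg, inv_apply g x⟩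

theorem eq_orbF {M : Subgroup (Perm Ω)} {x : Ω} {V : Finset Ω} (hV : V ⊆ orbF M x)
    (hne : V.Nonempty) (hM : M ≤ setStab V) : V = orbF M x := by
  obtain ⟨y, hy⟩ := hne
  apply le_antisymm hV
  rw [← orbF_eq_of_mem (hV hy)]
  exact orbF_subset hM hy

theorem eq_of_isPi {G : Type*} [Group G] [Finite G] {π : Set ℕ} {M K : Subgroup G}
    (h : Cfsg.IsPiHallOf π M K) (hK : ∀ p : ℕ, p.Prime → p ∣ Nat.card K → p ∈ π) : M = K :=
  Subgroup.eq_of_le_of_card_ge h.1
    (Nat.le_of_dvd Nat.card_pos (dvd_card_of_pi h (dvd_refl _) hK))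

/-- The intransitive case. -/
theorem intransitive_case {π : Set ℕ} {M : Subgroup (Perm Ω)}
    (IH : ∀ (U : Finset Ω), U.card < Fintype.card Ω →
      ∀ (L : Subgroup (Perm {x // x ∈ U})),
      Cfsg.IsPiHallOf π L (alternatingGroup {x // x ∈ U}) →
      (∃ r s : ℕ, r.Prime ∧ s.Prime ∧ r < s ∧ r ∈ π ∧ s ∈ π ∧ s ≤ U.card) → Concl π L)
    (hM : Cfsg.IsPiHallOf π M (alternatingGroup Ω)) {r s : ℕ} (hr : r.Prime) (hs : s.Prime)
    (hrs : r < s) (hrπ : r ∈ π) (hsπ : s ∈ π) (hsn : s ≤ Fintype.card Ω)
    (hnt : ∀ α, orbF M α ≠ Finset.univ) : Concl π M := by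
  have hr2 := hr.two_le
  have hn3 : 3 ≤ Fintype.card Ω := by omega
  have hne : (Finset.univ : Finset Ω).Nonempty := by
    rw [← Finset.card_pos, Finset.card_univ]; omega
  obtain ⟨x0, -, hmax⟩ := Finset.exists_max_image Finset.univ (fun x => (orbF M x).card) hne
  obtain ⟨O, hO⟩ : ∃ O, O = orbF M x0 := ⟨_, rfl⟩
  have hMO : M ≤ setStab O := hO ▸ le_setStab_orbF M x0
  have hOlt : O.card < Fintype.card Ω := by
    rw [← Finset.card_univ]
    apply Finset.card_lt_card
    rw [Finset.ssubset_univ_iff, hO]
    exact hnt x0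
  have hmax' : ∀ y, (orbF M y).card ≤ O.card := by
    intro y
    rw [hO]
    exact hmax y (Finset.mem_univ y)
  have hle : ∀ p : ℕ, p.Prime → p ∈ π → p ≤ Fintype.card Ω → p % 2 = 1 → p ≤ O.card := by
    intro p hp hpπ hpn hp2
    have : Fact p.Prime := ⟨hp⟩
    obtain ⟨g, hg, hgc⟩ := exists_mem_cycleType (p := p) (M := M) (hM.2.2 p hp hpπ) (m := {p})
      (by rw [Multiset.sum_singleton]; exact hpn)
      (by
        intro a ha
        rw [Multiset.mem_singleton] at ha
        exact ⟨1, one_pos, by rw [ha, pow_one]⟩)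
      (by
        rw [Multiset.sum_singleton, Multiset.card_singleton]
        have : Even (p + 1) := by rw [Nat.even_iff]; omega
        exact this.neg_one_pow)
    obtain ⟨y, hy⟩ := exists_orbF_ge hg (k := p) (by rw [hgc]; exact Multiset.mem_singleton_self p)
    exact hy.trans (hmax' y)
  have hsodd : s % 2 = 1 := hs.eq_two_or_odd.resolve_left (by omega)
  have hsO : s ≤ O.card := hle s hs hsπ hsn hsodd
  have hL := hall_comap hM hMO
  have hcardO : Fintype.card {x // x ∈ O} = O.card := Fintype.card_coe O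
  have hfixmem : ∀ σ : Perm {x // x ∈ O}, σ ∈ M.comap (incl O) ↔ incl O σ ∈ M := fun σ => Iff.rfl
  have hconjfix : ∀ g ∈ M, ∀ k ∈ fixU O, g⁻¹ * k * g ∈ fixU O := by
    intro g hg k hk
    have h1 := setStab_le_normalizer_fixU O (hMO (M.inv_mem hg))
    rw [Subgroup.mem_normalizer_iff] at h1
    have := (h1 k).mp hk
    rwa [inv_inv] at this
  -- arithmetic consequences
  have hch := choose_dvd hM.1 hMO hn3
  have hndvd : ∀ p : ℕ, p.Prime → p ∈ π → ¬ p ∣ (Fintype.card Ω).choose O.card :=
    fun p hp hpπ hd => hM.2.2 p hp hpπ (hd.trans hch)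
  obtain ⟨y, hy⟩ : ∃ y, Fintype.card Ω = O.card + y := ⟨Fintype.card Ω - O.card, by omega⟩
  have hy1 : 1 ≤ y := by omega
  have hndvd' : ∀ p : ℕ, p.Prime → p ∈ π → ¬ p ∣ (O.card + y).choose y := by
    intro p hp hpπ
    have h1 := hndvd p hp hpπ
    have h2 := Nat.choose_symm_add (a := O.card) (b := y)
    rwa [hy, h2] at h1
  have hylt : 2 ∈ π → 3 ≤ O.card → y < O.card := by
    intro h2π hO3
    have h1 := Nat.pow_log_le_self 2 (show Fintype.card Ω ≠ 0 by omega)
    have h2 := Nat.lt_pow_succ_log_self (b := 2) (by norm_num) (Fintype.card Ω)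
    obtain ⟨j, hj⟩ : ∃ j, j = Nat.log 2 (Fintype.card Ω) := ⟨_, rfl⟩
    rw [← hj] at h1 h2
    have hj2 : 2 ≤ j := by
      by_contra hc
      have : j + 1 ≤ 2 := by omega
      have h3 : 2 ^ (j + 1) ≤ 2 ^ 2 := Nat.pow_le_pow_right (by norm_num) this
      omega
    have hnc := ChooseDiv.nocarry Nat.prime_two (hndvd' 2 Nat.prime_two h2π) j
    rw [pow_succ] at h2
    rcases Nat.lt_or_ge (Fintype.card Ω) (2 ^ j + 2) with h4 | h4
    · rcases Nat.lt_or_ge O.card (2 ^ j) with h5 | h5
      · have h6 : y < 2 ^ j := by omega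
        rw [Nat.mod_eq_of_lt h5, Nat.mod_eq_of_lt h6] at hnc
        omega
      · omega
    · have : Fact (Nat.Prime 2) := ⟨Nat.prime_two⟩
      have heven : Even (2 ^ j) := by
        rw [Nat.even_pow]
        exact ⟨even_two, by omega⟩
      obtain ⟨g, hg, hgc⟩ := exists_mem_cycleType (p := 2) (M := M)
        (hM.2.2 2 Nat.prime_two h2π) (m := {2 ^ j, 2})
        (by
          rw [Multiset.insert_eq_cons, Multiset.sum_cons, Multiset.sum_singleton]
          exact h4)
        (by
          intro a ha
          rw [Multiset.insert_eq_cons, Multiset.mem_cons, Multiset.mem_singleton] at ha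
          rcases ha with rfl | rfl
          · exact ⟨j, by omega, rfl⟩
          · exact ⟨1, one_pos, by norm_num⟩)
        (by
          rw [Multiset.insert_eq_cons, Multiset.sum_cons, Multiset.sum_singleton,
            Multiset.card_cons, Multiset.card_singleton]
          have : Even (2 ^ j + 2 + (1 + 1)) := by
            rw [add_assoc]
            exact heven.add (by decide)
          exact this.neg_one_pow)
      obtain ⟨z, hz⟩ := exists_orbF_ge hg (k := 2 ^ j) (by
        rw [hgc, Multiset.insert_eq_cons]; exact Multiset.mem_cons_self _ _)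
      have := hz.trans (hmax' z)
      omega
  rcases IH O hOlt _ hL ⟨r, s, hr, hs, hrs, hrπ, hsπ, hsO⟩ with hA | hB | hC | hD
  · -- all primes up to `|O|`
    obtain ⟨hLA, hπ⟩ := hA
    rw [hcardO] at hπ
    have hO3 : 3 ≤ O.card := by omega
    have h2π : 2 ∈ π := hπ 2 Nat.prime_two (by omega)
    have h3π : 3 ∈ π := hπ 3 Nat.prime_three hO3
    have hyO := hylt h2π hO3
    have hfixA : ∀ g ∈ alternatingGroup Ω, g ∈ fixU O → g ∈ M := by
      intro g hgA hg
      obtain ⟨σ, rfl⟩ := exists_incl hg
      have h1 : σ ∈ M.comap (incl O) := by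
        rw [hLA]
        exact (incl_mem_alt σ).mp hgA
      exact h1
    rcases Nat.lt_or_ge y 2 with hy2 | hy2
    · -- point stabilizer
      have hy1' : y = 1 := by omega
      subst hy1'
      right; left
      have hcompl : Oᶜ.card = 1 := by rw [Finset.card_compl]; omega
      obtain ⟨β, hβ⟩ := Finset.card_eq_one.mp hcompl
      have hβO : ∀ x, x ∉ O ↔ x = β := by
        intro x
        rw [← Finset.mem_compl, hβ, Finset.mem_singleton]
      have hprime : (Fintype.card Ω).Prime := by
        by_contra hnp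
        have h1 := Nat.minFac_prime (show Fintype.card Ω ≠ 1 by omega)
        have h2 := Nat.minFac_dvd (Fintype.card Ω)
        have h3 := ChooseDiv.le_half_of_not_prime hnp h1 h2 (by omega)
        have h4 := hndvd' _ h1 (hπ _ h1 (by omega))
        apply h4
        rw [Nat.choose_one_right, ← hy]
        exact h2
      have hnπ : Fintype.card Ω ∉ π := by
        intro h
        apply hndvd' _ hprime h
        rw [Nat.choose_one_right, ← hy]
      refine ⟨hprime, ?_, β, ?_⟩
      · intro p hp hpn
        constructor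
        · intro h
          rcases Nat.lt_or_ge p (Fintype.card Ω) with h5 | h5
          · exact h5
          · exact absurd ((le_antisymm hpn h5) ▸ h) hnπ
        · intro h
          exact hπ p hp (by omega)
      · intro g
        constructor
        · intro hg
          refine ⟨hM.1 hg, ?_⟩
          rw [← hβO]
          intro h
          have : β ∉ O := (hβO β).mpr rfl
          exact this ((hMO hg β).mp h)
        · rintro ⟨hgA, hgβ⟩
          apply hfixA g hgA
          intro x hx
          rw [hβO] at hx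
          rw [hx, hgβ]
    · -- degree 7
      obtain ⟨h4, h3⟩ := ChooseDiv.choose_small_prime hy2 hyO
        (fun p hp hpO => hndvd' p hp (hπ p hp hpO))
      right; right; left
      have h7 : Fintype.card Ω = 7 := by omega
      refine ⟨h7, ?_, O, h4, ?_⟩
      · intro p hp hp7
        constructor
        · intro h
          by_cases hp2 : p = 2
          · exact Or.inl hp2
          · have h5 := hle p hp h (by omega) (hp.eq_two_or_odd.resolve_left hp2)
            have := hp.two_le
            have h8 : p ≠ 4 := by rintro rfl; revert hp; norm_num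
            right; omega
        · rintro (rfl | rfl)
          · exact h2π
          · exact h3π
      · have hK : M = setStab O ⊓ alternatingGroup Ω := by
          apply eq_of_isPi (isPiHallOf_mono hM (le_inf hMO hM.1) inf_le_right)
          intro p hp hd
          have h5 := hd.trans (Subgroup.card_dvd_of_le (inf_le_left : setStab O ⊓
            alternatingGroup Ω ≤ setStab O))
          rw [card_setStab, h4, h7] at h5
          have h6 : p ∣ 2 ^ 4 * 3 ^ 2 := by
            have : Nat.factorial 4 * Nat.factorial (7 - 4) = 2 ^ 4 * 3 ^ 2 := by decide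
            rwa [this] at h5
          rcases (Nat.Prime.dvd_mul hp).mp h6 with h | h
          · rw [(Nat.prime_dvd_prime_iff_eq hp Nat.prime_two).mp (hp.dvd_of_dvd_pow h)]
            exact h2π
          · rw [(Nat.prime_dvd_prime_iff_eq hp Nat.prime_three).mp (hp.dvd_of_dvd_pow h)]
            exact h3π
        intro g
        constructor
        · intro hg
          exact ⟨hM.1 hg, fun x hx => (hMO hg x).mpr hx⟩
        · rintro ⟨hgA, hg⟩
          rw [hK]
          exact ⟨mem_setStab_of_forall hg, hgA⟩
  · -- a point stabilizer in `O` : impossible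
    exfalso
    obtain ⟨hprime, hπ, ⟨b, hbO⟩, hbL⟩ := hB
    rw [hcardO] at hprime hπ
    have hs1 := (hπ s hs hsO).mp hsπ
    have hO5 : 5 ≤ O.card := by
      have : O.card ≠ 4 := by intro h; rw [h] at hprime; revert hprime; norm_num
      omega
    have hfb : ∀ k ∈ fixU O, k ∈ alternatingGroup Ω → (k ∈ M ↔ k b = b) := by
      intro k hk hkA
      obtain ⟨σ, rfl⟩ := exists_incl hk
      have h1 := hbL σ
      rw [Subgroup.mem_comap] at h1
      rw [h1]
      constructor
      · rintro ⟨-, h2⟩
        have := incl_apply σ ⟨b, hbO⟩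
        rw [h2] at this
        exact this
      · intro h2
        refine ⟨(incl_mem_alt σ).mp hkA, ?_⟩
        apply Subtype.ext
        rw [← incl_apply σ ⟨b, hbO⟩]
        exact h2
    have hfix : ∀ g ∈ M, g b = b := by
      intro g hg
      by_contra hne'
      have hcO : g b ∈ O := (hMO hg b).mpr hbO
      have hc2 : 1 < (O \ {b, g b}).card := by
        have h1 := Finset.le_card_sdiff ({b, g b} : Finset Ω) O
        have h2 := Finset.card_le_two (a := b) (b := g b)
        omega
      obtain ⟨u, hu, v, hv, huv⟩ := Finset.one_lt_card.mp hc2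
      rw [Finset.mem_sdiff] at hu hv
      simp only [Finset.mem_insert, Finset.mem_singleton, not_or] at hu hv
      have hκA := c3_mem (a := g b) (b := u) (c := v) (Ne.symm hu.2.2) huv
      have hκf : c3 (g b) u v ∈ fixU O := by
        intro x hx
        exact c3_other (fun h => hx (h ▸ hcO)) (fun h => hx (h ▸ hu.1)) (fun h => hx (h ▸ hv.1))
      have hκb : c3 (g b) u v b = b := c3_other (Ne.symm hne') (Ne.symm hu.2.1) (Ne.symm hv.2.1)
      have hκM := (hfb _ hκf hκA).mpr hκb
      have h3 := (conj_mem_iff hg _).mpr hκM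
      have h4 := (hfb _ (hconjfix g hg _ hκf) (hM.1 h3)).mp h3
      rw [conj_apply_eq, c3_left (Ne.symm hu.2.2) (Ne.symm hv.2.2)] at h4
      exact hu.2.2 h4
    have h1 : ({b} : Finset Ω) = orbF M x0 := by
      apply eq_orbF
      · rw [← hO]; exact Finset.singleton_subset_iff.mpr hbO
      · exact Finset.singleton_nonempty b
      · intro g hg
        apply mem_setStab_of_forall
        intro x hx
        rw [Finset.mem_singleton] at hx ⊢
        rw [hx, hfix g hg]
    rw [← hO] at h1
    rw [← h1, Finset.card_singleton] at hO5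
    omega
  · -- a 4-set in `O` : impossible
    exfalso
    obtain ⟨h7, hπ, S, hS, hSL⟩ := hC
    rw [hcardO] at h7
    obtain ⟨T, hT⟩ : ∃ T : Finset Ω, T = S.map (Function.Embedding.subtype _) := ⟨_, rfl⟩
    have hTcard : T.card = 4 := by rw [hT, Finset.card_map, hS]
    have hTO : T ⊆ O := by
      intro x hx
      rw [hT] at hx
      obtain ⟨z, -, rfl⟩ := Finset.mem_map.mp hx
      exact z.2
    have hfb : ∀ k ∈ fixU O, k ∈ alternatingGroup Ω → (k ∈ M ↔ ∀ x ∈ T, k x ∈ T) := by
      intro k hk hkA
      obtain ⟨σ, rfl⟩ := exists_incl hk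
      have h1 := hSL σ
      rw [Subgroup.mem_comap] at h1
      rw [h1, hT]
      constructor
      · rintro ⟨-, h2⟩ x hx
        obtain ⟨z, hz, rfl⟩ := Finset.mem_map.mp hx
        exact Finset.mem_map.mpr ⟨σ z, h2 z hz, (incl_apply σ z).symm⟩
      · intro h2
        refine ⟨(incl_mem_alt σ).mp hkA, ?_⟩
        intro z hz
        have h3 := h2 z (Finset.mem_map.mpr ⟨z, hz, rfl⟩)
        rw [incl_apply] at h3
        obtain ⟨w, hw, hwz⟩ := Finset.mem_map.mp h3
        have : w = σ z := Subtype.ext hwz
        rwa [← this]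
    have hMT : M ≤ setStab T := by
      intro g hg
      -- if `a ∈ T ∩ gT` then `T ⊆ gT`
      have step : ∀ x ∈ T, g x ∈ T → ∀ z ∈ T, g⁻¹ z ∈ T := by
        intro x hx hgx z hz
        by_cases hxz : z = g x
        · rw [hxz, inv_apply]; exact hx
        have hc3 : 0 < (T \ {g x, z}).card := by
          have h1 := Finset.le_card_sdiff ({g x, z} : Finset Ω) T
          have h2 := Finset.card_le_two (a := g x) (b := z)
          omega
        obtain ⟨w, hw⟩ := Finset.card_pos.mp hc3
        rw [Finset.mem_sdiff] at hw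
        simp only [Finset.mem_insert, Finset.mem_singleton, not_or] at hw
        have hκA := c3_mem (a := g x) (b := z) (c := w) (Ne.symm hxz) (Ne.symm hw.2.2)
        have hκf : c3 (g x) z w ∈ fixU O := by
          intro v hv
          exact c3_other (fun h => hv (h ▸ hTO hgx)) (fun h => hv (h ▸ hTO hz))
            (fun h => hv (h ▸ hTO hw.1))
        have hκM := (hfb _ hκf hκA).mpr (c3_preserves hgx hz hw.1)
        have h3 := (conj_mem_iff hg _).mpr hκM
        have h4 := (hfb _ (hconjfix g hg _ hκf) (hM.1 h3)).mp h3 x hx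
        rw [Perm.mul_apply, Perm.mul_apply, c3_left (Ne.symm hxz) (Ne.symm hw.2.1)] at h4
        exact h4
      by_cases hex : ∃ x ∈ T, g x ∈ T
      · obtain ⟨x, hx, hgx⟩ := hex
        have h1 := inv_preserves (g := g⁻¹) (step x hx hgx)
        rw [inv_inv] at h1
        exact mem_setStab_of_forall h1
      · exfalso
        push Not at hex
        have h1 : T.map g.toEmbedding ⊆ O \ T := by
          intro z hz
          obtain ⟨x, hx, rfl⟩ := Finset.mem_map.mp hz
          rw [Finset.mem_sdiff]
          exact ⟨(hMO hg x).mpr (hTO hx), hex x hx⟩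
        have h2 := Finset.card_le_card h1
        rw [Finset.card_map, Finset.card_sdiff_of_subset hTO, hTcard, h7] at h2
        omega
    have h1 : T = orbF M x0 := by
      apply eq_orbF (by rw [← hO]; exact hTO) ?_ hMT
      rw [← Finset.card_pos]; omega
    rw [← hO] at h1
    rw [h1] at hTcard
    omega
  · -- `|O| = 8`
    exfalso
    obtain ⟨h8, hπ, -⟩ := hD
    rw [hcardO] at h8
    have h2π : 2 ∈ π := (hπ 2 Nat.prime_two (by norm_num)).mpr (Or.inl rfl)
    have h3π : 3 ∈ π := (hπ 3 Nat.prime_three (by norm_num)).mpr (Or.inr rfl)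
    have hyO := hylt h2π (by omega)
    have hnc := ChooseDiv.nocarry Nat.prime_three (hndvd' 3 Nat.prime_three h3π) 2
    rw [h8] at hnc hyO
    omega

/-- **Theorem (P. Hall, Thompson).** -/
theorem main_aux : ∀ (n : ℕ) (Ω : Type u) [Fintype Ω] [DecidableEq Ω], Fintype.card Ω = n →
    ∀ (π : Set ℕ) (M : Subgroup (Perm Ω)), Cfsg.IsPiHallOf π M (alternatingGroup Ω) →
    (∃ r s : ℕ, r.Prime ∧ s.Prime ∧ r < s ∧ r ∈ π ∧ s ∈ π ∧ s ≤ n) → Concl π M := by
  intro n
  induction n using Nat.strong_induction_on with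
  | _ n ih =>
    intro Ω _ _ hn π M hM hex
    have IH : ∀ (U : Finset Ω), U.card < Fintype.card Ω →
      ∀ (L : Subgroup (Perm {x // x ∈ U})),
      Cfsg.IsPiHallOf π L (alternatingGroup {x // x ∈ U}) →
      (∃ r s : ℕ, r.Prime ∧ s.Prime ∧ r < s ∧ r ∈ π ∧ s ∈ π ∧ s ≤ U.card) → Concl π L := by
      intro U hU L hL hex'
      exact ih U.card (hn ▸ hU) {x // x ∈ U} (Fintype.card_coe U) π L hL hex'
    obtain ⟨r, s, hr, hs, hrs, hrπ, hsπ, hsn⟩ := hex
    rw [← hn] at hsn
    by_cases htr : ∃ α, orbF M α = Finset.univ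
    · obtain ⟨α, hα⟩ := htr
      exact transitive_case IH hM hr hs hrs hrπ hsπ hsn hα
    · push Not at htr
      exact intransitive_case IH hM hr hs hrs hrπ hsπ hsn htr

/-- **Theorem (P. Hall, Thompson).**  Structure of the Hall `π`-subgroups of the alternating
group when two primes of `π` are at most the degree. -/
theorem main {π : Set ℕ} {M : Subgroup (Perm Ω)}
    (hM : Cfsg.IsPiHallOf π M (alternatingGroup Ω)) {r s : ℕ} (hr : r.Prime) (hs : s.Prime)
    (hrs : r < s) (hrπ : r ∈ π) (hsπ : s ∈ π) (hsn : s ≤ Fintype.card Ω) : Concl π M :=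
  main_aux _ Ω rfl π M hM ⟨r, s, hr, hs, hrs, hrπ, hsπ, hsn⟩

end Cfsg.Agent.H165.HallAlt
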