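import Mathlib
import Cfsg.Agent.H988.CPi
import Cfsg.Agent.H630.Cross
import Cfsg.Agent.Lib.NilpotentCoprime
import Cfsg.Agent.S0581

/-!
# Nilpotent Hall subgroups of subgroups (for P. Hall's theorem D5)

`NHall π B A` : `B` is a nilpotent Hall `π`-subgroup of the subgroup `A`.
`Nz V B` : `V` normalizes `B`.
-/

set_option autoImplicit false
open Cfsg
open scoped Pointwise

namespace Cfsg.Agent.H165.NilHall

open Cfsg.Agent.H988.CPi

universe u

variable {X : Type u} [Group X]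

/-- `V` normalizes `B`. -/
def Nz (V B : Subgroup X) : Prop := ∀ v ∈ V, ∀ x ∈ B, v * x * v⁻¹ ∈ B

theorem mem_cj {g x : X} {B : Subgroup X} : x ∈ MulAut.conj g • B ↔ g⁻¹ * x * g ∈ B := by
  rw [Subgroup.mem_pointwise_smul_iff_inv_smul_mem]
  have h : (MulAut.conj g)⁻¹ • x = g⁻¹ * x * g := by
    rw [← map_inv]
    show MulAut.conj g⁻¹ x = _
    simp [MulAut.conj_apply]
  rw [h]

theorem cj_mem {g x : X} {B : Subgroup X} (h : x ∈ B) : g * x * g⁻¹ ∈ MulAut.conj g • B := by
  rw [mem_cj]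
  have : g⁻¹ * (g * x * g⁻¹) * g = x := by group
  rwa [this]

theorem cj_mul (a b : X) (B : Subgroup X) : MulAut.conj a • (MulAut.conj b • B) = MulAut.conj (a * b) • B := by
  rw [map_mul, mul_smul]

theorem cj_one (B : Subgroup X) : MulAut.conj (1 : X) • B = B := by rw [map_one, one_smul]

theorem cj_inv_eq {a : X} {B C : Subgroup X} (h : C = MulAut.conj a • B) : B = MulAut.conj a⁻¹ • C := by
  rw [h, cj_mul, inv_mul_cancel, cj_one]

theorem Nz.smul_eq {V B : Subgroup X} (h : Nz V B) {v : X} (hv : v ∈ V) : MulAut.conj v • B = B := by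
  ext x
  rw [mem_cj]
  constructor
  · intro hx
    have := h v hv _ hx
    have h2 : v * (v⁻¹ * x * v) * v⁻¹ = x := by group
    rwa [h2] at this
  · intro hx
    have := h v⁻¹ (V.inv_mem hv) x hx
    rwa [inv_inv] at this

theorem nz_of_smul_eq {V B : Subgroup X} (h : ∀ v ∈ V, MulAut.conj v • B = B) : Nz V B := by
  intro v hv x hx
  rw [← h v hv]
  exact cj_mem hx

theorem Nz.le_normalizer {V B : Subgroup X} (h : Nz V B) : V ≤ Subgroup.normalizer (B : Set X) := by
  intro v hv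
  rw [Subgroup.mem_normalizer_iff]
  intro x
  constructor
  · exact h v hv x
  · intro hx
    have := h v⁻¹ (V.inv_mem hv) _ hx
    have h2 : v⁻¹ * (v * x * v⁻¹) * v⁻¹⁻¹ = x := by group
    rwa [h2] at this

theorem nz_of_le_normalizer {V B : Subgroup X} (h : V ≤ Subgroup.normalizer (B : Set X)) : Nz V B :=
  fun v hv x hx => (Subgroup.mem_normalizer_iff.mp (h hv) x).mp hx

theorem nz_iff {V B : Subgroup X} : Nz V B ↔ V ≤ Subgroup.normalizer (B : Set X) :=
  ⟨Nz.le_normalizer, nz_of_le_normalizer⟩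

theorem Nz.mono {V W B : Subgroup X} (h : Nz W B) (hVW : V ≤ W) : Nz V B := fun v hv => h v (hVW hv)

theorem nz_normal (V B : Subgroup X) [hB : B.Normal] : Nz V B := fun v _ x hx => hB.conj_mem x hx v

theorem nz_self (B : Subgroup X) : Nz B B := fun v hv x hx => B.mul_mem (B.mul_mem hv hx) (B.inv_mem hv)

theorem Nz.inf {V B C : Subgroup X} (h : Nz V B) (h' : Nz V C) : Nz V (B ⊓ C) :=
  fun v hv x hx => ⟨h v hv x hx.1, h' v hv x hx.2⟩

theorem Nz.sup {V W B : Subgroup X} (h : Nz V B) (h' : Nz W B) : Nz (V ⊔ W) B := by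
  rw [nz_iff] at *
  exact sup_le h h'

/-- `B` is a nilpotent Hall `π`-subgroup of `A`. -/
structure NHall (π : Set ℕ) (B A : Subgroup X) : Prop where
  le : B ≤ A
  pi : PiN π (Nat.card B)
  idx : ∀ p : ℕ, p.Prime → p ∈ π → ¬ p ∣ B.relIndex A
  nil : Group.IsNilpotent B

variable {π : Set ℕ}

theorem card_cj (g : X) (B : Subgroup X) : Nat.card (MulAut.conj g • B : Subgroup X) = Nat.card B :=
  Nat.card_congr (Subgroup.equivSMul (MulAut.conj g) B).toEquiv.symm

theorem NHall.cj {B A : Subgroup X} (h : NHall π B A) {g : X} (hg : MulAut.conj g • A = A) :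
    NHall π (MulAut.conj g • B) A := by
  refine ⟨?_, ?_, ?_, ?_⟩
  · rw [← hg]
    exact Subgroup.pointwise_smul_le_pointwise_smul_iff.mpr h.le
  · rw [card_cj]
    exact h.pi
  · intro p hp hpp
    have h1 : (MulAut.conj g • B).relIndex A = B.relIndex A := by
      conv_lhs => rw [← hg]
      exact Subgroup.relIndex_pointwise_smul _ _ _
    rw [h1]
    exact h.idx p hp hpp
  · have := h.nil
    exact Group.nilpotent_of_surjective (Subgroup.equivSMul (MulAut.conj g) B).toMonoidHom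
      (Subgroup.equivSMul (MulAut.conj g) B).surjective

variable [Finite X]

theorem NHall.card_eq {B B' A : Subgroup X} (h : B ≤ A) (h' : B' ≤ A) (hp : PiN π (Nat.card B))
    (hp' : PiN π (Nat.card B')) (hi : ∀ p : ℕ, p.Prime → p ∈ π → ¬ p ∣ B.relIndex A)
    (hi' : ∀ p : ℕ, p.Prime → p ∈ π → ¬ p ∣ B'.relIndex A) : Nat.card B = Nat.card B' := by
  have h1 : Nat.card B * B.relIndex A = Nat.card B' * B'.relIndex A := by
    rw [← Subgroup.relIndex_bot_left B, Subgroup.relIndex_mul_relIndex _ _ _ bot_le h,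
      ← Subgroup.relIndex_bot_left B', Subgroup.relIndex_mul_relIndex _ _ _ bot_le h']
  exact mul_unique hp (fun p h2 h3 => hi p h2 h3) hp' (fun p h2 h3 => hi' p h2 h3) h1

/-- Wielandt's theorem. -/
theorem NHall.wielandt {B A U : Subgroup X} (h : NHall π B A) (hU : U ≤ A) (hUp : PiN π (Nat.card U)) :
    ∃ a ∈ A, U ≤ MulAut.conj a • B := by
  have e : ∀ V : Subgroup X, V ≤ A → Nat.card (V.subgroupOf A) = Nat.card V :=
    fun V hV => Nat.card_congr (Subgroup.subgroupOfEquivOfLe hV).toEquiv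
  have hn : Group.IsNilpotent (B.subgroupOf A) := by
    have := h.nil
    exact Group.nilpotent_of_surjective (Subgroup.subgroupOfEquivOfLe h.le).symm.toMonoidHom
      (Subgroup.subgroupOfEquivOfLe h.le).symm.surjective
  have hcop : (Nat.card (B.subgroupOf A)).Coprime (B.subgroupOf A).index := by
    rw [e B h.le]
    exact h.pi.coprime (fun p hp hpp => h.idx p hp hpp)
  obtain ⟨x, hx⟩ := Cfsg.Agent.S0581.result (B.subgroupOf A) (U.subgroupOf A) hn hcop (by
    intro p hp hd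
    rw [e U hU] at hd
    rw [e B h.le]
    have h1 : p ∣ Nat.card A := hd.trans (Subgroup.card_dvd_of_le hU)
    rw [← Subgroup.relIndex_bot_left A, ← Subgroup.relIndex_mul_relIndex _ _ _ bot_le h.le,
      Subgroup.relIndex_bot_left] at h1
    rcases hp.dvd_mul.mp h1 with h2 | h2
    · exact h2
    · exact absurd h2 (h.idx p hp (hUp p hp hd)))
  refine ⟨x, x.2, fun y hy => ?_⟩
  have h1 : (⟨y, hU hy⟩ : A) ∈ U.subgroupOf A := hy
  have h2 := hx h1
  rw [mem_cj] at h2 ⊢
  exact h2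

theorem eq_of_le_of_card {B C : Subgroup X} (h : B ≤ C) (hc : Nat.card C = Nat.card B) : B = C :=
  Subgroup.eq_of_le_of_card_ge h hc.le

/-- Every Hall `π`-subgroup of `A` is conjugate to `B`. -/
theorem NHall.conj_of_hall {B B' A : Subgroup X} (h : NHall π B A) (hB' : B' ≤ A) (hp' : PiN π (Nat.card B'))
    (hi' : ∀ p : ℕ, p.Prime → p ∈ π → ¬ p ∣ B'.relIndex A) : ∃ a ∈ A, B' = MulAut.conj a • B := by
  obtain ⟨a, ha, hle⟩ := h.wielandt hB' hp'
  refine ⟨a, ha, eq_of_le_of_card hle ?_⟩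
  rw [card_cj]
  exact NHall.card_eq h.le hB' h.pi hp' h.idx hi'

theorem cj_eq_of_mem {A : Subgroup X} {a : X} (ha : a ∈ A) : MulAut.conj a • A = A := (nz_self A).smul_eq ha

theorem NHall.of_hall {B B' A : Subgroup X} (h : NHall π B A) (hB' : B' ≤ A) (hp' : PiN π (Nat.card B'))
    (hi' : ∀ p : ℕ, p.Prime → p ∈ π → ¬ p ∣ B'.relIndex A) : NHall π B' A := by
  obtain ⟨a, ha, rfl⟩ := h.conj_of_hall hB' hp' hi'
  exact h.cj (cj_eq_of_mem ha)

theorem NHall.conj {B B' A : Subgroup X} (h : NHall π B A) (h' : NHall π B' A) : ∃ a ∈ A, B' = MulAut.conj a • B :=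
  h.conj_of_hall h'.le h'.pi h'.idx

/-- elements of `B` whose orders are powers of different primes commute -/
theorem NHall.comm {B A : Subgroup X} (h : NHall π B A) {p q : ℕ} (hp : p.Prime) (hq : q.Prime) (hpq : p ≠ q) {x y : X}
    (hx : x ∈ B) (hy : y ∈ B) (hxp : ∃ k : ℕ, orderOf x = p ^ k) (hyq : ∃ k : ℕ, orderOf y = q ^ k) :
    x * y = y * x := by
  have := h.nil
  obtain ⟨k, hk⟩ := hxp
  obtain ⟨l, hl⟩ := hyq
  have h1 : Commute (⟨x, hx⟩ : B) ⟨y, hy⟩ := by
    apply Lib.NilpotentCoprime.commute_of_coprime_orderOf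
    rw [Subgroup.orderOf_mk, Subgroup.orderOf_mk, hk, hl]
    exact Nat.Coprime.pow _ _ ((Nat.coprime_primes hp hq).mpr hpq)
  exact congrArg Subtype.val h1

theorem isPGroup_elem {q : ℕ} [Fact q.Prime] {Q : Subgroup X} (h : IsPGroup q Q) {x : X} (hx : x ∈ Q) :
    ∃ k : ℕ, orderOf x = q ^ k := by
  obtain ⟨k, hk⟩ := IsPGroup.iff_orderOf.mp h ⟨x, hx⟩
  exact ⟨k, by rw [← hk, Subgroup.orderOf_mk]⟩

/-- The `q`-part of a nilpotent Hall subgroup. -/
theorem exists_qpart {B : Subgroup X} (hB : Group.IsNilpotent B) (q : ℕ) (hq : q.Prime) :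
    ∃ Q : Subgroup X, Q ≤ B ∧ IsPGroup q Q ∧ (∀ x ∈ B, (∃ k : ℕ, orderOf x = q ^ k) → x ∈ Q) ∧
      ¬ q ∣ Q.relIndex B := by
  haveI : Fact q.Prime := ⟨hq⟩
  obtain ⟨S⟩ : Nonempty (Sylow q B) := inferInstance
  have hn : (S : Subgroup B).Normal := by
    have := ((Group.isNilpotent_of_finite_tfae (G := B)).out 0 3).mp hB
    exact this q ⟨hq⟩ S
  refine ⟨(S : Subgroup B).map B.subtype, Subgroup.map_subtype_le _, S.2.map _, ?_, ?_⟩
  · rintro x hx ⟨k, hk⟩
    refine ⟨⟨x, hx⟩, ?_, rfl⟩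
    have h1 : IsPGroup q (Subgroup.zpowers (⟨x, hx⟩ : B)) := by
      rw [IsPGroup.iff_card]
      exact ⟨k, by rw [Nat.card_zpowers, Subgroup.orderOf_mk, hk]⟩
    obtain ⟨T, hT⟩ := h1.exists_le_sylow
    obtain ⟨g, hg⟩ := MulAction.exists_smul_eq B S T
    have h2 : (T : Subgroup B) = S := by
      rw [← hg, Sylow.smul_eq_of_normal]
    exact h2 ▸ hT (Subgroup.mem_zpowers _)
  · have h1 : ((S : Subgroup B).map B.subtype).relIndex B = (S : Subgroup B).index := by
      have h2 : ((S : Subgroup B).map B.subtype).subgroupOf B = S := by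
        rw [Subgroup.subgroupOf, Subgroup.comap_map_eq_self_of_injective B.subtype_injective]
      show (((S : Subgroup B).map B.subtype).subgroupOf B).index = _
      rw [h2]
    rw [h1]
    exact S.not_dvd_index

/-- A conjugation-invariant description of the `q`-part. -/
theorem qpart_nz {V B Q : Subgroup X} {q : ℕ} [Fact q.Prime] (hV : Nz V B) (hQB : Q ≤ B) (hQ : IsPGroup q Q)
    (hmax : ∀ x ∈ B, (∃ k : ℕ, orderOf x = q ^ k) → x ∈ Q) : Nz V Q := by
  intro v hv x hx
  refine hmax _ (hV v hv x (hQB hx)) ?_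
  obtain ⟨k, hk⟩ := isPGroup_elem hQ hx
  refine ⟨k, ?_⟩
  rw [← hk]
  exact orderOf_injective (MulAut.conj v).toMonoidHom (MulAut.conj v).injective x

end Cfsg.Agent.H165.NilHall
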