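import Cfsg.Agent.H165.NHall

/-!
# Nilpotent Hall subgroups of normalizers; fixed points (for P. Hall's theorem D5)
-/

set_option autoImplicit false
open Cfsg
open scoped Pointwise

namespace Cfsg.Agent.H165.NilHall

open Cfsg.Agent.H988.CPi

universe u

variable {X : Type u} [Group X] [Finite X] {π : Set ℕ}

omit [Finite X] in
theorem nilpotent_of_le {B C : Subgroup X} (h : B ≤ C) [hC : Group.IsNilpotent C] : Group.IsNilpotent B :=
  Group.nilpotent_of_mulEquiv (Subgroup.subgroupOfEquivOfLe h)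

theorem piN_of_isPGroup {q : ℕ} (hq : q.Prime) (hqπ : q ∈ π) {D : Subgroup X} (hD : IsPGroup q D) :
    PiN π (Nat.card D) := by
  haveI : Fact q.Prime := ⟨hq⟩
  obtain ⟨k, hk⟩ := IsPGroup.iff_card.mp hD
  intro p hp hd
  rw [hk] at hd
  exact ((Nat.prime_dvd_prime_iff_eq hp hq).mp (hp.dvd_of_dvd_pow hd)) ▸ hqπ

omit [Finite X] in
theorem mem_normalizer_of_smul_eq {B : Subgroup X} {x : X} (h : MulAut.conj x • B = B) :
    x ∈ Subgroup.normalizer (B : Set X) := by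
  rw [Subgroup.mem_normalizer_iff]
  intro y
  constructor
  · intro hy
    have := cj_mem (g := x) hy
    rwa [h] at this
  · intro hy
    rw [← h, mem_cj] at hy
    have h5 : x⁻¹ * (x * y * x⁻¹) * x = y := by group
    rwa [h5] at hy

/-- A relative Sylow subgroup containing a given `q`-subgroup. -/
theorem exists_rel_sylow {q : ℕ} (hq : q.Prime) {D N : Subgroup X} (hDN : D ≤ N) (hD : IsPGroup q D) :
    ∃ S : Subgroup X, S ≤ N ∧ D ≤ S ∧ IsPGroup q S ∧ ¬ q ∣ S.relIndex N := by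
  haveI : Fact q.Prime := ⟨hq⟩
  have h1 : IsPGroup q (D.subgroupOf N) := hD.of_equiv (Subgroup.subgroupOfEquivOfLe hDN).symm
  obtain ⟨T, hT⟩ := h1.exists_le_sylow
  refine ⟨(T : Subgroup N).map N.subtype, Subgroup.map_subtype_le _, ?_, T.2.map _, ?_⟩
  · intro x hx
    exact ⟨⟨x, hDN hx⟩, hT hx, rfl⟩
  · have h2 : ((T : Subgroup N).map N.subtype).subgroupOf N = T := by
      rw [Subgroup.subgroupOf, Subgroup.comap_map_eq_self_of_injective N.subtype_injective]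
    show ¬ q ∣ (((T : Subgroup N).map N.subtype).subgroupOf N).index
    rw [h2]
    exact T.not_dvd_index

/-- Sylow's theorem in a subgroup. -/
theorem rel_sylow_conj {q : ℕ} (hq : q.Prime) {S N : Subgroup X} {U : Subgroup X} (hU : IsPGroup q U) (hUN : U ≤ N)
    (hS : ¬ q ∣ S.relIndex N) : ∃ n ∈ N, ∀ x ∈ U, n * x * n⁻¹ ∈ S := by
  haveI : Fact q.Prime := ⟨hq⟩
  obtain ⟨g, hg⟩ := Cfsg.Agent.H630.NH.exists_conj_le q (U.subgroupOf N)
    (hU.of_equiv (Subgroup.subgroupOfEquivOfLe hUN).symm) (S.subgroupOf N) hS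
  exact ⟨g, g.2, fun x hx => hg ⟨x, hUN hx⟩ hx⟩

/-- normal `π`-subgroups of `A` lie in every Hall `π`-subgroup -/
theorem NHall.le_of_nz {B A D : Subgroup X} (h : NHall π B A) (hDA : D ≤ A) (hD : PiN π (Nat.card D)) (hn : Nz A D) :
    D ≤ B := by
  obtain ⟨a, ha, hle⟩ := h.wielandt hDA hD
  intro x hx
  have h1 := hle (hn a ha x hx)
  rw [mem_cj] at h1
  have h2 : a⁻¹ * (a * x * a⁻¹) * a = x := by group
  rwa [h2] at h1

theorem relIndex_dvd_of_le {H K L : Subgroup X} (h : H ≤ K) : K.relIndex L ∣ H.relIndex L :=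
  Subgroup.relIndex_dvd_of_le_left L h

/-- `N_A(D)` has a nilpotent Hall subgroup. -/
theorem exists_hall_normalizer {q : ℕ} (hq : q.Prime) (hqπ : q ∈ π) {A D : Subgroup X} (hA : ∃ B, NHall π B A)
    (hDA : D ≤ A) (hD : IsPGroup q D) :
    (∃ C, NHall π C (A ⊓ Subgroup.normalizer (D : Set X))) ∧
      ∀ p : ℕ, p.Prime → p ∈ π → p ≠ q → ¬ p ∣ (A ⊓ Subgroup.normalizer (D : Set X)).relIndex A := by
  haveI : Fact q.Prime := ⟨hq⟩
  set N : Subgroup X := A ⊓ Subgroup.normalizer (D : Set X) with hN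
  have hNA : N ≤ A := inf_le_left
  have hDN : D ≤ N := le_inf hDA (nz_self D).le_normalizer
  obtain ⟨Q, hQN, hDQ, hQ, hQi⟩ := exists_rel_sylow hq hDN hD
  obtain ⟨B₀, hB₀⟩ := hA
  obtain ⟨a, ha, hle⟩ := hB₀.wielandt (hQN.trans hNA) (piN_of_isPGroup hq hqπ hQ)
  set B := MulAut.conj a • B₀ with hB
  have hBA : NHall π B A := hB₀.cj (cj_eq_of_mem ha)
  -- the `p`-part of `B` lies in `N`
  have key : ∀ p : ℕ, p.Prime → p ≠ q → ∃ R : Subgroup X, R ≤ B ⊓ N ∧ ¬ p ∣ R.relIndex B := by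
    intro p hp hpq
    haveI : Fact p.Prime := ⟨hp⟩
    obtain ⟨R, hRB, hR, -, hRi⟩ := exists_qpart hBA.nil p hp
    refine ⟨R, le_inf hRB (le_inf (hRB.trans hBA.le) ?_), hRi⟩
    rw [← nz_iff]
    intro v hv x hx
    have h1 : v * x = x * v := hBA.comm hp hq hpq (hRB hv) (hle (hDQ hx)) (isPGroup_elem hR hv) (isPGroup_elem hD hx)
    rw [h1, mul_inv_cancel_right]
    exact hx
  have key2 : ∀ p : ℕ, p.Prime → p ∈ π → p ≠ q → ∃ R : Subgroup X, R ≤ B ⊓ N ∧ ¬ p ∣ R.relIndex A := by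
    intro p hp hpπ hpq
    obtain ⟨R, hR, hRi⟩ := key p hp hpq
    refine ⟨R, hR, ?_⟩
    rw [← Subgroup.relIndex_mul_relIndex _ _ _ (hR.trans inf_le_left) hBA.le]
    intro hd
    rcases hp.dvd_mul.mp hd with h1 | h1
    · exact hRi h1
    · exact hBA.idx p hp hpπ h1
  refine ⟨⟨B ⊓ N, inf_le_right, ?_, ?_, ?_⟩, ?_⟩
  · exact hBA.pi.of_dvd (Subgroup.card_dvd_of_le inf_le_left)
  · intro p hp hpπ hd
    by_cases hpq : p = q
    · subst hpq
      exact hQi (hd.trans (relIndex_dvd_of_le (le_inf hle hQN)))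
    · obtain ⟨R, hR, hRi⟩ := key2 p hp hpπ hpq
      have h1 : p ∣ R.relIndex N := hd.trans (relIndex_dvd_of_le hR)
      have h2 : R.relIndex N ∣ R.relIndex A := by
        rw [← Subgroup.relIndex_mul_relIndex _ _ _ (hR.trans inf_le_right) hNA]
        exact dvd_mul_right _ _
      exact hRi (h1.trans h2)
  · have := hBA.nil
    exact nilpotent_of_le (inf_le_left : B ⊓ N ≤ B)
  · intro p hp hpπ hpq hd
    obtain ⟨R, hR, hRi⟩ := key2 p hp hpπ hpq
    exact hRi (hd.trans (relIndex_dvd_of_le (hR.trans inf_le_right)))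

/-- growth of normalizers -/
theorem not_dvd_of_normalizer {q : ℕ} (hq : q.Prime) {A D : Subgroup X} (hDA : D ≤ A) (hD : IsPGroup q D)
    (h : ¬ q ∣ D.relIndex (A ⊓ Subgroup.normalizer (D : Set X))) : ¬ q ∣ D.relIndex A := by
  haveI : Fact q.Prime := ⟨hq⟩
  obtain ⟨k, hk⟩ := IsPGroup.iff_card.mp hD
  have h1 : Nat.card (D.subgroupOf A) = q ^ k := by
    rw [← hk]; exact Nat.card_congr (Subgroup.subgroupOfEquivOfLe hDA).toEquiv
  have h2 := Sylow.card_quotient_normalizer_modEq_card_quotient h1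
  have h3 : Nat.card (A ⧸ D.subgroupOf A) = D.relIndex A := rfl
  have h4 : Nat.card (↥(Subgroup.normalizer (D.subgroupOf A : Set A)) ⧸
      Subgroup.comap (Subgroup.normalizer (D.subgroupOf A : Set A)).subtype (D.subgroupOf A))
      = (D.subgroupOf A).relIndex (Subgroup.normalizer (D.subgroupOf A : Set A)) := rfl
  have h5 : Subgroup.normalizer (D.subgroupOf A : Set A) = (A ⊓ Subgroup.normalizer (D : Set X)).subgroupOf A := by
    rw [Subgroup.inf_subgroupOf_left]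
    exact (Subgroup.subgroupOf_normalizer_eq hDA).symm
  rw [h4, h3, h5, Subgroup.relIndex_subgroupOf inf_le_left] at h2
  intro h6
  exact h ((Nat.modEq_zero_iff_dvd).mp (h2.trans ((Nat.modEq_zero_iff_dvd).mpr h6)))

/-- `π`-subgroups of `A` normalizing a Hall subgroup lie in it. -/
theorem NHall.le_of_normalizing {B A U : Subgroup X} (h : NHall π B A) (hUA : U ≤ A) (hU : PiN π (Nat.card U))
    (hn : Nz U B) : U ≤ B := by
  set N : Subgroup X := A ⊓ Subgroup.normalizer (B : Set X) with hN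
  have hBN : B ≤ N := le_inf h.le (nz_self B).le_normalizer
  have hUN : U ≤ N := le_inf hUA hn.le_normalizer
  haveI : (B.subgroupOf N).Normal := (Subgroup.normal_subgroupOf_iff_le_normalizer hBN).mpr inf_le_right
  have h1 : (B.subgroupOf N).relIndex (U.subgroupOf N) ∣ (B.subgroupOf N).index := Subgroup.relIndex_dvd_index_of_normal _ _
  rw [Subgroup.relIndex_subgroupOf hUN] at h1
  have h2 : (B.subgroupOf N).index ∣ B.relIndex A := by
    show B.relIndex N ∣ _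
    rw [← Subgroup.relIndex_mul_relIndex _ _ _ hBN inf_le_left]
    exact dvd_mul_right _ _
  rw [← Subgroup.relIndex_eq_one]
  refine eq_one_of_both (π := π) (hU.of_dvd (Subgroup.relIndex_dvd_card B U)) ?_
  intro p hp hpπ hd
  exact h.idx p hp hpπ ((hd.trans h1).trans h2)

/-- elements of `A ⊔ P`, `P` normalizing `A` -/
theorem mem_sup_nz {A P : Subgroup X} (h : Nz P A) {y : X} (hy : y ∈ A ⊔ P) : ∃ p ∈ P, ∃ a ∈ A, y = p * a := by
  have h1 : ((P ⊔ A : Subgroup X) : Set X) = (P : Set X) * (A : Set X) :=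
    Subgroup.coe_mul_of_left_le_normalizer_right P A h.le_normalizer
  have h2 : y ∈ ((P ⊔ A : Subgroup X) : Set X) := by rw [sup_comm]; exact hy
  rw [h1] at h2
  obtain ⟨p, hp, a, ha, rfl⟩ := h2
  exact ⟨p, hp, a, ha, rfl⟩

/-- index of a subgroup of `A ⊔ P` supplementing `A` -/
theorem relIndex_sup_dvd {A P C S : Subgroup X} (h : Nz P A) (hCY : C ≤ A ⊔ P) (hCA : C ⊔ A = A ⊔ P)
    (hS : S ≤ C) (hSA : S ≤ A) : C.relIndex (A ⊔ P) ∣ S.relIndex A := by
  set Y := A ⊔ P with hY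
  have hAY : A ≤ Y := le_sup_left
  haveI : (A.subgroupOf Y).Normal := by
    refine (Subgroup.normal_subgroupOf_iff_le_normalizer hAY).mpr ?_
    rw [← nz_iff]
    exact (nz_self A).sup h
  have h1 := relIndex_mul_sup_index (C.subgroupOf Y) (A.subgroupOf Y)
  have h2 : C.subgroupOf Y ⊔ A.subgroupOf Y = ⊤ := by
    rw [← Subgroup.subgroupOf_sup hCY hAY, hCA, Subgroup.subgroupOf_self]
  rw [h2, Subgroup.index_top, mul_one, Subgroup.relIndex_subgroupOf hAY] at h1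
  show (C.subgroupOf Y).index ∣ _
  rw [← h1]
  exact relIndex_dvd_of_le hS

/-- A `q`-group acting on `A` normalizes a nilpotent Hall subgroup. -/
theorem exists_nz_of_isPGroup {q : ℕ} (hq : q.Prime) (hqπ : q ∈ π) {A P : Subgroup X} (hA : ∃ B, NHall π B A)
    (hP : IsPGroup q P) (hPA : Nz P A) : ∃ B, NHall π B A ∧ Nz P B := by
  obtain ⟨B, hB⟩ := hA
  set Y := A ⊔ P with hY
  set C : Subgroup X := Subgroup.normalizer (B : Set X) ⊓ Y with hC
  have hYA : Nz Y A := (nz_self A).sup hPA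
  have hCY : C ≤ Y := inf_le_right
  have hCA : C ⊔ A = Y := by
    refine le_antisymm (sup_le hCY le_sup_left) ?_
    intro y hy
    have h1 : NHall π (MulAut.conj y • B) A := hB.cj (hYA.smul_eq hy)
    obtain ⟨a, ha, h2⟩ := hB.conj h1
    have h3 : a⁻¹ * y ∈ C := by
      refine ⟨?_, Y.mul_mem (Y.inv_mem (le_sup_left (a := A) ha)) hy⟩
      exact mem_normalizer_of_smul_eq (by rw [← cj_mul, h2, cj_mul, inv_mul_cancel, cj_one])
    have h5 : y = a * (a⁻¹ * y) := by group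
    rw [h5]
    exact Subgroup.mul_mem _ (Subgroup.mem_sup_right ha) (Subgroup.mem_sup_left h3)
  have h1 : ¬ q ∣ C.relIndex Y := by
    intro hd
    exact hB.idx q hq hqπ (hd.trans (relIndex_sup_dvd hPA hCY hCA
      (le_inf (nz_self B).le_normalizer (hB.le.trans le_sup_left)) hB.le))
  obtain ⟨y, hy, h2⟩ := rel_sylow_conj hq hP (le_sup_right (a := A)) h1
  refine ⟨MulAut.conj y⁻¹ • B, hB.cj (hYA.smul_eq (Y.inv_mem hy)), ?_⟩
  intro v hv x hx
  rw [mem_cj, inv_inv] at hx ⊢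
  have h3 := (Subgroup.mem_normalizer_iff.mp (h2 v hv).1 _).mp hx
  have h4 : y * v * y⁻¹ * (y * x * y⁻¹) * (y * v * y⁻¹)⁻¹ = y * (v * x * v⁻¹) * y⁻¹ := by group
  rwa [h4] at h3

/-- The key comparison. -/
theorem compare {q : ℕ} (hq : q.Prime) (hqπ : q ∈ π) {A P B : Subgroup X} (hB : NHall π B A) (hP : IsPGroup q P)
    (hPA : Nz P A) (hdisj : A ⊓ P = ⊥) (hPB : Nz P B) {a : X} (ha : a ∈ A) (hPa : Nz P (MulAut.conj a • B)) :
    ∃ n ∈ A, MulAut.conj n • B = B ∧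
      ∀ m ∈ P, ∃ b ∈ B, (∃ k : ℕ, orderOf b = q ^ k) ∧ (n * a⁻¹) * m * (n * a⁻¹)⁻¹ = b * m := by
  haveI : Fact q.Prime := ⟨hq⟩
  obtain ⟨Q, hQB, hQ, hQmax, hQi⟩ := exists_qpart hB.nil q hq
  have hPQ : Nz P Q := qpart_nz hPB hQB hQ hQmax
  have hQP : IsPGroup q (P ⊔ Q : Subgroup X) := hP.to_sup_of_normal_right' hQ hPQ.le_normalizer
  set Y := A ⊔ P with hY
  set N : Subgroup X := Subgroup.normalizer (B : Set X) ⊓ Y with hN
  have hPN : P ≤ N := le_inf hPB.le_normalizer le_sup_right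
  have hQN : Q ≤ N := le_inf ((nz_self B).mono hQB).le_normalizer ((hQB.trans hB.le).trans le_sup_left)
  have hSN : P ⊔ Q ≤ N := sup_le hPN hQN
  have hi : ¬ q ∣ (P ⊔ Q).relIndex N := by
    intro hd
    have h1 : (P ⊔ Q).relIndex N ∣ (P ⊔ Q).relIndex Y := by
      rw [← Subgroup.relIndex_mul_relIndex _ _ _ hSN inf_le_right]
      exact dvd_mul_right _ _
    have h2 : (P ⊔ Q).relIndex Y ∣ Q.relIndex A := by
      refine relIndex_sup_dvd hPA (hSN.trans inf_le_right) ?_ le_sup_right (hQB.trans hB.le)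
      refine le_antisymm (sup_le (hSN.trans inf_le_right) le_sup_left) (sup_le le_sup_right ?_)
      exact le_sup_left.trans le_sup_left
    have h3 := (hd.trans h1).trans h2
    rw [← Subgroup.relIndex_mul_relIndex _ _ _ hQB hB.le] at h3
    rcases hq.dvd_mul.mp h3 with h4 | h4
    · exact hQi h4
    · exact hB.idx q hq hqπ h4
  -- the conjugate of `P`
  have hU : MulAut.conj a⁻¹ • P ≤ N := by
    intro x hx
    rw [mem_cj, inv_inv] at hx
    refine ⟨?_, ?_⟩
    · have h1 := hPa.smul_eq hx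
      rw [cj_mul] at h1
      have h2 : MulAut.conj x • B = B := by
        have h3 := congrArg (fun Z => MulAut.conj a⁻¹ • Z) h1
        simp only [cj_mul] at h3
        have h4 : a⁻¹ * (a * x * a⁻¹ * a) = x := by group
        rw [h4, inv_mul_cancel, cj_one] at h3
        exact h3
      exact mem_normalizer_of_smul_eq h2
    · have h1 : x = a⁻¹ * (a * x * a⁻¹) * a := by group
      rw [h1]
      have h2 : a ∈ Y := le_sup_left (a := A) ha
      exact Y.mul_mem (Y.mul_mem (Y.inv_mem h2) (le_sup_right (a := A) hx)) h2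
  have hUp : IsPGroup q (MulAut.conj a⁻¹ • P : Subgroup X) := hP.of_equiv (Subgroup.equivSMul (MulAut.conj a⁻¹) P)
  obtain ⟨n, hn, hn2⟩ := rel_sylow_conj hq hUp hU hi
  obtain ⟨p, hp, c, hc, rfl⟩ := mem_sup_nz hPA hn.2
  have hcB : MulAut.conj c • B = B := by
    have h1 : MulAut.conj (p * c) • B = B := (nz_of_le_normalizer (V := Subgroup.normalizer (B : Set X)) le_rfl).smul_eq hn.1
    have h2 : MulAut.conj p • B = B := hPB.smul_eq hp
    have h3 : MulAut.conj p⁻¹ • B = B := hPB.smul_eq (P.inv_mem hp)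
    have h4 := congrArg (fun Z => MulAut.conj p⁻¹ • Z) h1
    simp only [cj_mul] at h4
    have h5 : p⁻¹ * (p * c) = c := by group
    rw [h5, h3] at h4
    exact h4
  refine ⟨c, hc, hcB, ?_⟩
  intro m hm
  have h1 : a⁻¹ * m * a ∈ MulAut.conj a⁻¹ • P := by
    rw [mem_cj, inv_inv]
    have : a * (a⁻¹ * m * a) * a⁻¹ = m := by group
    rwa [this]
  have h2 := hn2 _ h1
  have h3 : (c * a⁻¹) * m * (c * a⁻¹)⁻¹ ∈ P ⊔ Q := by
    have h4 : (c * a⁻¹) * m * (c * a⁻¹)⁻¹ = p⁻¹ * (p * c * (a⁻¹ * m * a) * (p * c)⁻¹) * p := by group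
    rw [h4]
    have hp' : p ∈ P ⊔ Q := Subgroup.mem_sup_left hp
    exact Subgroup.mul_mem _ (Subgroup.mul_mem _ (Subgroup.inv_mem _ hp') h2) hp'
  have h4 : ((Q ⊔ P : Subgroup X) : Set X) = (Q : Set X) * (P : Set X) :=
    Subgroup.coe_mul_of_right_le_normalizer_left Q P hPQ.le_normalizer
  have h5 : (c * a⁻¹) * m * (c * a⁻¹)⁻¹ ∈ ((Q ⊔ P : Subgroup X) : Set X) := by rw [sup_comm]; exact h3
  rw [h4] at h5
  obtain ⟨b, hb, m', hm', he⟩ := h5
  have he' : b * m' = (c * a⁻¹) * m * (c * a⁻¹)⁻¹ := he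
  have h6 : m' * m⁻¹ ∈ A ⊓ P := by
    refine ⟨?_, P.mul_mem hm' (P.inv_mem hm)⟩
    have h7 : m' * m⁻¹ = b⁻¹ * ((c * a⁻¹) * (m * (c * a⁻¹)⁻¹ * m⁻¹)) := by
      have : m' = b⁻¹ * ((c * a⁻¹) * m * (c * a⁻¹)⁻¹) := by rw [← he']; group
      rw [this]; group
    rw [h7]
    have hca : c * a⁻¹ ∈ A := A.mul_mem hc (A.inv_mem ha)
    exact A.mul_mem (A.inv_mem (hB.le (hQB hb))) (A.mul_mem hca (hPA m hm _ (A.inv_mem hca)))
  rw [hdisj, Subgroup.mem_bot] at h6
  have h7 : m' = m := mul_inv_eq_one.mp h6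
  exact ⟨b, hQB hb, isPGroup_elem hQ hb, by rw [← he', h7]⟩

end Cfsg.Agent.H165.NilHall
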