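import Cfsg.Agent.H165.NHallB
import Cfsg.Agent.H532.CopAct
import Cfsg.Agent.Lib.SolvableMinNormal

/-!
# P. Hall's theorem D5: a solvable `π`-group acting on a group with nilpotent Hall `π`-subgroups normalizes one
-/

set_option autoImplicit false
open Cfsg
open scoped Pointwise

namespace Cfsg.Agent.H165.NilHall

open Cfsg.Agent.H988.CPi

universe u

variable {π : Set ℕ}

/-- The statement for groups of order less than `n`. -/
def Goal (π : Set ℕ) (n : ℕ) : Prop :=
  ∀ (X : Type u) [Group X] [Finite X] (A V : Subgroup X), Nat.card A < n → (∃ B, NHall π B A) → Nz V A →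
    PiN π (Nat.card V) → Group.IsSolvable V → ∃ B, NHall π B A ∧ Nz V B

theorem solvable_map {X Y : Type*} [Group X] [Group Y] (f : X →* Y) {V : Subgroup X} (h : Group.IsSolvable V) :
    Group.IsSolvable (V.map f) :=
  Group.isSolvable_of_surjective (f.subgroupMap_surjective V)

theorem solvable_subgroupOf {X : Type*} [Group X] {V N : Subgroup X} (hVN : V ≤ N) (h : Group.IsSolvable V) :
    Group.IsSolvable (V.subgroupOf N) :=
  Group.isSolvable_of_surjective (f := (Subgroup.subgroupOfEquivOfLe hVN).symm.toMonoidHom)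
    (Subgroup.subgroupOfEquivOfLe hVN).symm.surjective

theorem card_subgroupOf {X : Type*} [Group X] {V N : Subgroup X} (hVN : V ≤ N) :
    Nat.card (V.subgroupOf N) = Nat.card V := Nat.card_congr (Subgroup.subgroupOfEquivOfLe hVN).toEquiv

section Quot

variable {X : Type u} [Group X] [Finite X]

/-- quotient by a `V`-invariant normal `π`-subgroup of `A` -/
theorem quot_step {A V D : Subgroup X} (ih : Goal.{u} π (Nat.card A)) (hA : ∃ B, NHall π B A) (hVA : Nz V A)
    (hV : PiN π (Nat.card V)) (hVs : Group.IsSolvable V) (hDA : D ≤ A) (hD : D ≠ ⊥) (hDp : PiN π (Nat.card D))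
    (hAD : Nz A D) (hVD : Nz V D) : ∃ B, NHall π B A ∧ Nz V B := by
  obtain ⟨B₀, hB₀⟩ := hA
  set N : Subgroup X := Subgroup.normalizer (D : Set X) with hN
  have hAN : A ≤ N := hAD.le_normalizer
  have hVN : V ≤ N := hVD.le_normalizer
  have hDN : D ≤ N := hDA.trans hAN
  have hDB : D ≤ B₀ := hB₀.le_of_nz hDA hDp hAD
  haveI : (D.subgroupOf N).Normal := (Subgroup.normal_subgroupOf_iff_le_normalizer hDN).mpr le_rfl
  set f : N →* N ⧸ D.subgroupOf N := QuotientGroup.mk' _ with hf
  have hfs : Function.Surjective f := QuotientGroup.mk'_surjective _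
  have hker : f.ker = D.subgroupOf N := QuotientGroup.ker_mk' _
  set A' := (A.subgroupOf N).map f with hA'
  set V' := (V.subgroupOf N).map f with hV'
  have hcA' : Nat.card A' = D.relIndex A := by
    rw [hA', ← Subgroup.relIndex_ker, hker, Subgroup.relIndex_subgroupOf hAN]
  have hcA : Nat.card D * D.relIndex A = Nat.card A := by
    rw [← Subgroup.relIndex_bot_left D, Subgroup.relIndex_mul_relIndex _ _ _ bot_le hDA, Subgroup.relIndex_bot_left]
  have hlt : Nat.card A' < Nat.card A := by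
    have h1 : 1 < Nat.card D := (Subgroup.one_lt_card_iff_ne_bot D).2 hD
    have h2 : 0 < Nat.card A' := Nat.card_pos
    rw [hcA'] at h2 ⊢
    rw [← hcA]
    nlinarith
  -- the image of `B₀`
  have hBN : B₀ ≤ N := hB₀.le.trans hAN
  have hB' : NHall π ((B₀.subgroupOf N).map f) A' := by
    refine ⟨?_, ?_, ?_, ?_⟩
    · exact Subgroup.map_mono (fun x hx => hB₀.le hx)
    · refine PiN.of_dvd ?_ (Subgroup.card_map_dvd _ _)
      rw [card_subgroupOf hBN]
      exact hB₀.pi
    · intro p hp hpπ hd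
      rw [hA', Subgroup.relIndex_map_map, hker] at hd
      have h1 : A.subgroupOf N ⊔ D.subgroupOf N = A.subgroupOf N :=
        sup_eq_left.mpr (fun x hx => hDA hx)
      have h2 : B₀.subgroupOf N ⊔ D.subgroupOf N = B₀.subgroupOf N :=
        sup_eq_left.mpr (fun x hx => hDB hx)
      rw [h1, h2, Subgroup.relIndex_subgroupOf hAN] at hd
      exact hB₀.idx p hp hpπ hd
    · have := hB₀.nil
      have h1 : Group.IsNilpotent (B₀.subgroupOf N) :=
        Group.nilpotent_of_mulEquiv (Subgroup.subgroupOfEquivOfLe hBN).symm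
      exact Group.nilpotent_of_surjective (f.subgroupMap (B₀.subgroupOf N)) (f.subgroupMap_surjective _)
  obtain ⟨C, hC, hVC⟩ := ih (N ⧸ D.subgroupOf N) A' V' hlt ⟨_, hB'⟩
    (by
      rintro _ ⟨v, hv, rfl⟩ _ ⟨a, ha, rfl⟩
      exact ⟨v * a * v⁻¹, hVA v hv a ha, by simp⟩)
    (by
      refine PiN.of_dvd ?_ (Subgroup.card_map_dvd _ _)
      rw [card_subgroupOf hVN]
      exact hV)
    (solvable_map f (solvable_subgroupOf hVN hVs))
  have hCA : C.comap f ≤ A.subgroupOf N := by
    have h1 : C.comap f ≤ A'.comap f := Subgroup.comap_mono hC.le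
    rw [hA', Subgroup.comap_map_eq, hker] at h1
    exact h1.trans (sup_le le_rfl (fun x hx => hDA hx))
  have hBA : (C.comap f).map N.subtype ≤ A := by
    rintro _ ⟨x, hx, rfl⟩
    exact hCA hx
  have hcard : Nat.card (C.comap f) = Nat.card D * Nat.card C := by
    have h1 : f.ker ≤ C.comap f := fun x hx => by
      rw [Subgroup.mem_comap, MonoidHom.mem_ker.mp hx]
      exact one_mem _
    have h2 : f.ker.relIndex (C.comap f) = Nat.card C := by
      rw [Subgroup.relIndex_ker, Subgroup.map_comap_eq_self_of_surjective hfs]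
    have h3 : Nat.card f.ker = Nat.card D := by rw [hker, card_subgroupOf hDN]
    rw [← h2, ← h3, ← Subgroup.relIndex_bot_left f.ker, Subgroup.relIndex_mul_relIndex _ _ _ bot_le h1,
      Subgroup.relIndex_bot_left]
  have hcard2 : Nat.card ((C.comap f).map N.subtype) = Nat.card D * Nat.card C := by
    rw [Subgroup.card_map_of_injective N.subtype_injective, hcard]
  refine ⟨(C.comap f).map N.subtype, hB₀.of_hall hBA ?_ ?_, ?_⟩
  · rw [hcard2]
    exact hDp.mul hC.pi
  · intro p hp hpπ hd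
    have h1 : ((C.comap f).map N.subtype).relIndex A = C.relIndex A' := by
      have h2 : A = (A.subgroupOf N).map N.subtype := (Subgroup.map_subgroupOf_eq_of_le hAN).symm
      conv_lhs => rw [h2]
      rw [Subgroup.relIndex_map_map_of_injective _ _ N.subtype_injective, Subgroup.relIndex_comap]
    rw [h1] at hd
    exact hC.idx p hp hpπ hd
  · rintro v hv _ ⟨x, hx, rfl⟩
    refine ⟨⟨v, hVN hv⟩ * x * ⟨v, hVN hv⟩⁻¹, ?_, rfl⟩
    show f (⟨v, hVN hv⟩ * x * ⟨v, hVN hv⟩⁻¹) ∈ C
    rw [map_mul, map_mul, map_inv]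
    exact hVC _ ⟨⟨v, hVN hv⟩, hv, rfl⟩ _ hx

/-- Case 1: `V` normalizes a nontrivial `q`-subgroup of `A`. -/
theorem case_one {A V : Subgroup X} (ih : Goal.{u} π (Nat.card A)) (hA : ∃ B, NHall π B A) (hVA : Nz V A)
    (hV : PiN π (Nat.card V)) (hVs : Group.IsSolvable V) {q : ℕ} (hq : q.Prime) (hqπ : q ∈ π) {D₀ : Subgroup X}
    (hDA₀ : D₀ ≤ A) (hD₀ : D₀ ≠ ⊥) (hDq₀ : IsPGroup q D₀) (hVD₀ : Nz V D₀) : ∃ B, NHall π B A ∧ Nz V B := by
  haveI : Fact q.Prime := ⟨hq⟩
  obtain ⟨D, hDD, hDmax⟩ := Finite.exists_le_maximal (α := Subgroup X)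
    (p := fun D => D ≤ A ∧ IsPGroup q D ∧ Nz V D) (a := D₀) ⟨hDA₀, hDq₀, hVD₀⟩
  obtain ⟨⟨hDA, hDq, hVD⟩, hmax⟩ := hDmax
  have hD : D ≠ ⊥ := fun h => hD₀ (le_bot_iff.mp (h ▸ hDD))
  have hDp : PiN π (Nat.card D) := piN_of_isPGroup hq hqπ hDq
  set M : Subgroup X := A ⊓ Subgroup.normalizer (D : Set X) with hM
  obtain ⟨hMH, hMi⟩ := exists_hall_normalizer hq hqπ hA hDA hDq
  by_cases hMA : M = A
  · refine quot_step ih hA hVA hV hVs hDA hD hDp ?_ hVD
    rw [nz_iff]
    exact inf_eq_left.mp hMA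
  · have hMle : M ≤ A := inf_le_left
    have hlt : Nat.card M < Nat.card A := by
      refine lt_of_le_of_ne (Nat.le_of_dvd Nat.card_pos (Subgroup.card_dvd_of_le hMle)) (fun h => ?_)
      exact hMA (eq_of_le_of_card hMle h.symm)
    have hDM : D ≤ M := le_inf hDA (nz_self D).le_normalizer
    have hVN : Nz V (Subgroup.normalizer (D : Set X)) :=
      (nz_self (Subgroup.normalizer (D : Set X))).mono hVD.le_normalizer
    obtain ⟨B, hB, hVB⟩ := ih X M V hlt hMH (hVA.inf hVN) hV hVs
    have hDB : D ≤ B := hB.le_of_nz hDM hDp (nz_of_le_normalizer inf_le_right)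
    obtain ⟨Q, hQB, hQ, hQmax, hQi⟩ := exists_qpart hB.nil q hq
    have hDQ : D ≤ Q := fun x hx => hQmax x (hDB hx) (isPGroup_elem hDq hx)
    have hQD : Q = D := le_antisymm (hmax ⟨(hQB.trans hB.le).trans hMle, hQ, qpart_nz hVB hQB hQ hQmax⟩ hDQ) hDQ
    have h1 : ¬ q ∣ D.relIndex M := by
      rw [← hQD, ← Subgroup.relIndex_mul_relIndex _ _ _ hQB hB.le]
      intro hd
      rcases hq.dvd_mul.mp hd with h2 | h2
      · exact hQi h2
      · exact hB.idx q hq hqπ h2
    have h2 : ¬ q ∣ D.relIndex A := not_dvd_of_normalizer hq hDA hDq h1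
    obtain ⟨B₀, hB₀⟩ := hA
    refine ⟨B, hB₀.of_hall (hB.le.trans hMle) hB.pi ?_, hVB⟩
    intro p hp hpπ hd
    by_cases hpq : p = q
    · subst hpq
      exact h2 (hd.trans (relIndex_dvd_of_le hDB))
    · rw [← Subgroup.relIndex_mul_relIndex _ _ _ hB.le hMle] at hd
      rcases hp.dvd_mul.mp hd with h3 | h3
      · exact hB.idx p hp hpπ h3
      · exact hMi p hp hpπ hpq h3

theorem card_sup_comm {P S : Subgroup X} (h : ∀ x ∈ P, ∀ y ∈ S, x * y = y * x) :
    Nat.card (P ⊔ S : Subgroup X) ∣ Nat.card P * Nat.card S ∧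
      (Group.IsSolvable P → Group.IsSolvable S → Group.IsSolvable (P ⊔ S : Subgroup X)) := by
  have hc : ∀ (m : P) (n : S), Commute (P.subtype m) (S.subtype n) := fun m n => h m m.2 n n.2
  have hr : (P.subtype.noncommCoprod S.subtype hc).range = P ⊔ S := by
    rw [MonoidHom.noncommCoprod_range, Subgroup.range_subtype, Subgroup.range_subtype]
  constructor
  · have h1 := Subgroup.card_range_dvd (P.subtype.noncommCoprod S.subtype hc)
    rw [hr, Nat.card_prod] at h1
    exact h1
  · intro hP hS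
    have h1 : Group.IsSolvable (P × S) := inferInstance
    have h2 : Group.IsSolvable (P.subtype.noncommCoprod S.subtype hc).range :=
      Group.isSolvable_of_surjective (MonoidHom.rangeRestrict_surjective _)
    rw [hr] at h2
    exact h2

/-- `C_A(P)` has a nilpotent Hall subgroup. -/
theorem hall_centralizer {q : ℕ} (hq : q.Prime) (hqπ : q ∈ π) {A P : Subgroup X} (hA : ∃ B, NHall π B A)
    (hP : IsPGroup q P) (hPA : Nz P A) (hdisj : A ⊓ P = ⊥)
    (h1 : ∀ (V D : Subgroup X) (r : ℕ), Nz V A → PiN π (Nat.card V) → Group.IsSolvable V → r.Prime → r ∈ π → D ≤ A →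
      D ≠ ⊥ → IsPGroup r D → Nz V D → ∃ B, NHall π B A ∧ Nz V B) :
    ∃ C, NHall π C (A ⊓ Subgroup.centralizer (P : Set X)) := by
  haveI : Fact q.Prime := ⟨hq⟩
  set F : Subgroup X := A ⊓ Subgroup.centralizer (P : Set X) with hF
  have hFA : F ≤ A := inf_le_left
  have hFc : ∀ x ∈ F, ∀ m ∈ P, m * x = x * m := fun x hx m hm => Subgroup.mem_centralizer_iff.mp hx.2 m hm
  obtain ⟨T, hTF, -, hT, hTi⟩ := exists_rel_sylow hq (bot_le (a := F)) IsPGroup.of_bot
  have hTP : Nz T P := by
    intro t ht m hm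
    rw [← hFc t (hTF ht) m hm, mul_inv_cancel_right]
    exact hm
  have hTPq : IsPGroup q (T ⊔ P : Subgroup X) := hT.to_sup_of_normal_right' hP hTP.le_normalizer
  obtain ⟨B, hB, hTPB⟩ := exists_nz_of_isPGroup hq hqπ hA hTPq (((nz_self A).mono (hTF.trans hFA)).sup hPA)
  have hPB : Nz P B := hTPB.mono le_sup_right
  have hTB : T ≤ B := hB.le_of_normalizing (hTF.trans hFA) (piN_of_isPGroup hq hqπ hT) (hTPB.mono le_sup_left)
  set W : Subgroup X := B ⊓ Subgroup.centralizer (P : Set X) with hW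
  have hWF : W ≤ F := inf_le_inf_right _ hB.le
  refine ⟨W, hWF, hB.pi.of_dvd (Subgroup.card_dvd_of_le inf_le_left), ?_, ?_⟩
  · intro r hr hrπ hd
    by_cases hrq : r = q
    · subst hrq
      exact hTi (hd.trans (relIndex_dvd_of_le (le_inf hTB (hTF.trans inf_le_right))))
    haveI : Fact r.Prime := ⟨hr⟩
    obtain ⟨S, hSF, -, hS, hSi⟩ := exists_rel_sylow hr (bot_le (a := F)) IsPGroup.of_bot
    by_cases hSb : S = ⊥
    · rw [hSb] at hSi
      exact hSi (hd.trans (relIndex_dvd_of_le bot_le))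
    have hcomm : ∀ x ∈ P, ∀ y ∈ S, x * y = y * x := fun x hx y hy => hFc y (hSF hy) x hx
    obtain ⟨hcard, hsolv⟩ := card_sup_comm hcomm
    have hPs : Group.IsSolvable P := by
      have := hP.isNilpotent
      infer_instance
    have hSs : Group.IsSolvable S := by
      have := hS.isNilpotent
      infer_instance
    have hPS : Nz P S := by
      intro m hm s hs
      rw [hcomm m hm s hs, mul_inv_cancel_right]
      exact hs
    obtain ⟨B', hB', hPSB⟩ := h1 (P ⊔ S) S r (hPA.sup ((nz_self A).mono (hSF.trans hFA)))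
      (((piN_of_isPGroup hq hqπ hP).mul (piN_of_isPGroup hr hrπ hS)).of_dvd hcard) (hsolv hPs hSs) hr hrπ
      (hSF.trans hFA) hSb hS (hPS.sup (nz_self S))
    have hSB' : S ≤ B' := hB'.le_of_normalizing (hSF.trans hFA) (piN_of_isPGroup hr hrπ hS) (hPSB.mono le_sup_right)
    obtain ⟨a, ha, rfl⟩ := hB.conj hB'
    obtain ⟨n, hn, hnB, hcmp⟩ := compare hq hqπ hB hP hPA hdisj hPB ha (hPSB.mono le_sup_left)
    -- the conjugate of `S` lies in `W`
    have hSW : MulAut.conj (n * a⁻¹) • S ≤ W := by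
      intro y hy
      rw [mem_cj] at hy
      set s := (n * a⁻¹)⁻¹ * y * (n * a⁻¹) with hs
      have hys : y = (n * a⁻¹) * s * (n * a⁻¹)⁻¹ := by rw [hs]; group
      have hyB : y ∈ B := by
        have h2 : MulAut.conj (n * a⁻¹) • (MulAut.conj a • B) = B := by
          rw [cj_mul]
          have : n * a⁻¹ * a = n := by group
          rw [this, hnB]
        rw [← h2, hys]
        exact cj_mem (hSB' hy)
      refine ⟨hyB, Subgroup.mem_centralizer_iff.mpr ?_⟩
      intro m hm
      obtain ⟨b, hb, hbq, hbm⟩ := hcmp m hm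
      have hyr : ∃ k : ℕ, orderOf y = r ^ k := by
        obtain ⟨k, hk⟩ := isPGroup_elem hS hy
        refine ⟨k, ?_⟩
        rw [← hk, hys]
        exact orderOf_injective (MulAut.conj (n * a⁻¹)).toMonoidHom (MulAut.conj (n * a⁻¹)).injective s
      have h3 : y * b = b * y := hB.comm hr hq hrq hyB hb hyr hbq
      have h4 : y * (b * m) = b * m * y := by
        rw [← hbm, hys]
        have h5 : s * m = m * s := (hcomm m hm s hy).symm
        calc (n * a⁻¹) * s * (n * a⁻¹)⁻¹ * ((n * a⁻¹) * m * (n * a⁻¹)⁻¹)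
            = (n * a⁻¹) * (s * m) * (n * a⁻¹)⁻¹ := by group
          _ = (n * a⁻¹) * (m * s) * (n * a⁻¹)⁻¹ := by rw [h5]
          _ = (n * a⁻¹) * m * (n * a⁻¹)⁻¹ * ((n * a⁻¹) * s * (n * a⁻¹)⁻¹) := by group
      have h6 : b * (y * m) = b * (m * y) := by
        calc b * (y * m) = (b * y) * m := by group
          _ = (y * b) * m := by rw [h3]
          _ = y * (b * m) := by group
          _ = b * m * y := h4
          _ = b * (m * y) := by group
      exact (mul_left_cancel h6).symm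
    -- orders
    obtain ⟨k, hk⟩ := IsPGroup.iff_card.mp hS
    have h2 : r ^ k ∣ Nat.card W := by
      rw [← hk, ← card_cj (n * a⁻¹) S]
      exact Subgroup.card_dvd_of_le hSW
    have h3 : Nat.card W * W.relIndex F = Nat.card F := by
      rw [← Subgroup.relIndex_bot_left W, Subgroup.relIndex_mul_relIndex _ _ _ bot_le hWF, Subgroup.relIndex_bot_left]
    have h4 : r ^ k * S.relIndex F = Nat.card F := by
      rw [← hk, ← Subgroup.relIndex_bot_left S, Subgroup.relIndex_mul_relIndex _ _ _ bot_le hSF,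
        Subgroup.relIndex_bot_left]
    have h5 : r ^ k * r ∣ r ^ k * S.relIndex F := by
      rw [h4, ← h3]
      exact Nat.mul_dvd_mul h2 hd
    exact hSi (Nat.dvd_of_mul_dvd_mul_left (pow_pos hr.pos k) h5)
  · have := hB.nil
    exact nilpotent_of_le (inf_le_left : W ≤ B)

end Quot

end Cfsg.Agent.H165.NilHall
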