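import Cfsg.Agent.H165.NHallC

/-!
# P. Hall's theorem D5, end of the proof

`exists_nz` : a solvable `π`-group normalizing `A` normalizes a nilpotent Hall `π`-subgroup of `A`, if there is one.
-/

set_option autoImplicit false
open Cfsg
open scoped Pointwise

namespace Cfsg.Agent.H165.NilHall

open Cfsg.Agent.H988.CPi

universe u

variable {π : Set ℕ} {X : Type u} [Group X]

theorem char_nz {V W : Subgroup X} (h : Nz V W) {N : Subgroup W} (hN : N.Characteristic) : Nz V (N.map W.subtype) := by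
  intro v hv _ hx
  obtain ⟨x, hx, rfl⟩ := hx
  let φ : W ≃* W :=
    { toFun := fun w => ⟨v * w * v⁻¹, h v hv w w.2⟩
      invFun := fun w => ⟨v⁻¹ * w * v, by
        have := h v⁻¹ (V.inv_mem hv) w w.2
        rwa [inv_inv] at this⟩
      left_inv := fun w => Subtype.ext (by change v⁻¹ * (v * w * v⁻¹) * v = w; group)
      right_inv := fun w => Subtype.ext (by change v * (v⁻¹ * w * v) * v⁻¹ = w; group)
      map_mul' := fun a b => Subtype.ext (by
        change v * (a * b : X) * v⁻¹ = (v * a * v⁻¹) * (v * b * v⁻¹); group) }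
  have h1 : φ x ∈ N := by
    have h2 := hN.fixed φ
    rw [← h2] at hx
    exact hx
  exact ⟨φ x, h1, rfl⟩

/-- The action of `V` on a subgroup it normalizes. -/
@[reducible] def actSub {V F : Subgroup X} (h : Nz V F) : MulDistribMulAction V F where
  smul v f := ⟨v * f * v⁻¹, h v v.2 f f.2⟩
  one_smul f := Subtype.ext (by change (1 : X) * f * 1⁻¹ = f; group)
  mul_smul v w f := Subtype.ext (by
    change ((v : X) * w) * f * ((v : X) * w)⁻¹ = (v : X) * ((w : X) * f * (w : X)⁻¹) * (v : X)⁻¹; group)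
  smul_one v := Subtype.ext (by change (v : X) * 1 * (v : X)⁻¹ = 1; group)
  smul_mul v f g := Subtype.ext (by
    change (v : X) * (f * g) * (v : X)⁻¹ = ((v : X) * f * (v : X)⁻¹) * ((v : X) * g * (v : X)⁻¹); group)

/-- The action on nilpotent Hall subgroups normalized by `M`. -/
@[reducible] def actHall {A M V : Subgroup X} (hA : Nz V A) (hM : ∀ v ∈ V, ∀ B : Subgroup X, NHall π B A → Nz M B →
    Nz M (MulAut.conj v • B)) : MulAction V {B : Subgroup X // NHall π B A ∧ Nz M B} where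
  smul v B := ⟨MulAut.conj (v : X) • B.1, B.2.1.cj (hA.smul_eq v.2), hM v v.2 B.1 B.2.1 B.2.2⟩
  one_smul B := Subtype.ext (cj_one B.1)
  mul_smul v w B := Subtype.ext (cj_mul (v : X) (w : X) B.1).symm

variable [Finite X]

/-- a `q`-group acting on a nontrivial `q`-group has nontrivial fixed points -/
theorem exists_fixed {q : ℕ} (hq : q.Prime) {P Q : Subgroup X} (hP : IsPGroup q P) (hQ : IsPGroup q Q) (h : Nz P Q)
    (hQ1 : Q ≠ ⊥) : ∃ x ∈ Q, x ≠ 1 ∧ ∀ m ∈ P, m * x = x * m := by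
  haveI : Fact q.Prime := ⟨hq⟩
  letI := actSub h
  have h1 : q ∣ Nat.card Q := by
    obtain ⟨k, hk⟩ := IsPGroup.iff_card.mp hQ
    rw [hk]
    refine dvd_pow_self q ?_
    rintro rfl
    rw [pow_zero] at hk
    exact hQ1 (Subgroup.eq_bot_of_card_eq Q hk)
  have h2 : (1 : Q) ∈ MulAction.fixedPoints P Q := fun m => smul_one m
  obtain ⟨x, hx, hx1⟩ := hP.exists_fixed_point_of_prime_dvd_card_of_fixed_point (α := Q) h1 h2
  refine ⟨x, x.2, fun h3 => hx1 (Subtype.ext h3.symm), fun m hm => ?_⟩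
  have h4 : m * (x : X) * m⁻¹ = x := congrArg Subtype.val (hx ⟨m, hm⟩)
  calc m * (x : X) = m * x * m⁻¹ * m := by group
    _ = x * m := by rw [h4]

theorem centralizer_nz {V A : Subgroup X} (h : Nz V A) : Nz V (Subgroup.centralizer (A : Set X)) := by
  intro v hv x hx
  rw [Subgroup.mem_centralizer_iff] at hx ⊢
  intro a ha
  have h1 : v⁻¹ * a * v ∈ A := by
    have := h v⁻¹ (V.inv_mem hv) a ha
    rwa [inv_inv] at this
  have h2 := hx _ h1
  calc a * (v * x * v⁻¹) = v * ((v⁻¹ * a * v) * x) * v⁻¹ := by group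
    _ = v * (x * (v⁻¹ * a * v)) * v⁻¹ := by rw [h2]
    _ = v * x * v⁻¹ * a := by group

/-- the section `M / C_V(A)` -/
theorem exists_section {A V : Subgroup X} (hVA : Nz V A) (hVs : Group.IsSolvable V)
    (hc : ¬ V ≤ Subgroup.centralizer (A : Set X)) :
    ∃ (q : ℕ) (M P : Subgroup X), q.Prime ∧ q ∣ Nat.card V ∧ M ≤ V ∧ Nz V M ∧ P ≤ M ∧ IsPGroup q P ∧
      ¬ P ≤ Subgroup.centralizer (A : Set X) ∧ M ≤ (V ⊓ Subgroup.centralizer (A : Set X)) ⊔ P := by
  have hCV := centralizer_nz hVA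
  set C : Subgroup V := (Subgroup.centralizer (A : Set X)).subgroupOf V with hC
  haveI : C.Normal := ⟨fun x hx g => hCV g g.2 x hx⟩
  have hne : C ≠ ⊤ := fun h => hc (Subgroup.subgroupOf_eq_top.mp h)
  haveI : Nontrivial (V ⧸ C) := by
    by_contra hn
    rw [not_nontrivial_iff_subsingleton] at hn
    exact hne (QuotientGroup.subsingleton_iff.mp hn)
  haveI : Group.IsSolvable (V ⧸ C) := Group.isSolvable_of_surjective (QuotientGroup.mk'_surjective C)
  obtain ⟨q, hq, K, hK, -, hKq, hK1⟩ := Lib.SolvableMinNormal.exists_characteristic_pgroup (G := V ⧸ C)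
  haveI : Fact q.Prime := ⟨hq⟩
  set f : V →* V ⧸ C := QuotientGroup.mk' C with hf
  have hfs : Function.Surjective f := QuotientGroup.mk'_surjective C
  have hker : f.ker = C := QuotientGroup.ker_mk' C
  haveI hKn : K.Normal := inferInstance
  have hMn : (K.comap f).Normal := inferInstance
  set M : Subgroup X := (K.comap f).map V.subtype with hM
  have hMV : M ≤ V := Subgroup.map_subtype_le _
  have hVM : Nz V M := by
    rintro v hv _ ⟨x, hx, rfl⟩
    exact ⟨⟨v, hv⟩ * x * ⟨v, hv⟩⁻¹, hMn.conj_mem x hx ⟨v, hv⟩, rfl⟩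
  obtain ⟨P, hPM, -, hP, hPi⟩ := exists_rel_sylow hq (bot_le (a := M)) IsPGroup.of_bot
  set C₀ : Subgroup X := V ⊓ Subgroup.centralizer (A : Set X) with hC₀
  have hCM : C₀ ≤ M := by
    intro x hx
    refine ⟨⟨x, hx.1⟩, ?_, rfl⟩
    show f ⟨x, hx.1⟩ ∈ K
    have : f ⟨x, hx.1⟩ = 1 := by
      rw [← MonoidHom.mem_ker, hker]
      exact hx.2
    rw [this]
    exact one_mem _
  have hKc : C₀.relIndex M = Nat.card K := by
    have h1 : C₀ = C.map V.subtype := by
      rw [hC, Subgroup.subgroupOf_map_subtype, inf_comm]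
    have h2 : f.ker.relIndex (K.comap f) = Nat.card K := by
      rw [Subgroup.relIndex_ker, Subgroup.map_comap_eq_self_of_surjective hfs]
    rw [h1, hM, Subgroup.relIndex_map_map_of_injective _ _ V.subtype_injective, ← h2, hker]
  have hqV : q ∣ Nat.card V := by
    obtain ⟨k, hk⟩ := IsPGroup.iff_card.mp hKq
    have h1 : q ∣ Nat.card K := by
      rw [hk]
      refine dvd_pow_self q ?_
      rintro rfl
      rw [pow_zero] at hk
      exact hK1 (Subgroup.eq_bot_of_card_eq K hk)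
    exact (h1.trans (Subgroup.card_subgroup_dvd_card K)).trans (Subgroup.card_quotient_dvd_card C)
  have hMle : M ≤ C₀ ⊔ P := by
    rw [← Subgroup.relIndex_eq_one]
    obtain ⟨k, hk⟩ := IsPGroup.iff_card.mp hKq
    have h1 : (C₀ ⊔ P).relIndex M ∣ q ^ k := by
      rw [← hk, ← hKc]
      exact relIndex_dvd_of_le le_sup_left
    have h2 : (C₀ ⊔ P).relIndex M ∣ P.relIndex M := relIndex_dvd_of_le le_sup_right
    obtain ⟨j, -, hj⟩ := (Nat.dvd_prime_pow hq).mp h1
    rw [hj] at h2 ⊢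
    rcases Nat.eq_zero_or_pos j with h3 | h3
    · rw [h3, pow_zero]
    · exact absurd ((dvd_pow_self q h3.ne').trans h2) hPi
  refine ⟨q, M, P, hq, hqV, hMV, hVM, hPM, hP, ?_, hMle⟩
  intro hPc
  -- then `M ≤ C₀`, so `K = ⊥`
  have h1 : M ≤ C₀ := hMle.trans (sup_le le_rfl (le_inf (hPM.trans hMV) hPc))
  have h2 : C₀.relIndex M = 1 := Subgroup.relIndex_eq_one.mpr h1
  rw [hKc] at h2
  exact hK1 (Subgroup.eq_bot_of_card_eq K h2)

theorem nHall_card_eq {B A : Subgroup X} (h : NHall π B A) : Nat.card A = Nat.card B * B.relIndex A := by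
  rw [← Subgroup.relIndex_bot_left B, Subgroup.relIndex_mul_relIndex _ _ _ bot_le h.le, Subgroup.relIndex_bot_left]

omit [Finite X] in
theorem nz_of_centralizer {C B A : Subgroup X} (hC : C ≤ Subgroup.centralizer (A : Set X)) (hB : B ≤ A) : Nz C B := by
  intro c hc x hx
  have h1 := Subgroup.mem_centralizer_iff.mp (hC hc) x (hB hx)
  rw [← h1, mul_inv_cancel_right]
  exact hx

/-- the final step -/
theorem final_step {A V M P F : Subgroup X} {q : ℕ} (hq : q.Prime) (hqπ : q ∈ π) (hVA : Nz V A)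
    (hV : PiN π (Nat.card V)) (hVs : Group.IsSolvable V) (hdisj : A ⊓ V = ⊥) (hMV : M ≤ V) (hVM : Nz V M) (hPM : P ≤ M)
    (hP : IsPGroup q P) (hM : M ≤ (V ⊓ Subgroup.centralizer (A : Set X)) ⊔ P)
    (hF : F = A ⊓ Subgroup.centralizer (P : Set X)) (hVF : Nz V F) (hFπ : PiN' π (Nat.card F))
    (hA : ∃ B, NHall π B A) : ∃ B, NHall π B A ∧ Nz V B := by
  haveI : Fact q.Prime := ⟨hq⟩
  have hPA : Nz P A := hVA.mono (hPM.trans hMV)
  have hAP : A ⊓ P = ⊥ := le_bot_iff.mp (hdisj ▸ inf_le_inf_left A (hPM.trans hMV))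
  have hNzM : ∀ B : Subgroup X, B ≤ A → Nz P B → Nz M B := fun B hBA hPB =>
    ((nz_of_centralizer inf_le_right hBA).sup hPB).mono hM
  obtain ⟨B₁, hB₁, hPB₁⟩ := exists_nz_of_isPGroup hq hqπ hA hP hPA
  -- `q` does not divide `|A|`
  have hqA : ¬ q ∣ Nat.card A := by
    obtain ⟨Q, hQB, hQ, hQmax, hQi⟩ := exists_qpart hB₁.nil q hq
    have hQb : Q = ⊥ := by
      by_contra hQ1
      obtain ⟨x, hx, hx1, hxP⟩ := exists_fixed hq hP hQ (qpart_nz hPB₁ hQB hQ hQmax) hQ1
      have hxF : x ∈ F := by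
        rw [hF]
        exact ⟨hB₁.le (hQB hx), Subgroup.mem_centralizer_iff.mpr hxP⟩
      obtain ⟨k, hk⟩ := isPGroup_elem hQ hx
      have hk0 : k ≠ 0 := by
        rintro rfl
        rw [pow_zero, orderOf_eq_one_iff] at hk
        exact hx1 hk
      have h1 : q ∣ Nat.card F := ((dvd_pow_self q hk0).trans (by rw [← hk])).trans (by
        rw [← Nat.card_zpowers]
        exact Subgroup.card_dvd_of_le (Subgroup.zpowers_le.mpr hxF))
      exact hFπ q hq hqπ h1
    rw [hQb, Subgroup.relIndex_bot_left] at hQi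
    rw [nHall_card_eq hB₁]
    intro hd
    rcases hq.dvd_mul.mp hd with h1 | h1
    · exact hQi h1
    · exact hB₁.idx q hq hqπ h1
  -- Glauberman's lemma
  letI a1 : MulDistribMulAction V F := actSub hVF
  have hFA : F ≤ A := by rw [hF]; exact inf_le_left
  have hFc : ∀ f ∈ F, ∀ m ∈ M, m * f = f * m := by
    intro f hf m hm
    have h1 : M ≤ Subgroup.centralizer (F : Set X) := by
      refine hM.trans (sup_le ?_ ?_)
      · intro c hc
        rw [Subgroup.mem_centralizer_iff]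
        intro g hg
        exact Subgroup.mem_centralizer_iff.mp hc.2 g (hFA hg)
      · intro c hc
        rw [Subgroup.mem_centralizer_iff]
        intro g hg
        rw [hF] at hg
        exact (Subgroup.mem_centralizer_iff.mp hg.2 c hc).symm
    exact (Subgroup.mem_centralizer_iff.mp (h1 hm) f hf).symm
  letI a2 : MulAction F {B : Subgroup X // NHall π B A ∧ Nz M B} := actHall ((nz_self A).mono hFA) (by
    intro f hf B hB hMB m hm x hx
    rw [mem_cj] at hx ⊢
    have h1 := hMB m hm _ hx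
    have h2 : f⁻¹ * (m * x * m⁻¹) * f = m * (f⁻¹ * x * f) * m⁻¹ := by
      have h3 := hFc f hf m hm
      have h4 : f⁻¹ * m = m * f⁻¹ := by
        calc f⁻¹ * m = f⁻¹ * (m * f) * f⁻¹ := by group
          _ = f⁻¹ * (f * m) * f⁻¹ := by rw [h3]
          _ = m * f⁻¹ := by group
      have h5 : m⁻¹ * f = f * m⁻¹ := by
        calc m⁻¹ * f = m⁻¹ * (f * m) * m⁻¹ := by group
          _ = m⁻¹ * (m * f) * m⁻¹ := by rw [h3]
          _ = f * m⁻¹ := by group
      calc f⁻¹ * (m * x * m⁻¹) * f = (f⁻¹ * m) * x * (m⁻¹ * f) := by group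
        _ = (m * f⁻¹) * x * (f * m⁻¹) := by rw [h4, h5]
        _ = m * (f⁻¹ * x * f) * m⁻¹ := by group
    rw [h2]
    exact h1)
  letI a3 : MulAction V {B : Subgroup X // NHall π B A ∧ Nz M B} := actHall hVA (by
    intro v hv B hB hMB m hm x hx
    rw [mem_cj] at hx ⊢
    have h0 : v⁻¹ * m * v ∈ M := by
      have := hVM v⁻¹ (V.inv_mem hv) m hm
      rwa [inv_inv] at this
    have h1 := hMB _ h0 _ hx
    have h2 : v⁻¹ * m * v * (v⁻¹ * x * v) * (v⁻¹ * m * v)⁻¹ = v⁻¹ * (m * x * m⁻¹) * v := by group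
    rwa [h2] at h1)
  haveI : Nonempty {B : Subgroup X // NHall π B A ∧ Nz M B} := ⟨⟨B₁, hB₁, hNzM B₁ hB₁.le hPB₁⟩⟩
  have hcop : (Nat.card V).Coprime (Nat.card F) := hV.coprime hFπ
  obtain ⟨⟨ω, hω⟩, -⟩ := Cfsg.Agent.H532.CopAct.glauberman (A := V) (G := F)
    (Ω := {B : Subgroup X // NHall π B A ∧ Nz M B})
    (by
      intro v f B
      apply Subtype.ext
      show MulAut.conj (v : X) • (MulAut.conj (f : X) • B.1)
        = MulAut.conj ((v : X) * f * (v : X)⁻¹) • (MulAut.conj (v : X) • B.1)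
      rw [cj_mul, cj_mul]
      congr 2
      group)
    hcop (Or.inl hVs)
    (by
      intro B B'
      obtain ⟨a, ha, hBB'⟩ := B.2.1.conj B'.2.1
      obtain ⟨n, hn, hnB, hcmp⟩ := compare hq hqπ B.2.1 hP hPA hAP (B.2.2.mono hPM) ha
        (hBB' ▸ B'.2.2.mono hPM)
      have hc : a * n⁻¹ ∈ F := by
        rw [hF]
        refine ⟨A.mul_mem ha (A.inv_mem hn), Subgroup.mem_centralizer_iff.mpr ?_⟩
        intro m hm
        obtain ⟨b, hb, ⟨k, hk⟩, hbm⟩ := hcmp m hm
        have hb1 : b = 1 := by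
          rw [← orderOf_eq_one_iff, hk]
          rcases Nat.eq_zero_or_pos k with h1 | h1
          · rw [h1, pow_zero]
          · exfalso
            apply hqA
            refine (dvd_pow_self q h1.ne').trans ?_
            rw [← hk, ← Nat.card_zpowers]
            exact Subgroup.card_dvd_of_le (Subgroup.zpowers_le.mpr (B.2.1.le hb))
        rw [hb1, one_mul] at hbm
        calc m * (a * n⁻¹) = (a * n⁻¹) * ((n * a⁻¹) * m * (n * a⁻¹)⁻¹) := by group
          _ = a * n⁻¹ * m := by rw [hbm]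
      refine ⟨⟨a * n⁻¹, hc⟩, Subtype.ext ?_⟩
      show MulAut.conj (a * n⁻¹) • B.1 = B'.1
      have h1 : MulAut.conj n⁻¹ • B.1 = B.1 := (cj_inv_eq hnB.symm).symm
      rw [← cj_mul, h1, hBB'])
  refine ⟨ω.1, ω.2.1, nz_of_smul_eq fun v hv => ?_⟩
  exact congrArg Subtype.val (hω ⟨v, hv⟩)

/-- **P. Hall's theorem** (one step). -/
theorem goal_succ {n : ℕ} (hn : Goal.{u} π n) : Goal.{u} π (n + 1) := by
  intro X _ _ A V hlt hA hVA hV hVs
  have ih : Goal.{u} π (Nat.card A) := fun Y _ _ A' V' h => hn Y A' V' (lt_of_lt_of_le h (Nat.lt_succ_iff.mp hlt))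
  by_cases hex : ∃ (q : ℕ) (D : Subgroup X), q.Prime ∧ q ∈ π ∧ D ≤ A ∧ D ≠ ⊥ ∧ IsPGroup q D ∧ Nz V D
  · obtain ⟨q, D, hq, hqπ, hDA, hD, hDq, hVD⟩ := hex
    exact case_one ih hA hVA hV hVs hq hqπ hDA hD hDq hVD
  have hno : ∀ (q : ℕ) (D : Subgroup X), q.Prime → q ∈ π → D ≤ A → IsPGroup q D → Nz V D → D = ⊥ := by
    intro q D hq hqπ hDA hDq hVD
    by_contra hD
    exact hex ⟨q, D, hq, hqπ, hDA, hD, hDq, hVD⟩
  by_cases hc : V ≤ Subgroup.centralizer (A : Set X)
  · obtain ⟨B, hB⟩ := hA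
    exact ⟨B, hB, nz_of_centralizer hc hB.le⟩
  -- `A ⊓ V = ⊥`
  have hdisj : A ⊓ V = ⊥ := by
    by_contra hne
    haveI : Nontrivial (A ⊓ V : Subgroup X) := (Subgroup.nontrivial_iff_ne_bot _).mpr hne
    haveI : Group.IsSolvable (A ⊓ V : Subgroup X) := by
      have h1 : Group.IsSolvable ((A ⊓ V).subgroupOf V) := inferInstance
      exact Group.isSolvable_of_surjective (f := (Subgroup.subgroupOfEquivOfLe (inf_le_right : A ⊓ V ≤ V)).toMonoidHom)
        (Subgroup.subgroupOfEquivOfLe (inf_le_right : A ⊓ V ≤ V)).surjective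
    obtain ⟨q, hq, N, hN, -, hNq, hN1⟩ := Lib.SolvableMinNormal.exists_characteristic_pgroup
      (G := (A ⊓ V : Subgroup X))
    haveI : Fact q.Prime := ⟨hq⟩
    have hqπ : q ∈ π := by
      refine hV q hq ?_
      obtain ⟨k, hk⟩ := IsPGroup.iff_card.mp hNq
      have h1 : q ∣ Nat.card N := by
        rw [hk]
        refine dvd_pow_self q ?_
        rintro rfl
        rw [pow_zero] at hk
        exact hN1 (Subgroup.eq_bot_of_card_eq N hk)
      exact (h1.trans (Subgroup.card_subgroup_dvd_card N)).trans (Subgroup.card_dvd_of_le inf_le_right)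
    have h2 := hno q (N.map (A ⊓ V).subtype) hq hqπ ((Subgroup.map_subtype_le _).trans inf_le_left) (hNq.map _)
      (char_nz (hVA.inf (nz_self V)) hN)
    rw [Subgroup.map_eq_bot_iff_of_injective _ (A ⊓ V).subtype_injective] at h2
    exact hN1 h2
  obtain ⟨q, M, P, hq, hqV, hMV, hVM, hPM, hP, hPc, hM⟩ := exists_section hVA hVs hc
  have hqπ : q ∈ π := hV q hq hqV
  have hPA : Nz P A := hVA.mono (hPM.trans hMV)
  have hAP : A ⊓ P = ⊥ := le_bot_iff.mp (hdisj ▸ inf_le_inf_left A (hPM.trans hMV))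
  obtain hFH := hall_centralizer hq hqπ hA hP hPA hAP
    (fun V' D r hVA' hV' hVs' hr hrπ hDA hD hDr hVD => case_one ih hA hVA' hV' hVs' hr hrπ hDA hD hDr hVD)
  set F : Subgroup X := A ⊓ Subgroup.centralizer (P : Set X) with hF
  have hFA : F ≤ A := inf_le_left
  have hFne : F ≠ A := by
    intro h
    apply hPc
    intro m hm
    rw [Subgroup.mem_centralizer_iff]
    intro a ha
    have h1 : a ∈ F := h ▸ ha
    exact (Subgroup.mem_centralizer_iff.mp h1.2 m hm).symm
  have hFlt : Nat.card F < Nat.card A := by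
    refine lt_of_le_of_ne (Nat.le_of_dvd Nat.card_pos (Subgroup.card_dvd_of_le hFA)) (fun h => ?_)
    exact hFne (eq_of_le_of_card hFA h.symm)
  have hFM : ∀ f ∈ F, ∀ m ∈ M, m * f = f * m := by
    intro f hf m hm
    have h1 : M ≤ Subgroup.centralizer (F : Set X) := by
      refine hM.trans (sup_le ?_ ?_)
      · intro c hc
        rw [Subgroup.mem_centralizer_iff]
        intro g hg
        exact Subgroup.mem_centralizer_iff.mp hc.2 g (hFA hg)
      · intro c hc
        rw [Subgroup.mem_centralizer_iff]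
        intro g hg
        exact (Subgroup.mem_centralizer_iff.mp hg.2 c hc).symm
    exact (Subgroup.mem_centralizer_iff.mp (h1 hm) f hf).symm
  have hVF : Nz V F := by
    intro v hv f hf
    refine ⟨hVA v hv f hf.1, Subgroup.mem_centralizer_iff.mpr ?_⟩
    intro m hm
    have h0 : v⁻¹ * m * v ∈ M := by
      have := hVM v⁻¹ (V.inv_mem hv) m (hPM hm)
      rwa [inv_inv] at this
    have h1 := hFM f hf _ h0
    calc m * (v * f * v⁻¹) = v * (v⁻¹ * m * v * f) * v⁻¹ := by group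
      _ = v * (f * (v⁻¹ * m * v)) * v⁻¹ := by rw [h1]
      _ = v * f * v⁻¹ * m := by group
  obtain ⟨C, hC, hVC⟩ := ih X F V hFlt hFH hVF hV hVs
  have hFπ : PiN' π (Nat.card F) := by
    have h1 : Nat.card C = 1 := by
      refine eq_one_of_both hC.pi ?_
      intro p hp hpπ hd
      haveI : Fact p.Prime := ⟨hp⟩
      obtain ⟨Q, hQC, hQ, hQmax, hQi⟩ := exists_qpart hC.nil p hp
      have h2 := hno p Q hp hpπ ((hQC.trans hC.le).trans hFA) hQ (qpart_nz hVC hQC hQ hQmax)
      rw [h2, Subgroup.relIndex_bot_left] at hQi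
      exact hQi hd
    rw [nHall_card_eq hC, h1, one_mul]
    exact fun p hp hpπ => hC.idx p hp hpπ
  exact final_step hq hqπ hVA hV hVs hdisj hMV hVM hPM hP hM hF hVF hFπ hA

theorem goal (n : ℕ) : Goal.{u} π n := by
  induction n with
  | zero => intro X _ _ A V h; exact absurd h (Nat.not_lt_zero _)
  | succ n ih => exact goal_succ ih

/-- **P. Hall's theorem D5**: a solvable `π`-group normalizing `A` normalizes a nilpotent Hall `π`-subgroup of `A`. -/
theorem exists_nz {A V : Subgroup X} (hA : ∃ B, NHall π B A) (hVA : Nz V A) (hV : PiN π (Nat.card V))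
    (hVs : Group.IsSolvable V) : ∃ B, NHall π B A ∧ Nz V B :=
  goal (Nat.card A + 1) X A V (Nat.lt_succ_self _) hA hVA hV hVs

end Cfsg.Agent.H165.NilHall
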