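import Cfsg.Agent.H165.NHallD
import Cfsg.Agent.H20.DPi
import Cfsg.Agent.H553.OddHall
import Cfsg.Agent.PLocal.Constrained
import Cfsg.Agent.PLocal.PSolvable
import Cfsg.Agent.Lib.Cores

/-!
# Towards Wielandt's conjecture (S4335): groups with enough Hall subgroups
-/

set_option autoImplicit false
open Cfsg
open scoped Pointwise

namespace Cfsg.Agent.H165.Wiel

open Cfsg.Agent.H988.CPi Cfsg.Agent.H20.DPi Cfsg.Agent.H165.NilHall

universe u

/-- `HasD` inside a subgroup. -/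
theorem hasD_rel {G : Type u} [Group G] [Finite G] {π : Set ℕ} {C : Subgroup G} (h : HasD π C) {K U : Subgroup G}
    (hKC : K ≤ C) (hUC : U ≤ C) (hK : PiN π (Nat.card K)) (hKi : PiN' π (K.relIndex C)) (hU : PiN π (Nat.card U)) :
    ∃ c ∈ C, U ≤ MulAut.conj c • K := by
  obtain ⟨g, hg⟩ := h.2 (K.subgroupOf C) (U.subgroupOf C) ⟨by rw [card_subgroupOf hKC]; exact hK, hKi⟩
    (by rw [card_subgroupOf hUC]; exact hU)
  refine ⟨(g : G)⁻¹, C.inv_mem g.2, fun x hx => ?_⟩
  rw [mem_cj, inv_inv]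
  have h1 : g * ⟨x, hUC hx⟩ * g⁻¹ ∈ K.subgroupOf C := hg ⟨⟨x, hUC hx⟩, hx, rfl⟩
  exact h1

theorem hasD_smul {G : Type u} [Group G] [Finite G] {π : Set ℕ} (h : HasD π G) {K U : Subgroup G}
    (hK : IsPiHall π K) (hU : PiN π (Nat.card U)) : ∃ g : G, U ≤ MulAut.conj g • K := by
  obtain ⟨g, hg⟩ := h.2 K U hK hU
  refine ⟨g⁻¹, fun x hx => ?_⟩
  rw [mem_cj, inv_inv]
  exact hg ⟨x, hx, rfl⟩

theorem hasD_of_subsingleton {G : Type u} [Group G] [Finite G] (π : Set ℕ) (h : Nat.card G = 1) : HasD π G := by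
  have hb : ∀ U : Subgroup G, U = ⊥ := by
    intro U
    apply Subgroup.eq_bot_of_card_eq
    have := Subgroup.card_subgroup_dvd_card U
    rw [h] at this
    exact Nat.dvd_one.mp this
  refine ⟨⟨⊥, ?_, ?_⟩, ?_⟩
  · intro p hp hd
    rw [Subgroup.card_bot] at hd
    exact absurd (Nat.dvd_one.1 hd) hp.one_lt.ne'
  · intro p hp _ hd
    rw [Subgroup.index_bot, h] at hd
    exact absurd (Nat.dvd_one.1 hd) hp.one_lt.ne'
  · intro K U _ _
    refine ⟨1, ?_⟩
    rw [hb (U.map _)]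
    exact bot_le

/-- `X` is `r`-solvable for all `r ∈ τ`. -/
def TS (τ : Set ℕ) (X : Type u) [Group X] : Prop := ∀ r : ℕ, r.Prime → r ∈ τ → IsPSolvable r X

theorem TS.subgroup {τ : Set ℕ} {X : Type u} [Group X] (h : TS τ X) (C : Subgroup X) : TS τ C := fun r hr hτ => by
  haveI : Fact r.Prime := ⟨hr⟩
  exact PLocal.PSolvable.isPSolvable_subgroup (h r hr hτ) C

theorem TS.quotient {τ : Set ℕ} {X : Type u} [Group X] (h : TS τ X) (N : Subgroup X) [N.Normal] : TS τ (X ⧸ N) :=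
  fun r hr hτ => by
    haveI : Fact r.Prime := ⟨hr⟩
    exact PLocal.PSolvable.isPSolvable_quotient (h r hr hτ) N

theorem exists_min_normal (G : Type u) [Group G] [Finite G] (A₀ : Subgroup G) (h0 : A₀.Normal) (hne : A₀ ≠ ⊥) :
    ∃ A : Subgroup G, A.Normal ∧ A ≠ ⊥ ∧ A ≤ A₀ ∧ ∀ B : Subgroup G, B.Normal → B ≤ A → B ≠ ⊥ → B = A := by
  obtain ⟨A, hA1, hA2⟩ := Finite.exists_le_minimal (α := Subgroup G) (p := fun A => A.Normal ∧ A ≠ ⊥) (a := A₀)
    ⟨h0, hne⟩
  refine ⟨A, hA2.1.1, hA2.1.2, hA1, fun B hB hBA hB1 => le_antisymm hBA (hA2.2 ⟨hB, hB1⟩ hBA)⟩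

theorem pprime_card {X : Type u} [Group X] [Finite X] {N : Subgroup X} [hN : N.Normal]
    (hmin : ∀ B : Subgroup X, B.Normal → B ≤ N → B ≠ ⊥ → B = N) (hNb : N ≠ ⊥) {r : ℕ} (hr : r.Prime)
    (hs : IsPSolvable r N) : IsPGroup r N ∨ ¬ r ∣ Nat.card N := by
  haveI : Fact r.Prime := ⟨hr⟩
  haveI : Nontrivial N := (Subgroup.nontrivial_iff_ne_bot N).mpr hNb
  rcases PLocal.Constrained.pCore_or_pPrimeCore_ne_bot hs with h | h
  · left
    haveI hc := Lib.Cores.pCore_characteristic (G := N) r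
    have hn : ((pCore r N).map N.subtype).Normal := inferInstance
    have h1 := hmin _ hn (Subgroup.map_subtype_le _) (by
      rw [Ne, Subgroup.map_eq_bot_iff_of_injective _ N.subtype_injective]; exact h)
    rw [← h1]
    exact (Lib.Cores.pCore_isPGroup r).map _
  · right
    haveI hc := Lib.Cores.pPrimeCore_characteristic (G := N) r
    have hn : ((pPrimeCore r N).map N.subtype).Normal := inferInstance
    have h1 := hmin _ hn (Subgroup.map_subtype_le _) (by
      rw [Ne, Subgroup.map_eq_bot_iff_of_injective _ N.subtype_injective]; exact h)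
    have h2 := Lib.Cores.pPrimeCore_coprime (G := N) r
    rw [← Subgroup.card_map_of_injective N.subtype_injective, h1] at h2
    exact fun hd => (Nat.Prime.coprime_iff_not_dvd hr).mp h2.symm hd

theorem card_quotient_lt {X : Type u} [Group X] [Finite X] {N : Subgroup X} (hN : N ≠ ⊥) :
    Nat.card (X ⧸ N) < Nat.card X := by
  rw [Subgroup.card_eq_card_quotient_mul_card_subgroup N]
  have h1 : 1 < Nat.card N := (Subgroup.one_lt_card_iff_ne_bot N).2 hN
  have h2 : 0 < Nat.card (X ⧸ N) := Nat.card_pos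
  nlinarith

theorem hasD_of_ts_aux (n : ℕ) : ∀ (X : Type u) [Group X] [Finite X], Nat.card X = n → ∀ τ ρ : Set ℕ, TS τ X →
    ((∀ p : ℕ, p.Prime → p ∣ Nat.card X → p ∉ τ → p ∈ ρ) ∨ (∀ p : ℕ, p.Prime → p ∣ Nat.card X → p ∉ τ → p ∉ ρ)) →
    HasD ρ X := by
  induction n using Nat.strong_induction_on with
  | _ n ih =>
    intro X _ _ hn τ ρ hts hρ
    by_cases h1 : Nat.card X = 1
    · exact hasD_of_subsingleton ρ h1
    have htop : (⊤ : Subgroup X) ≠ ⊥ := by
      intro h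
      apply h1
      rw [← Subgroup.card_top (G := X), h, Subgroup.card_bot]
    obtain ⟨N, hN, hNb, -, hmin⟩ := exists_min_normal X ⊤ inferInstance htop
    refine hasD_step N ?_ (ih _ (hn ▸ card_quotient_lt hNb) (X ⧸ N) rfl τ ρ (hts.quotient N) ?_)
    · by_cases hex : ∃ r : ℕ, r.Prime ∧ r ∈ τ ∧ r ∣ Nat.card N
      · obtain ⟨r, hr, hrτ, hrN⟩ := hex
        haveI : Fact r.Prime := ⟨hr⟩
        rcases pprime_card hmin hNb hr (hts.subgroup N r hr hrτ) with h | h
        · obtain ⟨k, hk⟩ := IsPGroup.iff_card.mp h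
          have hq : ∀ q : ℕ, q.Prime → q ∣ Nat.card N → q = r := by
            intro q hq hd
            rw [hk] at hd
            exact (Nat.prime_dvd_prime_iff_eq hq hr).mp (hq.dvd_of_dvd_pow hd)
          by_cases hrρ : r ∈ ρ
          · exact Or.inl fun q hqp hd => (hq q hqp hd) ▸ hrρ
          · exact Or.inr fun q hqp hd => (hq q hqp hd) ▸ hrρ
        · exact absurd hrN h
      · push Not at hex
        have hd : Nat.card N ∣ Nat.card X := Subgroup.card_subgroup_dvd_card N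
        rcases hρ with hρ | hρ
        · exact Or.inl fun q hq hqd => hρ q hq (hqd.trans hd) fun hqτ => hex q hq hqτ hqd
        · exact Or.inr fun q hq hqd => hρ q hq (hqd.trans hd) fun hqτ => hex q hq hqτ hqd
    · have hd : Nat.card (X ⧸ N) ∣ Nat.card X := Subgroup.card_quotient_dvd_card N
      rcases hρ with hρ | hρ
      · exact Or.inl fun q hq hqd => hρ q hq (hqd.trans hd)
      · exact Or.inr fun q hq hqd => hρ q hq (hqd.trans hd)

theorem hasD_of_ts {X : Type u} [Group X] [Finite X] {τ ρ : Set ℕ} (h : TS τ X)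
    (hρ : (∀ p : ℕ, p.Prime → p ∣ Nat.card X → p ∉ τ → p ∈ ρ) ∨ (∀ p : ℕ, p.Prime → p ∣ Nat.card X → p ∉ τ → p ∉ ρ)) :
    HasD ρ X := hasD_of_ts_aux _ X rfl τ ρ h hρ

theorem hasD_of_solvable_aux (n : ℕ) : ∀ (X : Type u) [Group X] [Finite X], Nat.card X = n → Group.IsSolvable X →
    ∀ ρ : Set ℕ, HasD ρ X := by
  induction n using Nat.strong_induction_on with
  | _ n ih =>
    intro X _ _ hn hs ρ
    by_cases h1 : Nat.card X = 1
    · exact hasD_of_subsingleton ρ h1
    haveI : Nontrivial X := by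
      rw [← not_subsingleton_iff_nontrivial]
      intro h
      exact h1 (Nat.card_unique)
    obtain ⟨p, hp, N, hN, -, hNp, hNb⟩ := Lib.SolvableMinNormal.exists_characteristic_pgroup (G := X)
    haveI : Fact p.Prime := ⟨hp⟩
    refine hasD_step N ?_ (ih _ (hn ▸ card_quotient_lt hNb) (X ⧸ N) rfl
      (Group.isSolvable_of_surjective (QuotientGroup.mk'_surjective N)) ρ)
    obtain ⟨k, hk⟩ := IsPGroup.iff_card.mp hNp
    have hq : ∀ q : ℕ, q.Prime → q ∣ Nat.card N → q = p := by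
      intro q hq hd
      rw [hk] at hd
      exact (Nat.prime_dvd_prime_iff_eq hq hp).mp (hq.dvd_of_dvd_pow hd)
    by_cases hrρ : p ∈ ρ
    · exact Or.inl fun q hqp hd => (hq q hqp hd) ▸ hrρ
    · exact Or.inr fun q hqp hd => (hq q hqp hd) ▸ hrρ

theorem hasD_of_solvable {X : Type u} [Group X] [Finite X] (h : Group.IsSolvable X) (ρ : Set ℕ) : HasD ρ X :=
  hasD_of_solvable_aux _ X rfl h ρ

/-- a normal `π`- or `π'`-subgroup with solvable quotient -/
theorem hasD_of_normal {X : Type u} [Group X] [Finite X] {π : Set ℕ} (N : Subgroup X) [N.Normal]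
    (hN : PiN π (Nat.card N) ∨ PiN' π (Nat.card N)) (hs : Group.IsSolvable (X ⧸ N)) : HasD π X :=
  hasD_step N (hN.imp (fun h => h) (fun h q hq hd hπ => h q hq hπ hd)) (hasD_of_solvable hs π)

/-- a chain `S ≤ B` of normal subgroups: `S` a `π`-group, `B / S` a `π'`-group, solvable quotient -/
theorem hasD_of_chain {X : Type u} [Group X] [Finite X] {π : Set ℕ} (S B : Subgroup X) [S.Normal] [B.Normal] (hSB : S ≤ B)
    (h1 : PiN π (Nat.card S)) (h2 : PiN' π (S.relIndex B)) (hs : Group.IsSolvable (X ⧸ B)) : HasD π X := by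
  refine hasD_step S (Or.inl h1) ?_
  haveI : (B.map (QuotientGroup.mk' S)).Normal :=
    Subgroup.Normal.map inferInstance _ (QuotientGroup.mk'_surjective S)
  refine hasD_of_normal (B.map (QuotientGroup.mk' S)) (Or.inr ?_) ?_
  · rw [← Subgroup.relIndex_ker, QuotientGroup.ker_mk']
    exact h2
  · have h3 : B ≤ ((QuotientGroup.mk' (B.map (QuotientGroup.mk' S))).comp (QuotientGroup.mk' S)).ker := by
      intro x hx
      rw [MonoidHom.mem_ker, MonoidHom.comp_apply, ← MonoidHom.mem_ker, QuotientGroup.ker_mk']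
      exact ⟨x, hx, rfl⟩
    refine Group.isSolvable_of_surjective (f := QuotientGroup.lift B _ h3) ?_
    refine QuotientGroup.lift_surjective_of_surjective B _ ?_ h3
    exact (QuotientGroup.mk'_surjective _).comp (QuotientGroup.mk'_surjective S)

theorem relIndex_cj_self {G : Type u} [Group G] {A K : Subgroup G} {g : G} (hg : MulAut.conj g • A = A) :
    (MulAut.conj g • K).relIndex A = K.relIndex A := by
  conv_lhs => rw [← hg]
  exact Subgroup.relIndex_pointwise_smul _ _ _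

/-- Lemma E': a `π`-subgroup normalizing some Hall `π`-subgroup of `A` lies in a Hall `π`-subgroup of `G`. -/
theorem conj_of_nz_hall {G : Type u} [Group G] [Finite G] {π : Set ℕ} (A : Subgroup G) [hA : A.Normal]
    (hs : Group.IsSolvable (G ⧸ A)) {H K B : Subgroup G} (hH : IsPiHall π H) (hK : PiN π (Nat.card K)) (hBA : B ≤ A)
    (hB : PiN π (Nat.card B)) (hKB : Nz K B) (hconj : ∃ a : G, B = MulAut.conj a • (H ⊓ A)) :
    ∃ g : G, K ≤ MulAut.conj g • H := by
  obtain ⟨a, ha⟩ := hconj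
  set N : Subgroup G := Subgroup.normalizer (B : Set G) with hN
  have hKN : K ≤ N := hKB.le_normalizer
  have hBN : B ≤ N := (nz_self B).le_normalizer
  have hHN : MulAut.conj a • H ≤ N := by
    rw [hN, ← nz_iff, ha]
    intro v hv x hx
    rw [mem_cj] at hv hx ⊢
    have h1 : a⁻¹ * (v * x * v⁻¹) * a = (a⁻¹ * v * a) * (a⁻¹ * x * a) * (a⁻¹ * v * a)⁻¹ := by group
    rw [h1]
    exact ⟨H.mul_mem (H.mul_mem hv hx.1) (H.inv_mem hv), hA.conj_mem _ hx.2 _⟩
  haveI h1 : (B.subgroupOf N).Normal := (Subgroup.normal_subgroupOf_iff_le_normalizer hBN).mpr le_rfl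
  haveI h2 : (A.subgroupOf N).Normal := inferInstance
  have hD : HasD π N := by
    refine hasD_of_chain (B.subgroupOf N) (A.subgroupOf N) (fun x hx => hBA hx) ?_ ?_ ?_
    · rw [card_subgroupOf hBN]; exact hB
    · have h3 : PiN' π (B.relIndex A) := by
        have h4 : PiN' π ((H ⊓ A).relIndex A) := by
          rw [Subgroup.inf_relIndex_right]
          exact PiN'.of_dvd hH.2 ⟨_, (relIndex_mul_sup_index H A).symm⟩
        have h5 : MulAut.conj a • A = A := (nz_normal ⊤ A).smul_eq (Subgroup.mem_top a)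
        rw [ha, relIndex_cj_self h5]
        exact h4
      refine h3.of_dvd ?_
      have h6 : (B.subgroupOf N).relIndex (A.subgroupOf N) = B.relIndex (A ⊓ N) := by
        rw [← Subgroup.inf_subgroupOf_right A N, Subgroup.relIndex_subgroupOf inf_le_right]
      rw [h6]
      have h7 : B ≤ A ⊓ N := le_inf hBA hBN
      rw [← Subgroup.relIndex_mul_relIndex _ _ _ h7 (inf_le_left : A ⊓ N ≤ A)]
      exact dvd_mul_right _ _
    · have hle : A.subgroupOf N ≤ Subgroup.comap N.subtype A := fun x hx => hx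
      have h8 : Function.Injective (QuotientGroup.map (A.subgroupOf N) A N.subtype hle) := by
        rw [← MonoidHom.ker_eq_bot_iff, eq_bot_iff]
        intro x hx
        obtain ⟨y, rfl⟩ := QuotientGroup.mk_surjective x
        rw [MonoidHom.mem_ker] at hx
        change ((y : G) : G ⧸ A) = 1 at hx
        rw [QuotientGroup.eq_one_iff] at hx
        rw [Subgroup.mem_bot, QuotientGroup.eq_one_iff]
        exact hx
      exact Group.isSolvable_of_isSolvable_injective h8
  have hHa : IsPiHall π (MulAut.conj a • H) := isPiHall_smul hH a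
  obtain ⟨c, -, hc⟩ := hasD_rel hD hHN hKN hHa.1 (PiN'.of_dvd hHa.2 ⟨_, (Subgroup.relIndex_mul_index hHN).symm⟩) hK
  exact ⟨c * a, by rw [← cj_mul]; exact hc⟩

/-- Lemma T: both parts can be conjugated simultaneously if centralizers satisfy `D_τ`. -/
theorem conj_of_hasD {G : Type u} [Group G] [Finite G] {σ τ : Set ℕ} {Hs Ht : Subgroup G} (hHt : IsPiHall τ Ht)
    (hcomm : ∀ a ∈ Hs, ∀ b ∈ Ht, a * b = b * a)
    (hDs : ∀ K : Subgroup G, PiN σ (Nat.card K) → ∃ g : G, K ≤ MulAut.conj g • Hs)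
    (hC : ∀ C : Subgroup G, HasD τ C) {Ks Kt : Subgroup G} (hKs : PiN σ (Nat.card Ks)) (hKt : PiN τ (Nat.card Kt))
    (hK : ∀ a ∈ Ks, ∀ b ∈ Kt, a * b = b * a) : ∃ g : G, Ks ⊔ Kt ≤ MulAut.conj g • (Hs ⊔ Ht) := by
  obtain ⟨g, hg⟩ := hDs Ks hKs
  set Ks' := MulAut.conj g⁻¹ • Ks with hKs'
  set Kt' := MulAut.conj g⁻¹ • Kt with hKt'
  have hs' : Ks' ≤ Hs := by
    intro x hx
    rw [hKs', mem_cj, inv_inv] at hx
    have h1 := hg hx
    rw [mem_cj] at h1
    have h2 : g⁻¹ * (g * x * g⁻¹) * g = x := by group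
    rwa [h2] at h1
  set C : Subgroup G := Subgroup.centralizer (Ks' : Set G) with hCdef
  have hHtC : Ht ≤ C := by
    intro x hx
    rw [hCdef, Subgroup.mem_centralizer_iff]
    intro y hy
    exact hcomm y (hs' hy) x hx
  have hKtC : Kt' ≤ C := by
    intro x hx
    rw [hCdef, Subgroup.mem_centralizer_iff]
    intro y hy
    rw [hKs', SetLike.mem_coe, mem_cj, inv_inv] at hy
    rw [hKt', mem_cj, inv_inv] at hx
    have h1 := hK _ hy _ hx
    have h2 : g⁻¹ * (g * y * g⁻¹ * (g * x * g⁻¹)) * g = g⁻¹ * (g * x * g⁻¹ * (g * y * g⁻¹)) * g := by rw [h1]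
    have h3 : g⁻¹ * (g * y * g⁻¹ * (g * x * g⁻¹)) * g = y * x := by group
    have h4 : g⁻¹ * (g * x * g⁻¹ * (g * y * g⁻¹)) * g = x * y := by group
    rw [h3, h4] at h2
    exact h2
  obtain ⟨c, hc, hle⟩ := hasD_rel (hC C) hHtC hKtC hHt.1
    (PiN'.of_dvd hHt.2 ⟨_, (Subgroup.relIndex_mul_index hHtC).symm⟩) (by rw [hKt', card_cj]; exact hKt)
  refine ⟨g * c, sup_le ?_ ?_⟩
  · intro x hx
    rw [mem_cj]
    apply Subgroup.mem_sup_left
    have h1 : g⁻¹ * x * g ∈ Ks' := by
      rw [hKs', mem_cj, inv_inv]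
      have : g * (g⁻¹ * x * g) * g⁻¹ = x := by group
      rwa [this]
    have h2 : (g * c)⁻¹ * x * (g * c) = g⁻¹ * x * g := by
      have h3 := (Subgroup.mem_centralizer_iff.mp hc _ h1)
      calc (g * c)⁻¹ * x * (g * c) = c⁻¹ * ((g⁻¹ * x * g) * c) := by group
        _ = c⁻¹ * (c * (g⁻¹ * x * g)) := by rw [h3]
        _ = g⁻¹ * x * g := by group
    rw [h2]
    exact hs' h1
  · intro x hx
    rw [mem_cj]
    apply Subgroup.mem_sup_right
    have h1 : g⁻¹ * x * g ∈ Kt' := by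
      rw [hKt', mem_cj, inv_inv]
      have : g * (g⁻¹ * x * g) * g⁻¹ = x := by group
      rwa [this]
    have h2 := hle h1
    rw [mem_cj] at h2
    have h3 : (g * c)⁻¹ * x * (g * c) = c⁻¹ * (g⁻¹ * x * g) * c := by group
    rw [h3]
    exact h2

end Cfsg.Agent.H165.Wiel
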