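import Cfsg.Agent.H165.WielA
import Cfsg.Agent.S4334

/-!
# Towards Wielandt's conjecture (S4335): the decomposition of `π`-subgroups
-/

set_option autoImplicit false
open Cfsg
open scoped Pointwise

namespace Cfsg.Agent.H165.Wiel

open Cfsg.Agent.H988.CPi Cfsg.Agent.H20.DPi Cfsg.Agent.H165.NilHall Cfsg.Agent.H569.PiHall

universe u

variable {G : Type u} [Group G] [Finite G] {σ τ : Set ℕ}

/-- class sizes of `q`-elements in the presence of commuting Hall subgroups -/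
theorem not_dvd_index_centralizer {Hs Ht : Subgroup G} {q r : ℕ} (hq : q.Prime) (hqi : ¬ q ∣ Hs.index)
    (hri : ¬ r ∣ Ht.index) (hcomm : ∀ a ∈ Hs, ∀ b ∈ Ht, a * b = b * a) (x : G) (hx : ∃ k : ℕ, orderOf x = q ^ k) :
    ¬ r ∣ (Subgroup.centralizer ({x} : Set G)).index := by
  intro hd
  haveI : Fact q.Prime := ⟨hq⟩
  obtain ⟨k, hk⟩ := hx
  have hxp : IsPGroup q (Subgroup.zpowers x) := by
    rw [IsPGroup.iff_card]
    exact ⟨k, by rw [Nat.card_zpowers, hk]⟩
  obtain ⟨g, hg⟩ := Cfsg.Agent.H630.NH.exists_conj_le q (Subgroup.zpowers x) hxp Hs hqi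
  have h1 := hg x (Subgroup.mem_zpowers x)
  have h2 : Ht ≤ Subgroup.centralizer ({g * x * g⁻¹} : Set G) := by
    intro y hy
    rw [Subgroup.mem_centralizer_singleton_iff]
    exact (hcomm _ h1 y hy).symm
  have h3 : (Subgroup.centralizer ({g * x * g⁻¹} : Set G)).index = (Subgroup.centralizer ({x} : Set G)).index := by
    have h4 := Cfsg.Agent.H630.NH.centralizer_map_equiv (MulAut.conj g) x
    have h5 : (MulAut.conj g) x = g * x * g⁻¹ := rfl
    rw [h5] at h4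
    rw [h4]
    exact Subgroup.index_map_equiv _ _
  rw [← h3] at hd
  exact hri (hd.trans (Subgroup.index_dvd_of_le h2))

/-- `D_{σ ∪ {r}}` from `D_σ` (S4334). -/
theorem dpi_union_prime {Hs Ht : Subgroup G} (hHs : IsPiHall σ Hs) (hHt : IsPiHall τ Ht) (hd : Disjoint σ τ)
    (hcomm : ∀ a ∈ Hs, ∀ b ∈ Ht, a * b = b * a) (hD : IsDPiGroup σ G) {r : ℕ} (hr : r.Prime) (hrτ : r ∈ τ) :
    ∃ R : Subgroup G, R ≤ Ht ∧ IsPGroup r R ∧
      ∀ M : Subgroup G, PiN ({r} ∪ σ) (Nat.card M) → ∃ g : G, ∀ x ∈ M, g⁻¹ * x * g ∈ R ⊔ Hs := by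
  haveI : Fact r.Prime := ⟨hr⟩
  obtain ⟨R, hRH, -, hR, hRi⟩ := exists_rel_sylow hr (bot_le (a := Ht)) IsPGroup.of_bot
  have hRs : PiN ({r} : Set ℕ) (Nat.card R) := piN_of_isPGroup hr (Set.mem_singleton r) hR
  have hRindex : ¬ r ∣ R.index := by
    rw [← Subgroup.relIndex_mul_index hRH]
    intro h
    rcases hr.dvd_mul.mp h with h1 | h1
    · exact hRi h1
    · exact hHt.2 r hr hrτ h1
  have hc : ∀ a ∈ R, ∀ b ∈ Hs, a * b = b * a := fun a ha b hb => (hcomm b hb a (hRH ha)).symm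
  have hHall : IsPiHall ({r} ∪ σ) (R ⊔ Hs) := by
    refine ⟨?_, ?_⟩
    · have h1 : Nat.card (R ⊔ Hs : Subgroup G) ∣ Nat.card R * Nat.card Hs := (card_sup_comm hc).1
      intro p hp h2
      rcases hp.dvd_mul.mp (h2.trans h1) with h3 | h3
      · exact Or.inl (hRs p hp h3)
      · exact Or.inr (hHs.1 p hp h3)
    · rintro p hp (h1 | h1) h2
      · rw [Set.mem_singleton_iff] at h1
        subst h1
        exact hRindex (h2.trans (Subgroup.index_dvd_of_le le_sup_left))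
      · exact hHs.2 p hp h1 (h2.trans (Subgroup.index_dvd_of_le le_sup_right))
  have hnil : Group.IsNilpotent R := hR.isNilpotent
  have hdisj : Disjoint ({r} : Set ℕ) σ := by
    rw [Set.disjoint_singleton_left]
    exact fun h => Set.disjoint_left.mp hd h hrτ
  have hD' : IsDPiGroup ({r} ∪ σ) G :=
    Cfsg.Agent.S4334.result ({r} : Set ℕ) σ ({r} ∪ σ) rfl hdisj (R ⊔ Hs) R Hs hHall hRs hHs.1 hnil rfl hc hD
  exact ⟨R, hRH, hR, fun M hM => exists_conj_of_isDPiGroup hD' (maximal_of_isPiHall hHall) hM⟩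

/-- Step 1: `π`-subgroups are direct products. -/
theorem exists_decomp {Hs Ht : Subgroup G} (hHs : IsPiHall σ Hs) (hHt : IsPiHall τ Ht) (hd : Disjoint σ τ)
    (hcomm : ∀ a ∈ Hs, ∀ b ∈ Ht, a * b = b * a) (hD : IsDPiGroup σ G) {K : Subgroup G}
    (hK : PiN (σ ∪ τ) (Nat.card K)) (h1 : HasD σ K) (h2 : ∀ r : ℕ, r.Prime → r ∈ τ → HasD ({r} ∪ σ) K)
    (h3 : ∀ C : Subgroup K, HasD τ C) :
    ∃ Ks Kt : Subgroup G, PiN σ (Nat.card Ks) ∧ PiN τ (Nat.card Kt) ∧ (∀ a ∈ Ks, ∀ b ∈ Kt, a * b = b * a) ∧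
      K = Ks ⊔ Kt := by
  obtain ⟨Ks₀, hKs₀⟩ := h1.1
  set C : Subgroup K := Subgroup.centralizer (Ks₀ : Set K) with hC
  -- the index of `C` is a `σ`-number
  have hCi : ∀ r : ℕ, r.Prime → r ∈ τ → ¬ r ∣ C.index := by
    intro r hr hrτ hdv
    haveI : Fact r.Prime := ⟨hr⟩
    obtain ⟨⟨M₀, hM₀⟩, hDr⟩ := h2 r hr hrτ
    obtain ⟨g, hg⟩ := hDr M₀ Ks₀ hM₀ (fun p hp hpd => Or.inr (hKs₀.1 p hp hpd))
    set M : Subgroup K := MulAut.conj g⁻¹ • M₀ with hM
    have hMH : IsPiHall ({r} ∪ σ) M := isPiHall_smul hM₀ g⁻¹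
    have hKM : Ks₀ ≤ M := by
      intro x hx
      rw [hM, mem_cj, inv_inv]
      exact hg ⟨x, hx, rfl⟩
    obtain ⟨S, hSM, -, hS, hSi⟩ := exists_rel_sylow hr (bot_le (a := M)) IsPGroup.of_bot
    obtain ⟨R, hRH, hR, hconj⟩ := dpi_union_prime hHs hHt hd hcomm hD hr hrτ
    obtain ⟨y, hy⟩ := hconj (M.map K.subtype) (by
      rw [Subgroup.card_map_of_injective K.subtype_injective]
      exact hMH.1)
    have hRHs : ∀ a ∈ R, ∀ b ∈ Hs, a * b = b * a := fun a ha b hb => (hcomm b hb a (hRH ha)).symm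
    have hrHs : ¬ r ∣ Nat.card Hs := fun h => Set.disjoint_left.mp hd (hHs.1 r hr h) hrτ
    have hSC : S ≤ C := by
      intro s hs
      rw [hC, Subgroup.mem_centralizer_iff]
      intro k hk
      obtain ⟨j, hj⟩ := isPGroup_elem hS hs
      have e1 : y⁻¹ * (s : G) * y ∈ R := by
        refine mem_left_of_coprime (Hs := R) (Ht := Hs) rfl hRHs (hy _ ⟨s, hSM hs, rfl⟩) ?_
        have h4 : orderOf (y⁻¹ * (s : G) * y) = r ^ j := by
          have h5 : y⁻¹ * (s : G) * y = MulAut.conj y⁻¹ (s : G) := by simp [MulAut.conj_apply]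
          rw [h5, ← hj, ← Subgroup.orderOf_coe]
          exact orderOf_injective (MulAut.conj y⁻¹).toMonoidHom (MulAut.conj y⁻¹).injective (s : G)
        rw [h4]
        exact Nat.Coprime.pow_left j ((Nat.Prime.coprime_iff_not_dvd hr).mpr hrHs)
      have e2 : y⁻¹ * (k : G) * y ∈ Hs := by
        refine mem_right_of_coprime (Hs := R) (Ht := Hs) rfl hRHs (hy _ ⟨k, hKM hk, rfl⟩) ?_
        have h4 : orderOf (y⁻¹ * (k : G) * y) = orderOf k := by
          have h5 : y⁻¹ * (k : G) * y = MulAut.conj y⁻¹ (k : G) := by simp [MulAut.conj_apply]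
          rw [h5, ← Subgroup.orderOf_coe]
          exact orderOf_injective (MulAut.conj y⁻¹).toMonoidHom (MulAut.conj y⁻¹).injective (k : G)
        rw [h4]
        obtain ⟨l, hl⟩ := IsPGroup.iff_card.mp hR
        rw [hl]
        refine Nat.Coprime.pow_right l (Nat.Coprime.symm ((Nat.Prime.coprime_iff_not_dvd hr).mpr ?_))
        intro h5
        have h6 : r ∣ Nat.card Ks₀ := h5.trans (by
          rw [← Nat.card_zpowers]
          exact Subgroup.card_dvd_of_le (Subgroup.zpowers_le.mpr hk))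
        exact Set.disjoint_left.mp hd (hKs₀.1 r hr h6) hrτ
      have e3 := hRHs _ e1 _ e2
      have e4 : y⁻¹ * (s : G) * y * (y⁻¹ * (k : G) * y) = y⁻¹ * ((s : G) * k) * y := by group
      have e5 : y⁻¹ * (k : G) * y * (y⁻¹ * (s : G) * y) = y⁻¹ * ((k : G) * s) * y := by group
      rw [e4, e5] at e3
      apply Subtype.ext
      exact (mul_left_cancel (mul_right_cancel e3)).symm
    have h4 : ¬ r ∣ S.index := by
      rw [← Subgroup.relIndex_mul_index hSM]
      intro h5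
      rcases hr.dvd_mul.mp h5 with h6 | h6
      · exact hSi h6
      · exact hMH.2 r hr (Or.inl rfl) h6
    exact h4 (hdv.trans (Subgroup.index_dvd_of_le hSC))
  obtain ⟨Kt₀, hKt₀⟩ := (h3 C).1
  set Kt₁ : Subgroup K := Kt₀.map C.subtype with hKt₁
  have hKt₁c : Nat.card Kt₁ = Nat.card Kt₀ := Subgroup.card_map_of_injective C.subtype_injective
  have hKt₁C : Kt₁ ≤ C := Subgroup.map_subtype_le _
  have hKt₁i : ∀ r : ℕ, r.Prime → r ∈ τ → ¬ r ∣ Kt₁.index := by
    intro r hr hrτ hdv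
    rw [← Subgroup.relIndex_mul_index hKt₁C] at hdv
    rcases hr.dvd_mul.mp hdv with h4 | h4
    · have h5 : Kt₁.relIndex C = Kt₀.index := by
        show (Kt₁.subgroupOf C).index = _
        rw [hKt₁, Subgroup.subgroupOf, Subgroup.comap_map_eq_self_of_injective C.subtype_injective]
      rw [h5] at h4
      exact hKt₀.2 r hr hrτ h4
    · exact hCi r hr hrτ h4
  have htop : Ks₀ ⊔ Kt₁ = ⊤ := by
    rw [← Subgroup.index_eq_one]
    by_contra hne
    obtain ⟨p, hp, hpd⟩ := Nat.exists_prime_and_dvd hne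
    rcases hK p hp (hpd.trans (Subgroup.index_dvd_card _)) with h4 | h4
    · exact hKs₀.2 p hp h4 (hpd.trans (Subgroup.index_dvd_of_le le_sup_left))
    · exact hKt₁i p hp h4 (hpd.trans (Subgroup.index_dvd_of_le le_sup_right))
  refine ⟨Ks₀.map K.subtype, Kt₁.map K.subtype, ?_, ?_, ?_, ?_⟩
  · rw [Subgroup.card_map_of_injective K.subtype_injective]
    exact hKs₀.1
  · rw [Subgroup.card_map_of_injective K.subtype_injective, hKt₁c]
    exact hKt₀.1
  · rintro _ ⟨a, ha, rfl⟩ _ ⟨b, hb, rfl⟩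
    have h4 := Subgroup.mem_centralizer_iff.mp (hKt₁C hb) a ha
    exact congrArg Subtype.val h4
  · rw [← Subgroup.map_sup, htop]
    exact (by
      ext x
      constructor
      · intro hx
        exact ⟨⟨x, hx⟩, Subgroup.mem_top _, rfl⟩
      · rintro ⟨y, -, rfl⟩
        exact y.2)

/-- `D_σ` in the conjugation form. -/
theorem ds_of_dpi {Hs : Subgroup G} (hHs : IsPiHall σ Hs) (hD : IsDPiGroup σ G) :
    ∀ K : Subgroup G, PiN σ (Nat.card K) → ∃ g : G, K ≤ MulAut.conj g • Hs := by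
  intro K hK
  obtain ⟨g, hg⟩ := exists_conj_of_isDPiGroup hD (maximal_of_isPiHall hHs) hK
  exact ⟨g, fun x hx => mem_cj.mpr (hg x hx)⟩

theorem dpi_of_ds {Hs : Subgroup G} (hHs : IsPiHall σ Hs)
    (h : ∀ K : Subgroup G, PiN σ (Nat.card K) → ∃ g : G, K ≤ MulAut.conj g • Hs) : IsDPiGroup σ G := by
  refine isDPiGroup_of_forall (H := Hs) hHs.1 (fun K hK => ?_)
  obtain ⟨g, hg⟩ := h K hK
  exact ⟨g, fun x hx => mem_cj.mp (hg hx)⟩

end Cfsg.Agent.H165.Wiel
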