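import Cfsg.Agent.H165.WielB

/-!
# Towards Wielandt's conjecture (S4335): the case `2 ∉ π`
-/

set_option autoImplicit false
open Cfsg
open scoped Pointwise

namespace Cfsg.Agent.H165.Wiel

open Cfsg.Agent.H988.CPi Cfsg.Agent.H20.DPi Cfsg.Agent.H165.NilHall Cfsg.Agent.H569.PiHall

universe u

/-- S4350 -/
def OddConj : Prop :=
  ∀ (X : Type u) [Group X] [Finite X] (ρ : Set ℕ), 2 ∉ ρ → ∀ H K : Subgroup X, IsPiHall ρ H → IsPiHall ρ K →
    ∃ g : X, K = MulAut.conj g • H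

/-- The statement needed for simple groups. -/
def SimpleNil : Prop :=
  ∀ (X : Type u) [Group X] [Finite X] [IsSimpleGroup X], ¬ IsMulCommutative X → ∀ (σ τ : Set ℕ) (Hs Ht : Subgroup X),
    2 ∉ σ → 2 ∉ τ → Disjoint σ τ → IsPiHall σ Hs → IsPiHall τ Ht → (∀ a ∈ Hs, ∀ b ∈ Ht, a * b = b * a) →
    (∃ p : ℕ, p.Prime ∧ p ∈ σ ∧ p ∣ Nat.card X) → (∃ r : ℕ, r.Prime ∧ r ∈ τ ∧ r ∣ Nat.card X) →
    ∃ B : Subgroup X, IsPiHall (σ ∪ τ) B ∧ Group.IsNilpotent B

variable {G : Type u} [Group G] [Finite G] {σ τ : Set ℕ}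

theorem hall_sup {Hs Ht : Subgroup G} (hHs : IsPiHall σ Hs) (hHt : IsPiHall τ Ht)
    (hcomm : ∀ a ∈ Hs, ∀ b ∈ Ht, a * b = b * a) : IsPiHall (σ ∪ τ) (Hs ⊔ Ht) := by
  refine ⟨?_, ?_⟩
  · intro p hp hd
    rcases hp.dvd_mul.mp (hd.trans (card_sup_comm hcomm).1) with h | h
    · exact Or.inl (hHs.1 p hp h)
    · exact Or.inr (hHt.1 p hp h)
  · rintro p hp (h | h) hd
    · exact hHs.2 p hp h (hd.trans (Subgroup.index_dvd_of_le le_sup_left))
    · exact hHt.2 p hp h (hd.trans (Subgroup.index_dvd_of_le le_sup_right))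

theorem solvable_quotient_subgroupOf {A : Subgroup G} [A.Normal] (hs : Group.IsSolvable (G ⧸ A)) (N : Subgroup G) :
    Group.IsSolvable (N ⧸ A.subgroupOf N) := by
  have hle : A.subgroupOf N ≤ Subgroup.comap N.subtype A := fun x hx => hx
  have h8 : Function.Injective (QuotientGroup.map (A.subgroupOf N) A N.subtype hle) := by
    rw [← MonoidHom.ker_eq_bot_iff, eq_bot_iff]
    intro x hx
    obtain ⟨y, rfl⟩ := QuotientGroup.mk_surjective x
    rw [MonoidHom.mem_ker] at hx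
    change ((y : G) : G ⧸ A) = 1 at hx
    rw [QuotientGroup.eq_one_iff] at hx
    rw [Subgroup.mem_bot, QuotientGroup.eq_one_iff]
    exact hx
  exact Group.isSolvable_of_isSolvable_injective h8

/-- `D_σ` passes to quotients (with conjugacy of Hall subgroups in the kernel). -/
theorem quot_ds (hC : OddConj.{u}) (h2 : 2 ∉ σ) (A : Subgroup G) [A.Normal] {Hs : Subgroup G} (hHs : IsPiHall σ Hs)
    (hds : ∀ V : Subgroup G, PiN σ (Nat.card V) → ∃ g : G, V ≤ MulAut.conj g • Hs) :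
    ∀ V : Subgroup (G ⧸ A), PiN σ (Nat.card V) → ∃ g : G ⧸ A, V ≤ MulAut.conj g • (Hs.map (QuotientGroup.mk' A)) := by
  intro Vb hVb
  set V : Subgroup G := Vb.comap (QuotientGroup.mk' A) with hV
  have hAV : A ≤ V := by
    intro x hx
    rw [hV, Subgroup.mem_comap, (show QuotientGroup.mk' A x = 1 from (QuotientGroup.eq_one_iff x).2 hx)]
    exact one_mem _
  set A' : Subgroup V := A.subgroupOf V with hA'
  have hA'i : A'.index = Nat.card Vb := by
    show A.relIndex V = _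
    have h1 := Subgroup.relIndex_ker V (QuotientGroup.mk' A)
    rw [QuotientGroup.ker_mk', hV, Subgroup.map_comap_eq_self_of_surjective (QuotientGroup.mk'_surjective A)] at h1
    exact h1
  -- `C_σ` for `A'`
  have hSA : Hs ⊓ A ≤ A := inf_le_right
  have hA1 : IsCPiGroup σ A' := by
    refine ⟨⟨((Hs ⊓ A).subgroupOf V).subgroupOf A', ?_, ?_⟩, ?_⟩
    · have h3 : (Hs ⊓ A).subgroupOf V ≤ A' := fun x hx => hSA hx
      rw [card_subgroupOf h3, card_subgroupOf (hSA.trans hAV)]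
      exact PiN.of_dvd hHs.1 (Subgroup.card_dvd_of_le inf_le_left)
    · have h3 : (((Hs ⊓ A).subgroupOf V).subgroupOf A').index = (Hs ⊓ A).relIndex A := by
        show ((Hs ⊓ A).subgroupOf V).relIndex A' = _
        rw [hA', Subgroup.relIndex_subgroupOf hAV]
      rw [h3, Subgroup.inf_relIndex_right]
      exact PiN'.of_dvd hHs.2 ⟨_, (relIndex_mul_sup_index Hs A).symm⟩
    · intro H K hH hK
      obtain ⟨g, hg⟩ := hC A' σ h2 H K hH hK
      exact ⟨g, by rw [conj_eq]; exact hg⟩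
  have hQc : Nat.card (V ⧸ A') = Nat.card Vb := hA'i
  have hQ1 : IsCPiGroup σ (V ⧸ A') := by
    have htop : ∀ H : Subgroup (V ⧸ A'), IsPiHall σ H → H = ⊤ := by
      intro H hH
      rw [← Subgroup.index_eq_one]
      refine eq_one_of_both (π := σ) (PiN.of_dvd ?_ (Subgroup.index_dvd_card H)) hH.2
      rw [hQc]
      exact hVb
    refine ⟨⟨⊤, ?_, ?_⟩, ?_⟩
    · rw [Subgroup.card_top, hQc]
      exact hVb
    · rw [Subgroup.index_top]
      intro p hp _ hd
      exact hp.one_lt.ne' (Nat.dvd_one.mp hd)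
    · intro H K hH hK
      refine ⟨1, ?_⟩
      rw [htop H hH, htop K hK, conj_eq, cj_one]
  obtain ⟨W, hW⟩ := (cpi_extension A' hA1 hQ1).1
  have hWA : W ⊔ A' = ⊤ := by
    rw [← Subgroup.index_eq_one]
    refine eq_one_of_both (π := σ) ?_ (PiN'.of_dvd hW.2 (Subgroup.index_dvd_of_le le_sup_left))
    refine PiN.of_dvd ?_ (Subgroup.index_dvd_of_le le_sup_right)
    rw [hA'i]
    exact hVb
  obtain ⟨g, hg⟩ := hds (W.map V.subtype) (by
    rw [Subgroup.card_map_of_injective V.subtype_injective]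
    exact hW.1)
  refine ⟨QuotientGroup.mk' A g, ?_⟩
  intro x hx
  obtain ⟨v, rfl⟩ := QuotientGroup.mk'_surjective A x
  have hv : (⟨v, hx⟩ : V) ∈ W ⊔ A' := by rw [hWA]; exact Subgroup.mem_top _
  rw [← SetLike.mem_coe, Subgroup.mul_normal] at hv
  obtain ⟨w, hw, a, ha, hwa⟩ := hv
  have h1 : v = (w : G) * (a : G) := (congrArg Subtype.val hwa).symm
  have h2 : QuotientGroup.mk' A v = QuotientGroup.mk' A (w : G) := by
    rw [h1, map_mul, (show QuotientGroup.mk' A (a : G) = 1 from (QuotientGroup.eq_one_iff (a : G)).2 ha), mul_one]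
  have h3 := hg ⟨w, hw, rfl⟩
  rw [mem_cj] at h3
  rw [h2, mem_cj]
  exact ⟨_, h3, by simp⟩

/-- `D_σ` for `X = H A`. -/
theorem sub_ds (hC : OddConj.{u}) (h2 : 2 ∉ σ) (A : Subgroup G) [A.Normal] {Hs X : Subgroup G} (hHs : IsPiHall σ Hs)
    (hds : ∀ V : Subgroup G, PiN σ (Nat.card V) → ∃ g : G, V ≤ MulAut.conj g • Hs) (hHX : Hs ≤ X) (hAX : A ≤ X)
    (hs : Group.IsSolvable (X ⧸ A.subgroupOf X)) :
    ∀ V : Subgroup X, PiN σ (Nat.card V) → ∃ g : X, V ≤ MulAut.conj g • (Hs.subgroupOf X) := by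
  intro V hV
  obtain ⟨g, hg⟩ := hds (V.map X.subtype) (by
    rw [Subgroup.card_map_of_injective X.subtype_injective]
    exact hV)
  set Y := MulAut.conj g • Hs with hY
  have hYH : IsPiHall σ Y := isPiHall_smul hHs g
  obtain ⟨a, ha⟩ := hC A σ h2 (Hs.subgroupOf A) (Y.subgroupOf A) (isPiHall_subgroupOf hHs A) (isPiHall_subgroupOf hYH A)
  have hHX' : IsPiHall σ (Hs.subgroupOf X) := by
    refine ⟨by rw [card_subgroupOf hHX]; exact hHs.1, ?_⟩
    exact PiN'.of_dvd hHs.2 ⟨_, (Subgroup.relIndex_mul_index hHX).symm⟩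
  refine conj_of_nz_hall (A.subgroupOf X) hs (B := (Y ⊓ A).subgroupOf X) hHX' hV (fun x hx => hx.2) ?_ ?_ ?_
  · rw [card_subgroupOf (inf_le_right.trans hAX)]
    exact PiN.of_dvd hYH.1 (Subgroup.card_dvd_of_le inf_le_left)
  · intro v hv x hx
    refine ⟨?_, ?_⟩
    · have h1 : (v : G) ∈ Y := hg ⟨v, hv, rfl⟩
      exact Y.mul_mem (Y.mul_mem h1 hx.1) (Y.inv_mem h1)
    · exact (inferInstance : A.Normal).conj_mem _ hx.2 _
  · refine ⟨⟨a, hAX a.2⟩, ?_⟩
    ext x
    rw [mem_cj]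
    constructor
    · rintro ⟨h1, h2⟩
      have h3 : (⟨x, h2⟩ : A) ∈ Y.subgroupOf A := h1
      rw [ha, mem_cj] at h3
      exact ⟨h3, ((⟨x, h2⟩ : A) |> fun y => (a⁻¹ * y * a).2)⟩
    · rintro ⟨h1, h2⟩
      have h4 : (x : G) ∈ A := by
        have h5 := (inferInstance : A.Normal).conj_mem _ h2 (a : G)
        have h6 : (a : G) * ((⟨(a : G), hAX a.2⟩ : X)⁻¹ * x * ⟨(a : G), hAX a.2⟩ : X) * (a : G)⁻¹ = (x : G) := by
          change (a : G) * ((a : G)⁻¹ * x * a) * (a : G)⁻¹ = x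
          group
        have h7 : (a : G) * ((X.subtype ((⟨(a : G), hAX a.2⟩ : X)⁻¹ * x * ⟨(a : G), hAX a.2⟩))) * (a : G)⁻¹ ∈ A := h5
        change (a : G) * ((a : G)⁻¹ * x * a) * (a : G)⁻¹ ∈ A at h7
        have h8 : (a : G) * ((a : G)⁻¹ * x * a) * (a : G)⁻¹ = x := by group
        rwa [h8] at h7
      refine ⟨?_, h4⟩
      have h3 : (⟨x, h4⟩ : A) ∈ Y.subgroupOf A := by
        rw [ha, mem_cj]
        exact h1
      exact h3

/-- solvability of `G / A` if `G = H A`, `|H|` odd -/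
theorem solvable_of_sup {A H : Subgroup G} [A.Normal] (hH : Group.IsSolvable H) (htop : H ⊔ A = ⊤) :
    Group.IsSolvable (G ⧸ A) := by
  have h1 : Function.Surjective ((QuotientGroup.mk' A).comp H.subtype) := by
    intro x
    obtain ⟨g, rfl⟩ := QuotientGroup.mk'_surjective A x
    have hg : g ∈ H ⊔ A := by rw [htop]; exact Subgroup.mem_top _
    rw [← SetLike.mem_coe, Subgroup.mul_normal] at hg
    obtain ⟨h, hh, a, ha, rfl⟩ := hg
    refine ⟨⟨h, hh⟩, ?_⟩
    rw [MonoidHom.comp_apply, map_mul, (show QuotientGroup.mk' A a = 1 from (QuotientGroup.eq_one_iff a).2 ha), mul_one]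
    rfl
  exact Group.isSolvable_of_surjective h1

/-- The minimal normal subgroup `A` is simple if `G = H A` and both `σ` and `τ` meet `π(A)`. -/
theorem simple_of_min {A Hs Ht : Subgroup G} [hA : A.Normal] (hAb : A ≠ ⊥)
    (hmin : ∀ B : Subgroup G, B.Normal → B ≤ A → B ≠ ⊥ → B = A) (hHs : IsPiHall σ Hs) (hHt : IsPiHall τ Ht)
    (hd : Disjoint σ τ) (hcomm : ∀ a ∈ Hs, ∀ b ∈ Ht, a * b = b * a) (htop : (Hs ⊔ Ht) ⊔ A = ⊤)
    {p r : ℕ} (hp : p.Prime) (hpσ : p ∈ σ) (hpA : p ∣ Nat.card A) (hr : r.Prime) (hrτ : r ∈ τ) (hrA : r ∣ Nat.card A) :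
    IsSimpleGroup A ∧ ¬ IsMulCommutative A := by
  haveI : Nontrivial A := (Subgroup.nontrivial_iff_ne_bot A).mpr hAb
  -- a minimal `A`-invariant subgroup `L` of `A`
  obtain ⟨L, hLA, hLmin⟩ := Finite.exists_le_minimal (α := Subgroup G)
    (p := fun L => L ≤ A ∧ Nz A L ∧ L ≠ ⊥) (a := A) ⟨le_rfl, nz_self A, hAb⟩
  obtain ⟨-, hAL, hLb⟩ := hLmin.1
  have hLm : ∀ M : Subgroup G, M ≤ L → Nz A M → M ≠ ⊥ → M = L := fun M hML hAM hMb =>
    le_antisymm hML (hLmin.2 ⟨hML.trans hLA, hAM, hMb⟩ hML)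
  -- conjugates of `L` are `A`-invariant
  have hconjL : ∀ g : G, Nz A (MulAut.conj g • L) := by
    intro g a ha x hx
    rw [mem_cj] at hx ⊢
    have h1 : g⁻¹ * a * g ∈ A := by
      have := hA.conj_mem a ha g⁻¹
      rwa [inv_inv] at this
    have h2 : g⁻¹ * (a * x * a⁻¹) * g = (g⁻¹ * a * g) * (g⁻¹ * x * g) * (g⁻¹ * a * g)⁻¹ := by group
    rw [h2]
    exact hAL _ h1 _ hx
  -- prime divisors
  have hdvd : ∀ s : ℕ, s.Prime → s ∣ Nat.card A → s ∣ Nat.card L := by
    intro s hs hsA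
    by_contra hsL
    haveI : Fact s.Prime := ⟨hs⟩
    -- `L ≤ O_{s'}(A)`
    have hLn : (L.subgroupOf A).Normal := (Subgroup.normal_subgroupOf_iff_le_normalizer hLA).mpr hAL.le_normalizer
    have h1 : L.subgroupOf A ≤ pPrimeCore s A := by
      refine Lib.Cores.le_pPrimeCore hLn ?_
      rw [card_subgroupOf hLA]
      exact ((Nat.Prime.coprime_iff_not_dvd hs).mpr hsL).symm
    haveI hc := Lib.Cores.pPrimeCore_characteristic (G := A) s
    have hn : ((pPrimeCore s A).map A.subtype).Normal := inferInstance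
    have h2 := hmin _ hn (Subgroup.map_subtype_le _) (by
      rw [Ne, Subgroup.map_eq_bot_iff_of_injective _ A.subtype_injective]
      intro h3
      rw [h3, le_bot_iff, Subgroup.subgroupOf_eq_bot, disjoint_iff, inf_eq_left.mpr hLA] at h1
      exact hLb h1)
    have h3 := Lib.Cores.pPrimeCore_coprime (G := A) s
    rw [← Subgroup.card_map_of_injective A.subtype_injective, h2] at h3
    exact (Nat.Prime.coprime_iff_not_dvd hs).mp h3.symm hsA
  -- Hall subgroups meet `L`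
  have hmeet : ∀ (ρ : Set ℕ) (K : Subgroup G), IsPiHall ρ K → ∀ s : ℕ, s.Prime → s ∈ ρ → s ∣ Nat.card A → K ⊓ L ≠ ⊥ := by
    intro ρ K hK s hs hsρ hsA hb
    have hLn : (L.subgroupOf A).Normal := (Subgroup.normal_subgroupOf_iff_le_normalizer hLA).mpr hAL.le_normalizer
    have h1 : IsPiHall ρ ((K.subgroupOf A).subgroupOf (L.subgroupOf A)) :=
      isPiHall_subgroupOf (isPiHall_subgroupOf hK A) (L.subgroupOf A)
    have h2 : (K.subgroupOf A).subgroupOf (L.subgroupOf A) = ⊥ := by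
      rw [eq_bot_iff]
      intro x hx
      rw [Subgroup.mem_bot]
      have h3 : ((x : A) : G) ∈ K ⊓ L := ⟨hx, x.2⟩
      rw [hb, Subgroup.mem_bot] at h3
      exact Subtype.ext (Subtype.ext h3)
    rw [h2] at h1
    have h4 := h1.2 s hs hsρ
    rw [Subgroup.index_bot, card_subgroupOf hLA] at h4
    exact h4 (hdvd s hs hsA)
  -- elements centralizing a nontrivial subgroup of `L` normalize `L`
  have hnorm : ∀ (U T : Subgroup G), (∀ a ∈ U, ∀ b ∈ T, a * b = b * a) → T ⊓ L ≠ ⊥ → Nz U L := by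
    intro U T hUT hTL
    apply nz_of_smul_eq
    intro u hu
    have h1 : L ⊓ MulAut.conj u • L ≠ ⊥ := by
      intro hb
      apply hTL
      rw [eq_bot_iff]
      intro x hx
      have h2 : x ∈ L ⊓ MulAut.conj u • L := by
        refine ⟨hx.2, mem_cj.mpr ?_⟩
        have h3 : u⁻¹ * x * u = x := by
          have h4 := hUT u hu x hx.1
          calc u⁻¹ * x * u = u⁻¹ * (x * u) := by group
            _ = u⁻¹ * (u * x) := by rw [h4]
            _ = x := by group
        rw [h3]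
        exact hx.2
      rw [hb] at h2
      exact h2
    have h2 := hLm _ inf_le_left (hAL.inf (hconjL u)) h1
    have h3 : L ≤ MulAut.conj u • L := inf_eq_left.mp h2
    exact (eq_of_le_of_card h3 (card_cj u L)).symm
  have hHsL : Nz Hs L := hnorm Hs Ht hcomm (hmeet τ Ht hHt r hr hrτ hrA)
  have hHtL : Nz Ht L := hnorm Ht Hs (fun a ha b hb => (hcomm b hb a ha).symm) (hmeet σ Hs hHs p hp hpσ hpA)
  have hL : L.Normal := by
    have h1 : Nz ⊤ L := by
      rw [← htop]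
      exact (hHsL.sup hHtL).sup hAL
    exact ⟨fun x hx g => h1 g (Subgroup.mem_top g) x hx⟩
  have hLA' : L = A := hmin L hL hLA hLb
  refine ⟨⟨fun N hN => ?_⟩, ?_⟩
  · by_cases hNb : N = ⊥
    · exact Or.inl hNb
    · right
      have h1 : N.map A.subtype = L := by
        refine hLm _ ?_ ?_ ?_
        · rw [hLA']; exact Subgroup.map_subtype_le _
        · rintro a ha _ ⟨x, hx, rfl⟩
          exact ⟨⟨a, ha⟩ * x * ⟨a, ha⟩⁻¹, hN.conj_mem x hx ⟨a, ha⟩, rfl⟩
        · rw [Ne, Subgroup.map_eq_bot_iff_of_injective _ A.subtype_injective]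
          exact hNb
      rw [hLA'] at h1
      rw [eq_top_iff]
      intro x _
      have h2 : (x : G) ∈ N.map A.subtype := by rw [h1]; exact x.2
      obtain ⟨y, hy, hyx⟩ := h2
      have h3 : y = x := Subtype.ext hyx
      exact h3 ▸ hy
  · intro hab
    -- an abelian minimal normal subgroup is a `p`-group
    haveI : Fact p.Prime := ⟨hp⟩
    haveI hc := Lib.Cores.pPrimeCore_characteristic (G := A) p
    have hn : ((pPrimeCore p A).map A.subtype).Normal := inferInstance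
    obtain ⟨x, hx⟩ := exists_prime_orderOf_dvd_card' (hp := ⟨hr⟩) r hrA
    have h0 : r ≠ p := fun h => Set.disjoint_left.mp hd hpσ (h ▸ hrτ)
    have hzn : (Subgroup.zpowers x).Normal := by
      constructor
      intro n hn' g
      have h1 : g * n * g⁻¹ = n := by
        have h2 : g * n = n * g := hab.is_comm.comm g n
        rw [h2, mul_inv_cancel_right]
      rw [h1]
      exact hn'
    have h1 : Subgroup.zpowers x ≤ pPrimeCore p A := by
      refine Lib.Cores.le_pPrimeCore hzn ?_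
      rw [Nat.card_zpowers, hx]
      exact (Nat.coprime_primes hr hp).mpr h0
    have h2 := hmin _ hn (Subgroup.map_subtype_le _) (by
      rw [Ne, Subgroup.map_eq_bot_iff_of_injective _ A.subtype_injective]
      intro h3
      rw [h3, le_bot_iff, Subgroup.zpowers_eq_bot] at h1
      rw [h1, orderOf_one] at hx
      exact hr.one_lt.ne hx)
    have h3 := Lib.Cores.pPrimeCore_coprime (G := A) p
    rw [← Subgroup.card_map_of_injective A.subtype_injective, h2] at h3
    exact (Nat.Prime.coprime_iff_not_dvd hp).mp h3.symm hpA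

end Cfsg.Agent.H165.Wiel
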