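import Cfsg.Agent.H165.WielC

/-!
# Towards Wielandt's conjecture (S4335): the case `2 ∉ π`, induction
-/

set_option autoImplicit false
open Cfsg
open scoped Pointwise

namespace Cfsg.Agent.H165.Wiel

open Cfsg.Agent.H988.CPi Cfsg.Agent.H20.DPi Cfsg.Agent.H165.NilHall Cfsg.Agent.H569.PiHall

universe u

/-- The case that `G = H A`. -/
theorem odd_top {G : Type u} [Group G] [Finite G] {σ τ : Set ℕ} (hC : OddConj.{u}) (hN : SimpleNil.{u}) (hσ2 : 2 ∉ σ)
    (hτ2 : 2 ∉ τ) (hd : Disjoint σ τ) {Hs Ht : Subgroup G} (hHs : IsPiHall σ Hs) (hHt : IsPiHall τ Ht)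
    (hcomm : ∀ a ∈ Hs, ∀ b ∈ Ht, a * b = b * a)
    (hds : ∀ V : Subgroup G, PiN σ (Nat.card V) → ∃ g : G, V ≤ MulAut.conj g • Hs)
    (hdt : ∀ V : Subgroup G, PiN τ (Nat.card V) → ∃ g : G, V ≤ MulAut.conj g • Ht)
    {A : Subgroup G} [hA : A.Normal] (hAb : A ≠ ⊥) (hmin : ∀ B : Subgroup G, B.Normal → B ≤ A → B ≠ ⊥ → B = A)
    (htop : (Hs ⊔ Ht) ⊔ A = ⊤) {K : Subgroup G} (hK : PiN (σ ∪ τ) (Nat.card K)) :
    ∃ g : G, K ≤ MulAut.conj g • (Hs ⊔ Ht) := by
  have h2 : 2 ∉ σ ∪ τ := fun h => h.elim hσ2 hτ2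
  have hH : IsPiHall (σ ∪ τ) (Hs ⊔ Ht) := hall_sup hHs hHt hcomm
  have hHsol : Group.IsSolvable (Hs ⊔ Ht : Subgroup G) := H553.OddHall.solvable_of_pi h2 hH.1
  have hKsol : Group.IsSolvable K := H553.OddHall.solvable_of_pi h2 hK
  have hQ : Group.IsSolvable (G ⧸ A) := solvable_of_sup hHsol htop
  have hcomm' : ∀ a ∈ Ht, ∀ b ∈ Hs, a * b = b * a := fun a ha b hb => (hcomm b hb a ha).symm
  by_cases hboth : (∃ p : ℕ, p.Prime ∧ p ∈ σ ∧ p ∣ Nat.card A) ∧ (∃ r : ℕ, r.Prime ∧ r ∈ τ ∧ r ∣ Nat.card A)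
  · obtain ⟨⟨p, hp, hpσ, hpA⟩, r, hr, hrτ, hrA⟩ := hboth
    obtain ⟨hsimp, hnab⟩ := simple_of_min hAb hmin hHs hHt hd hcomm htop hp hpσ hpA hr hrτ hrA
    obtain ⟨B, hB, hBn⟩ := hN A hnab σ τ (Hs.subgroupOf A) (Ht.subgroupOf A) hσ2 hτ2 hd (isPiHall_subgroupOf hHs A)
      (isPiHall_subgroupOf hHt A) (fun a ha b hb => Subtype.ext (hcomm a ha b hb)) ⟨p, hp, hpσ, hpA⟩ ⟨r, hr, hrτ, hrA⟩
    have hBN : NHall (σ ∪ τ) (B.map A.subtype) A := by
      refine ⟨Subgroup.map_subtype_le _, ?_, ?_, ?_⟩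
      · rw [Subgroup.card_map_of_injective A.subtype_injective]
        exact hB.1
      · intro q hq hqπ hqd
        have h3 : (B.map A.subtype).relIndex A = B.index := by
          show ((B.map A.subtype).subgroupOf A).index = _
          rw [Subgroup.subgroupOf, Subgroup.comap_map_eq_self_of_injective A.subtype_injective]
        rw [h3] at hqd
        exact hB.2 q hq hqπ hqd
      · exact Group.nilpotent_of_surjective (A.subtype.subgroupMap B) (A.subtype.subgroupMap_surjective B)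
    obtain ⟨B', hB', hKB⟩ := exists_nz ⟨_, hBN⟩ (nz_normal K A) hK hKsol
    -- `H ⊓ A` is a Hall subgroup of `A`
    have hHA : PiN (σ ∪ τ) (Nat.card ((Hs ⊔ Ht) ⊓ A : Subgroup G)) :=
      PiN.of_dvd hH.1 (Subgroup.card_dvd_of_le inf_le_left)
    have hHAi : ∀ q : ℕ, q.Prime → q ∈ σ ∪ τ → ¬ q ∣ ((Hs ⊔ Ht) ⊓ A).relIndex A := by
      rw [Subgroup.inf_relIndex_right]
      exact fun q hq hqπ => (PiN'.of_dvd hH.2 ⟨_, (relIndex_mul_sup_index (Hs ⊔ Ht) A).symm⟩) q hq hqπ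
    have hHN : NHall (σ ∪ τ) ((Hs ⊔ Ht) ⊓ A) A := hBN.of_hall inf_le_right hHA hHAi
    obtain ⟨a, -, ha⟩ := hHN.conj hB'
    exact conj_of_nz_hall A hQ hH hK hB'.le hB'.pi hKB ⟨a, ha⟩
  · obtain ⟨Ks, Kt, hKs, hKt, hKc, rfl⟩ := exists_decomp hHs hHt hd hcomm (dpi_of_ds hHs hds) hK
      (hasD_of_solvable hKsol σ) (fun r _ _ => hasD_of_solvable hKsol _)
      (fun C => by
        haveI := hKsol
        exact hasD_of_solvable inferInstance τ)
    rw [not_and_or] at hboth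
    rcases hboth with h | h
    · -- `A` is a `σ'`-group
      push Not at h
      have hCs : ∀ C : Subgroup G, HasD σ C := by
        intro C
        refine hasD_of_normal (A.subgroupOf C) (Or.inr ?_) (solvable_quotient_subgroupOf hQ C)
        intro p hp hpσ hpd
        refine h p hp hpσ (hpd.trans ?_)
        rw [← Subgroup.inf_subgroupOf_right, card_subgroupOf inf_le_right]
        exact Subgroup.card_dvd_of_le inf_le_left
      obtain ⟨g, hg⟩ := conj_of_hasD hHs hcomm' hdt hCs hKt hKs (fun a ha b hb => (hKc b hb a ha).symm)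
      exact ⟨g, by rw [sup_comm, sup_comm Hs]; exact hg⟩
    · push Not at h
      have hCt : ∀ C : Subgroup G, HasD τ C := by
        intro C
        refine hasD_of_normal (A.subgroupOf C) (Or.inr ?_) (solvable_quotient_subgroupOf hQ C)
        intro p hp hpτ hpd
        refine h p hp hpτ (hpd.trans ?_)
        rw [← Subgroup.inf_subgroupOf_right, card_subgroupOf inf_le_right]
        exact Subgroup.card_dvd_of_le inf_le_left
      exact conj_of_hasD hHt hcomm hds hCt hKs hKt hKc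

/-- The case `2 ∉ σ ∪ τ`. -/
theorem odd_case_aux (hC : OddConj.{u}) (hN : SimpleNil.{u}) (n : ℕ) : ∀ (G : Type u) [Group G] [Finite G],
    Nat.card G = n → ∀ (σ τ : Set ℕ), 2 ∉ σ → 2 ∉ τ → Disjoint σ τ → ∀ (Hs Ht : Subgroup G), IsPiHall σ Hs →
    IsPiHall τ Ht → (∀ a ∈ Hs, ∀ b ∈ Ht, a * b = b * a) →
    (∀ V : Subgroup G, PiN σ (Nat.card V) → ∃ g : G, V ≤ MulAut.conj g • Hs) →
    (∀ V : Subgroup G, PiN τ (Nat.card V) → ∃ g : G, V ≤ MulAut.conj g • Ht) →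
    ∀ K : Subgroup G, PiN (σ ∪ τ) (Nat.card K) → ∃ g : G, K ≤ MulAut.conj g • (Hs ⊔ Ht) := by
  induction n using Nat.strong_induction_on with
  | _ n ih =>
    intro G _ _ hn σ τ hσ2 hτ2 hd Hs Ht hHs hHt hcomm hds hdt K hK
    have h2 : 2 ∉ σ ∪ τ := fun h => h.elim hσ2 hτ2
    have hH : IsPiHall (σ ∪ τ) (Hs ⊔ Ht) := hall_sup hHs hHt hcomm
    have hHsol : Group.IsSolvable (Hs ⊔ Ht : Subgroup G) := H553.OddHall.solvable_of_pi h2 hH.1
    by_cases hK1 : K = ⊥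
    · exact ⟨1, hK1 ▸ bot_le⟩
    have htopb : (⊤ : Subgroup G) ≠ ⊥ := fun h => hK1 (le_bot_iff.mp (h ▸ le_top))
    obtain ⟨A, hA, hAb, -, hmin⟩ := exists_min_normal G ⊤ inferInstance htopb
    -- the quotient
    obtain ⟨gb, hgb⟩ := ih _ (hn ▸ card_quotient_lt hAb) (G ⧸ A) rfl σ τ hσ2 hτ2 hd (Hs.map (QuotientGroup.mk' A))
      (Ht.map (QuotientGroup.mk' A)) (isPiHall_map_mk hHs A) (isPiHall_map_mk hHt A)
      (by
        rintro _ ⟨a, ha, rfl⟩ _ ⟨b, hb, rfl⟩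
        rw [← map_mul, ← map_mul, hcomm a ha b hb])
      (quot_ds hC hσ2 A hHs hds) (quot_ds hC hτ2 A hHt hdt) (K.map (QuotientGroup.mk' A))
      (PiN.of_dvd hK (Subgroup.card_map_dvd _ _))
    obtain ⟨g, rfl⟩ := QuotientGroup.mk'_surjective A gb
    set X : Subgroup G := (Hs ⊔ Ht) ⊔ A with hX
    set K' : Subgroup G := MulAut.conj g⁻¹ • K with hK'
    have hK'X : K' ≤ X := by
      intro x hx
      rw [hK', mem_cj, inv_inv] at hx
      have h3 := hgb ⟨_, hx, rfl⟩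
      rw [mem_cj, ← Subgroup.map_sup] at h3
      obtain ⟨h, hh, he⟩ := h3
      have h4 : QuotientGroup.mk' A h = QuotientGroup.mk' A x := by
        rw [he]
        simp only [map_mul, map_inv]
        group
      have h5 : h⁻¹ * x ∈ A := by
        have : QuotientGroup.mk' A (h⁻¹ * x) = 1 := by rw [map_mul, map_inv, h4, inv_mul_cancel]
        exact (QuotientGroup.eq_one_iff _).1 this
      have h6 : x = h * (h⁻¹ * x) := by group
      rw [h6]
      exact X.mul_mem (Subgroup.mem_sup_left hh) (Subgroup.mem_sup_right h5)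
    have hK'π : PiN (σ ∪ τ) (Nat.card K') := by rw [hK', card_cj]; exact hK
    -- it is enough to treat `K'`
    suffices h : ∃ y : G, K' ≤ MulAut.conj y • (Hs ⊔ Ht) by
      obtain ⟨y, hy⟩ := h
      refine ⟨g * y, fun x hx => ?_⟩
      have h3 : g⁻¹ * x * g ∈ K' := by
        rw [hK', mem_cj, inv_inv]
        have : g * (g⁻¹ * x * g) * g⁻¹ = x := by group
        rwa [this]
      have h4 := hy h3
      rw [mem_cj] at h4 ⊢
      have h5 : (g * y)⁻¹ * x * (g * y) = y⁻¹ * (g⁻¹ * x * g) * y := by group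
      rwa [h5]
    by_cases hXtop : X = ⊤
    · exact odd_top hC hN hσ2 hτ2 hd hHs hHt hcomm hds hdt hAb hmin hXtop hK'π
    · have hlt : Nat.card X < n := by
        rw [← hn]
        refine lt_of_le_of_ne (Nat.le_of_dvd Nat.card_pos (Subgroup.card_subgroup_dvd_card X)) (fun h => ?_)
        exact hXtop (Subgroup.eq_top_of_card_eq X h)
      have hHsX : Hs ≤ X := le_sup_left.trans le_sup_left
      have hHtX : Ht ≤ X := (le_sup_right (a := Hs)).trans le_sup_left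
      have hAX : A ≤ X := le_sup_right
      have hs : Group.IsSolvable (X ⧸ A.subgroupOf X) := by
        refine solvable_of_sup (H := (Hs ⊔ Ht).subgroupOf X) (solvable_subgroupOf le_sup_left hHsol) ?_
        rw [← Subgroup.subgroupOf_sup le_sup_left hAX, Subgroup.subgroupOf_self]
      have hhall : ∀ {ρ : Set ℕ} {Y : Subgroup G}, IsPiHall ρ Y → Y ≤ X → IsPiHall ρ (Y.subgroupOf X) := by
        intro ρ Y hY hYX
        exact ⟨by rw [card_subgroupOf hYX]; exact hY.1, PiN'.of_dvd hY.2 ⟨_, (Subgroup.relIndex_mul_index hYX).symm⟩⟩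
      obtain ⟨y, hy⟩ := ih _ hlt X rfl σ τ hσ2 hτ2 hd (Hs.subgroupOf X) (Ht.subgroupOf X) (hhall hHs hHsX)
        (hhall hHt hHtX) (fun a ha b hb => Subtype.ext (hcomm a ha b hb))
        (sub_ds hC hσ2 A hHs hds hHsX hAX hs) (sub_ds hC hτ2 A hHt hdt hHtX hAX hs) (K'.subgroupOf X)
        (by rw [card_subgroupOf hK'X]; exact hK'π)
      refine ⟨y, fun x hx => ?_⟩
      have h3 : (⟨x, hK'X hx⟩ : X) ∈ K'.subgroupOf X := hx
      have h4 := hy h3
      rw [mem_cj, ← Subgroup.subgroupOf_sup hHsX hHtX] at h4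
      rw [mem_cj]
      exact h4

theorem odd_case (hC : OddConj.{u}) (hN : SimpleNil.{u}) {G : Type u} [Group G] [Finite G] {σ τ : Set ℕ} (hσ2 : 2 ∉ σ)
    (hτ2 : 2 ∉ τ) (hd : Disjoint σ τ) {Hs Ht : Subgroup G} (hHs : IsPiHall σ Hs) (hHt : IsPiHall τ Ht)
    (hcomm : ∀ a ∈ Hs, ∀ b ∈ Ht, a * b = b * a)
    (hds : ∀ V : Subgroup G, PiN σ (Nat.card V) → ∃ g : G, V ≤ MulAut.conj g • Hs)
    (hdt : ∀ V : Subgroup G, PiN τ (Nat.card V) → ∃ g : G, V ≤ MulAut.conj g • Ht)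
    {K : Subgroup G} (hK : PiN (σ ∪ τ) (Nat.card K)) : ∃ g : G, K ≤ MulAut.conj g • (Hs ⊔ Ht) :=
  odd_case_aux hC hN _ G rfl σ τ hσ2 hτ2 hd Hs Ht hHs hHt hcomm hds hdt K hK

end Cfsg.Agent.H165.Wiel
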