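import Cfsg.Agent.H165.WielD
import Cfsg.Agent.S4603

/-!
# Wielandt's conjecture (S4335), assembly

* `even_case` : the case `2 ∈ σ` (by S4603);
* `simpleNil_of` : `SimpleNil` from the transitivity of `Cond {p, q}` on simple groups and S4597;
* `main` : the statement S4335 from S4350 (`OddConj`) and `SimpleNil`.
-/

set_option autoImplicit false
open Cfsg
open scoped Pointwise

namespace Cfsg.Agent.H165.Wiel

open Cfsg.Agent.H988.CPi Cfsg.Agent.H20.DPi Cfsg.Agent.H165.NilHall Cfsg.Agent.H569.PiHall Cfsg.Agent.H630.NH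

universe u

theorem even_case {G : Type u} [Group G] [Finite G] {σ τ : Set ℕ} (h2 : 2 ∈ σ) (hd : Disjoint σ τ)
    {Hs Ht : Subgroup G} (hHs : IsPiHall σ Hs) (hHt : IsPiHall τ Ht) (hcomm : ∀ a ∈ Hs, ∀ b ∈ Ht, a * b = b * a)
    (hds : ∀ V : Subgroup G, PiN σ (Nat.card V) → ∃ g : G, V ≤ MulAut.conj g • Hs)
    {K : Subgroup G} (hK : PiN (σ ∪ τ) (Nat.card K)) : ∃ g : G, K ≤ MulAut.conj g • (Hs ⊔ Ht) := by
  have hts : TS τ G := by
    intro r hr hrτ
    haveI : Fact r.Prime := ⟨hr⟩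
    have hr2 : r ≠ 2 := fun h => Set.disjoint_left.mp hd h2 (h ▸ hrτ)
    refine (Cfsg.Agent.S4603.result (G := G) r hr2 ?_).1
    intro y hy
    rw [← Nat.not_even_iff_odd, even_iff_two_dvd]
    exact not_dvd_index_centralizer (Hs := Ht) (Ht := Hs) hr (hHt.2 r hr hrτ) (hHs.2 2 Nat.prime_two h2)
      (fun a ha b hb => (hcomm b hb a ha).symm) y hy
  have hKts : TS τ K := hts.subgroup K
  have hpσ : ∀ p : ℕ, p.Prime → p ∣ Nat.card K → p ∉ τ → p ∈ σ := fun p hp hpd hpτ =>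
    (hK p hp hpd).resolve_right hpτ
  obtain ⟨Ks, Kt, hKs, hKt, hKc, rfl⟩ := exists_decomp hHs hHt hd hcomm (dpi_of_ds hHs hds) hK
    (hasD_of_ts hKts (Or.inl hpσ)) (fun r _ _ => hasD_of_ts hKts (Or.inl fun p hp hpd hpτ => Or.inr (hpσ p hp hpd hpτ)))
    (fun C => hasD_of_ts (hKts.subgroup C) (Or.inr fun p _ _ h => h))
  exact conj_of_hasD hHt hcomm hds (fun C => hasD_of_ts (hts.subgroup C) (Or.inr fun p _ _ h => h)) hKs hKt hKc

/-- The transitivity of `Cond {p, q}` on simple groups, in the weak form. -/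
def SimpleTri : Prop :=
  ∀ (X : Type u) [Group X] [Finite X] [IsSimpleGroup X], ¬ IsMulCommutative X →
    ∀ r q₁ q₂ : ℕ, r.Prime → q₁.Prime → q₂.Prime → r ≠ 2 → q₁ ≠ 2 → q₂ ≠ 2 → r ≠ q₁ → r ≠ q₂ → q₁ ≠ q₂ →
      r ∣ Nat.card X → q₁ ∣ Nat.card X → q₂ ∣ Nat.card X → Cond {r, q₁} X → Cond {r, q₂} X →
      (∃ (x : X) (K : Subgroup X), orderOf x = r ∧ (∀ k ∈ K, k * x = x * k) ∧
        (∀ s : ℕ, s.Prime → s ∣ Nat.card K → s = q₁ ∨ s = q₂) ∧ ¬ q₁ ∣ K.index ∧ ¬ q₂ ∣ K.index) →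
      Cond {q₁, q₂} X

/-- S4597 -/
def NilCond : Prop :=
  ∀ (X : Type u) [Group X] [Finite X] (π : Set ℕ), (∀ p ∈ π, p.Prime) → Cond π X →
    ∃ H : Subgroup X, IsPiHall π H ∧ Group.IsNilpotent H

theorem cond_pair {X : Type u} [Group X] [Finite X] {σ τ : Set ℕ} {Hs Ht : Subgroup X} (hHs : IsPiHall σ Hs)
    (hHt : IsPiHall τ Ht) (hcomm : ∀ a ∈ Hs, ∀ b ∈ Ht, a * b = b * a) {q r : ℕ} (hq : q.Prime) (hqσ : q ∈ σ)
    (hr : r.Prime) (hrτ : r ∈ τ) : Cond {r, q} X := by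
  intro a ha b hb hab x hx
  rcases ha with rfl | ha <;> rcases hb with rfl | hb
  · exact absurd rfl hab
  · rw [Set.mem_singleton_iff] at hb
    subst hb
    exact not_dvd_index_centralizer (Hs := Ht) (Ht := Hs) hr (hHt.2 _ hr hrτ) (hHs.2 _ hq hqσ)
      (fun a ha b hb => (hcomm b hb a ha).symm) x hx
  · rw [Set.mem_singleton_iff] at ha
    subst ha
    exact not_dvd_index_centralizer hq (hHs.2 _ hq hqσ) (hHt.2 _ hr hrτ) hcomm x hx
  · rw [Set.mem_singleton_iff] at ha hb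
    exact absurd (ha.trans hb.symm) hab

/-- two primes on the same side -/
theorem cond_same {X : Type u} [Group X] [Finite X] [IsSimpleGroup X] (hnab : ¬ IsMulCommutative X)
    (hT : SimpleTri.{u}) {σ τ : Set ℕ} {Hs Ht : Subgroup X} (h2 : 2 ∉ σ) (h2' : 2 ∉ τ) (hd : Disjoint σ τ)
    (hHs : IsPiHall σ Hs) (hHt : IsPiHall τ Ht) (hcomm : ∀ a ∈ Hs, ∀ b ∈ Ht, a * b = b * a) {q₁ q₂ r : ℕ}
    (h1 : q₁.Prime) (h1σ : q₁ ∈ σ) (h1d : q₁ ∣ Nat.card X) (h3 : q₂.Prime) (h3σ : q₂ ∈ σ) (h3d : q₂ ∣ Nat.card X)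
    (hne : q₁ ≠ q₂) (hr : r.Prime) (hrτ : r ∈ τ) (hrd : r ∣ Nat.card X) : Cond {q₁, q₂} X := by
  have hne1 : r ≠ q₁ := fun h => Set.disjoint_left.mp hd h1σ (h ▸ hrτ)
  have hne2 : r ≠ q₂ := fun h => Set.disjoint_left.mp hd h3σ (h ▸ hrτ)
  refine hT X hnab r q₁ q₂ hr h1 h3 (fun h => h2' (h ▸ hrτ)) (fun h => h2 (h ▸ h1σ)) (fun h => h2 (h ▸ h3σ)) hne1 hne2 hne
    hrd h1d h3d (cond_pair hHs hHt hcomm h1 h1σ hr hrτ) (cond_pair hHs hHt hcomm h3 h3σ hr hrτ) ?_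
  have hsol : Group.IsSolvable Hs := H553.OddHall.solvable_of_pi h2 hHs.1
  obtain ⟨Y, hY⟩ := H553.OddHall.exists_isPiHall hsol ({q₁, q₂} : Set ℕ)
  have hsub : ({q₁, q₂} : Set ℕ) ⊆ σ := by
    rintro s (rfl | hs)
    · exact h1σ
    · rw [Set.mem_singleton_iff] at hs
      exact hs ▸ h3σ
  have hK := H553.OddHall.isPiHall_trans hsub hHs hY
  haveI : Fact r.Prime := ⟨hr⟩
  have hrt : r ∣ Nat.card Ht := by
    rw [← Subgroup.card_mul_index Ht] at hrd
    rcases hr.dvd_mul.mp hrd with h | h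
    · exact h
    · exact absurd h (hHt.2 r hr hrτ)
  obtain ⟨x, hx⟩ := exists_prime_orderOf_dvd_card' r hrt
  refine ⟨x, Y.map Hs.subtype, by rw [Subgroup.orderOf_coe, hx], ?_, ?_, hK.2 q₁ h1 (Or.inl rfl), hK.2 q₂ h3 (Or.inr rfl)⟩
  · rintro _ ⟨k, -, rfl⟩
    exact hcomm k k.2 x x.2
  · intro s hs hsd
    exact hK.1 s hs hsd

theorem simpleNil_of (hT : SimpleTri.{u}) (hN : NilCond.{u}) : SimpleNil.{u} := by
  intro X _ _ _ hnab σ τ Hs Ht h2 h2' hd hHs hHt hcomm hp hr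
  obtain ⟨p, hp, hpσ, hpd⟩ := hp
  obtain ⟨r, hr, hrτ, hrd⟩ := hr
  have hcomm' : ∀ a ∈ Ht, ∀ b ∈ Hs, a * b = b * a := fun a ha b hb => (hcomm b hb a ha).symm
  have hcond : Cond {p : ℕ | p.Prime ∧ p ∈ σ ∪ τ} X := by
    intro a ha b hb hab x hx
    by_cases hbd : b ∣ Nat.card X
    swap
    · exact fun h => hbd (h.trans (Subgroup.index_dvd_card _))
    by_cases had : a ∣ Nat.card X
    swap
    · obtain ⟨k, hk⟩ := hx
      have hk0 : k = 0 := by
        by_contra h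
        exact had ((dvd_pow_self a h).trans (hk ▸ orderOf_dvd_natCard x))
      rw [hk0, pow_zero, orderOf_eq_one_iff] at hk
      subst hk
      have h5 : Subgroup.centralizer ({1} : Set X) = ⊤ := by
        rw [eq_top_iff]
        intro y _
        rw [Subgroup.mem_centralizer_singleton_iff, mul_one, one_mul]
      rw [h5, Subgroup.index_top]
      exact fun h => hb.1.one_lt.ne' (Nat.dvd_one.mp h)
    rcases ha.2 with has | hat <;> rcases hb.2 with hbs | hbt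
    · exact cond_same hnab hT h2 h2' hd hHs hHt hcomm ha.1 has had hb.1 hbs hbd hab hr hrτ hrd a (Or.inl rfl) b
        (Or.inr rfl) hab x hx
    · exact cond_pair hHs hHt hcomm ha.1 has hb.1 hbt a (Or.inr rfl) b (Or.inl rfl) hab x hx
    · exact cond_pair hHs hHt hcomm hb.1 hbs ha.1 hat a (Or.inl rfl) b (Or.inr rfl) hab x hx
    · exact cond_same hnab hT h2' h2 hd.symm hHt hHs hcomm' ha.1 hat had hb.1 hbt hbd hab hp hpσ hpd a (Or.inl rfl) b
        (Or.inr rfl) hab x hx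
  obtain ⟨B, hB, hBn⟩ := hN X _ (fun q hq => hq.1) hcond
  exact ⟨B, ⟨fun q hq hqd => (hB.1 q hq hqd).2, fun q hq hqπ => hB.2 q hq ⟨hq, hqπ⟩⟩, hBn⟩

/-- **Wielandt's conjecture** from S4350 and `SimpleNil`. -/
theorem main (hC : OddConj.{u}) (hN : SimpleNil.{u}) {G : Type u} [Group G] [Finite G]
    (σ τ π : Set ℕ) (hπ : π = σ ∪ τ) (hd : Disjoint σ τ) (H Hs Ht : Subgroup G) (hH : Cfsg.IsPiHall π H)
    (hs : Cfsg.IsPiSubgroup σ Hs) (ht : Cfsg.IsPiSubgroup τ Ht)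
    (hjoin : Hs ⊔ Ht = H) (hcomm : ∀ a ∈ Hs, ∀ b ∈ Ht, a * b = b * a) :
    Cfsg.IsDPiGroup π G ↔ Cfsg.IsDPiGroup σ G ∧ Cfsg.IsDPiGroup τ G := by
  have hHs : IsPiHall σ Hs := isPiHall_left hπ hd hH hs ht hjoin hcomm
  have hHt : IsPiHall τ Ht := isPiHall_right hπ hd hH hs ht hjoin hcomm
  have hcomm' : ∀ a ∈ Ht, ∀ b ∈ Hs, a * b = b * a := fun a ha b hb => (hcomm b hb a ha).symm
  constructor
  · intro hD
    have hcop := coprime_card_of_disjoint hs ht hd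
    refine ⟨dpi_of_ds hHs fun K hK => ?_, dpi_of_ds hHt fun K hK => ?_⟩
    · obtain ⟨g, hg⟩ := exists_conj_of_isDPiGroup hD (maximal_of_isPiHall hH)
        (K := K) (fun p hp hpd => hπ ▸ Or.inl (hK p hp hpd))
      refine ⟨g, fun x hx => mem_cj.mpr ?_⟩
      refine mem_left_of_coprime hjoin hcomm (hg x hx) ?_
      have h1 : orderOf (g⁻¹ * x * g) = orderOf x := by
        have h5 : g⁻¹ * x * g = MulAut.conj g⁻¹ x := by simp [MulAut.conj_apply]
        rw [h5]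
        exact orderOf_injective (MulAut.conj g⁻¹).toMonoidHom (MulAut.conj g⁻¹).injective x
      rw [h1, Nat.coprime_iff_gcd_eq_one]
      by_contra hne
      obtain ⟨p, hp, hpd⟩ := Nat.exists_prime_and_dvd hne
      have h3 : orderOf x ∣ Nat.card K := by
        rw [← Nat.card_zpowers]
        exact Subgroup.card_dvd_of_le (Subgroup.zpowers_le.mpr hx)
      exact Set.disjoint_left.mp hd (hK p hp ((hpd.trans (Nat.gcd_dvd_left _ _)).trans h3))
        (ht p hp (hpd.trans (Nat.gcd_dvd_right _ _)))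
    · obtain ⟨g, hg⟩ := exists_conj_of_isDPiGroup hD (maximal_of_isPiHall hH)
        (K := K) (fun p hp hpd => hπ ▸ Or.inr (hK p hp hpd))
      refine ⟨g, fun x hx => mem_cj.mpr ?_⟩
      refine mem_right_of_coprime hjoin hcomm (hg x hx) ?_
      have h1 : orderOf (g⁻¹ * x * g) = orderOf x := by
        have h5 : g⁻¹ * x * g = MulAut.conj g⁻¹ x := by simp [MulAut.conj_apply]
        rw [h5]
        exact orderOf_injective (MulAut.conj g⁻¹).toMonoidHom (MulAut.conj g⁻¹).injective x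
      rw [h1, Nat.coprime_iff_gcd_eq_one]
      by_contra hne
      obtain ⟨p, hp, hpd⟩ := Nat.exists_prime_and_dvd hne
      have h3 : orderOf x ∣ Nat.card K := by
        rw [← Nat.card_zpowers]
        exact Subgroup.card_dvd_of_le (Subgroup.zpowers_le.mpr hx)
      exact Set.disjoint_left.mp hd (hs p hp (hpd.trans (Nat.gcd_dvd_right _ _)))
        (hK p hp ((hpd.trans (Nat.gcd_dvd_left _ _)).trans h3))
  · rintro ⟨hDs, hDt⟩
    have hds := ds_of_dpi hHs hDs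
    have hdt := ds_of_dpi hHt hDt
    subst hπ
    refine dpi_of_ds hH fun K hK => ?_
    rw [← hjoin]
    by_cases h2s : 2 ∈ σ
    · exact even_case h2s hd hHs hHt hcomm hds hK
    by_cases h2t : 2 ∈ τ
    · rw [sup_comm]
      exact even_case h2t hd.symm hHt hHs hcomm' hdt (by rw [Set.union_comm]; exact hK)
    exact odd_case hC hN h2s h2t hd hHs hHt hcomm hds hdt hK

end Cfsg.Agent.H165.Wiel
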