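import Cfsg.Agent.H165.ZJOdd
import Cfsg.Agent.Lib.SolvableMinNormal

/-!
# A numerical criterion for `O_{s'}(H) = 1` (helper165)

* `exists_small_orbit` : an `s`-group `S` normalising `E` centralises up to index `s ^ e` some `1 ≠ y ∈ E`
  if `s ^ (e + 1)` does not divide `|E| - 1`;
* `core_eq_bot_of_cent` : `O_{s'}(H) = 1` for Hall `π`-subgroups if the centralisers of elements of prime order
  `r ≠ s` are small;
* `ns_of_count` : normal Sylow subgroups by counting.
-/

set_option autoImplicit false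

namespace Cfsg.Agent.H165.ZJCrit

open Subgroup Cfsg Cfsg.Agent.H988.CPi Cfsg.Agent.H553.OddHall Cfsg.Agent.H560.HallKey
open scoped Pointwise

universe u

/-- A nontrivial `O_{s'}` of a solvable group contains a nontrivial elementary abelian normal subgroup. -/
theorem exists_elem_normal {X : Type*} [Group X] [Finite X] (hX : Group.IsSolvable X) {s : ℕ} (hs : s.Prime)
    (hcore : pPrimeCore s X ≠ ⊥) :
    ∃ r k : ℕ, r.Prime ∧ r ≠ s ∧ 1 ≤ k ∧ ∃ E : Subgroup X, E.Normal ∧ Nat.card E = r ^ k ∧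
      (∀ x ∈ E, x ^ r = 1) ∧ IsMulCommutative E := by
  have hN : (pPrimeCore s X).Normal := Cfsg.Agent.Lib.Cores.pPrimeCore_normal s
  have hcop : (Nat.card (pPrimeCore s X)).Coprime s := Cfsg.Agent.Lib.Cores.pPrimeCore_coprime s
  have hnt : Nontrivial (pPrimeCore s X) := (nontrivial_iff_ne_bot _).mpr hcore
  have hsol : Group.IsSolvable (pPrimeCore s X) := inferInstance
  obtain ⟨r, hr, A, hA, hAc, hAr, hA1⟩ :=
    Cfsg.Agent.Lib.SolvableMinNormal.exists_characteristic_pgroup (G := pPrimeCore s X)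
  have : Fact r.Prime := ⟨hr⟩
  let B : Subgroup X := A.map (pPrimeCore s X).subtype
  have hB : B.Normal := inferInstanceAs (A.map (pPrimeCore s X).subtype).Normal
  have hBc : IsMulCommutative B := inferInstanceAs (IsMulCommutative (A.map (pPrimeCore s X).subtype))
  have hBcc : ∀ x ∈ B, ∀ y ∈ B, x * y = y * x := fun x hx y hy =>
    congrArg Subtype.val (mul_comm' (⟨x, hx⟩ : B) ⟨y, hy⟩)
  let E : Subgroup X :=
    { carrier := {x | x ∈ B ∧ x ^ r = 1}
      mul_mem' := by
        rintro x y ⟨hx, hx'⟩ ⟨hy, hy'⟩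
        refine ⟨B.mul_mem hx hy, ?_⟩
        rw [(show Commute x y from hBcc x hx y hy).mul_pow, hx', hy', one_mul]
      one_mem' := ⟨B.one_mem, one_pow _⟩
      inv_mem' := by
        rintro x ⟨hx, hx'⟩
        exact ⟨B.inv_mem hx, by rw [inv_pow, hx', inv_one]⟩ }
  have hEB : E ≤ B := fun x hx => hx.1
  have hBr : IsPGroup r B := hAr.map _
  have hEr : IsPGroup r E := hBr.to_le hEB
  obtain ⟨k, hk⟩ := IsPGroup.iff_card.mp hEr
  have hE1 : E ≠ ⊥ := by
    have hB1 : B ≠ ⊥ := by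
      intro h
      exact hA1 ((map_eq_bot_iff_of_injective _ (pPrimeCore s X).subtype_injective).mp h)
    have h1 : r ∣ Nat.card B := by
      obtain ⟨n, hn⟩ := IsPGroup.iff_card.mp hBr
      rw [hn]
      refine dvd_pow_self _ ?_
      rintro rfl
      rw [pow_zero] at hn
      exact hB1 (card_eq_one.mp hn)
    obtain ⟨x, hx⟩ := exists_prime_orderOf_dvd_card' r h1
    intro h
    have h3 : (x : X) ∈ E := ⟨x.2, by
      have := pow_orderOf_eq_one x
      rw [hx] at this
      exact congrArg Subtype.val this⟩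
    rw [h, mem_bot] at h3
    have h4 : x = 1 := Subtype.ext h3
    rw [h4, orderOf_one] at hx
    exact hr.one_lt.ne hx
  refine ⟨r, k, hr, ?_, ?_, E, ?_, hk, fun x hx => hx.2, ?_⟩
  · rintro rfl
    have h1 : Nat.card E ∣ Nat.card (pPrimeCore r X) :=
      card_dvd_of_le (hEB.trans (map_subtype_le _))
    have h2 : k ≠ 0 := by
      rintro rfl
      rw [pow_zero] at hk
      exact hE1 (card_eq_one.mp hk)
    have h3 : r ∣ Nat.card (pPrimeCore r X) := (dvd_pow_self r h2).trans (hk ▸ h1)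
    have h4 := Nat.dvd_gcd h3 (dvd_refl r)
    rw [hcop] at h4
    exact hr.one_lt.ne' (Nat.dvd_one.mp h4)
  · rw [Nat.one_le_iff_ne_zero]
    rintro rfl
    rw [pow_zero] at hk
    exact hE1 (card_eq_one.mp hk)
  · refine ⟨fun x hx g => ⟨hB.conj_mem x hx.1 g, ?_⟩⟩
    rw [conj_pow, hx.2, mul_one, mul_inv_cancel]
  · exact ⟨⟨fun x y => Subtype.ext (hBcc _ (hEB x.2) _ (hEB y.2))⟩⟩

/-- **Small orbits**. -/
theorem exists_small_orbit {X : Type*} [Group X] [Finite X] {s : ℕ} [hs : Fact s.Prime] (S : Subgroup X)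
    (hS : IsPGroup s S) (E : Subgroup X) (hE : S ≤ normalizer (E : Set X)) {e : ℕ}
    (he : ¬ s ^ (e + 1) ∣ Nat.card E - 1) :
    ∃ y ∈ E, y ≠ 1 ∧ (centralizer ({y} : Set X)).relIndex S ∣ s ^ e := by
  classical
  have hconj : ∀ g ∈ S, ∀ x ∈ E, g * x * g⁻¹ ∈ E := fun g hg x hx =>
    (mem_normalizer_iff.mp (hE hg) x).mp hx
  let Ω := {x : X // x ∈ E ∧ x ≠ 1}
  let act : MulAction S Ω :=
    { smul := fun g x => ⟨(g : X) * x.1 * (g : X)⁻¹, hconj g g.2 _ x.2.1, by
        rw [Ne, conj_eq_one_iff]; exact x.2.2⟩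
      one_smul := by
        rintro ⟨x, hx⟩
        apply Subtype.ext
        show ((1 : S) : X) * x * ((1 : S) : X)⁻¹ = x
        simp
      mul_smul := by
        rintro a b ⟨x, hx⟩
        apply Subtype.ext
        show ((a * b : S) : X) * x * ((a * b : S) : X)⁻¹ = a * (b * x * (b : X)⁻¹) * (a : X)⁻¹
        simp [mul_assoc] }
  have hstab : ∀ x : Ω, MulAction.stabilizer S x = (centralizer ({x.1} : Set X)).subgroupOf S := by
    intro x
    ext g
    rw [MulAction.mem_stabilizer_iff, mem_subgroupOf, mem_centralizer_singleton_iff]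
    constructor
    · intro h
      have h1 : (g : X) * x.1 * (g : X)⁻¹ = x.1 := congrArg Subtype.val h
      rwa [mul_inv_eq_iff_eq_mul] at h1
    · intro h
      apply Subtype.ext
      change (g : X) * x.1 * (g : X)⁻¹ = x.1
      rwa [mul_inv_eq_iff_eq_mul]
  by_contra hcon
  push Not at hcon
  apply he
  have hcard : Nat.card Ω = Nat.card E - 1 := by
    have e1 : Ω ≃ {x : E // x ≠ 1} :=
      { toFun := fun x => ⟨⟨x.1, x.2.1⟩, fun h => x.2.2 (congrArg Subtype.val h)⟩
        invFun := fun x => ⟨x.1.1, x.1.2, fun h => x.2 (Subtype.ext h)⟩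
        left_inv := fun x => rfl
        right_inv := fun x => rfl }
    rw [Nat.card_congr e1]
    cases nonempty_fintype E
    rw [Nat.card_eq_fintype_card, Nat.card_eq_fintype_card]
    have h5 := Fintype.card_subtype_compl (fun x : E => x = 1)
    rw [Fintype.card_subtype_eq] at h5
    convert h5 using 1
  rw [← hcard, Nat.card_congr (MulAction.selfEquivSigmaOrbits' S Ω)]
  cases nonempty_fintype (MulAction.orbitRel.Quotient S Ω)
  rw [Nat.card_sigma]
  refine Finset.dvd_sum fun ω _ => ?_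
  obtain ⟨x, rfl⟩ := Quotient.exists_rep ω
  have h1 : Nat.card (MulAction.orbitRel.Quotient.orbit (Quotient.mk (MulAction.orbitRel S Ω) x)) =
      (centralizer ({x.1} : Set X)).relIndex S := by
    have h2 : MulAction.orbitRel.Quotient.orbit (Quotient.mk (MulAction.orbitRel S Ω) x) = MulAction.orbit S x := by
      exact MulAction.orbitRel.Quotient.orbit_mk x
    rw [h2, Nat.card_congr (MulAction.orbitEquivQuotientStabilizer S x)]
    rw [relIndex, ← hstab]
    rfl
  rw [h1]
  have h3 := hcon x.1 x.2.1 x.2.2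
  obtain ⟨n, hn⟩ := IsPGroup.iff_card.mp hS
  have h4 : (centralizer ({x.1} : Set X)).relIndex S ∣ s ^ n := by
    rw [← hn]; exact index_dvd_card _
  obtain ⟨j, -, hj⟩ := (Nat.dvd_prime_pow hs.out).mp h4
  rw [hj] at h3 ⊢
  refine pow_dvd_pow _ ?_
  by_contra hlt
  push Not at hlt
  exact h3 (pow_dvd_pow _ (by omega))

/-- **`O_{s'}(H) = 1` from centraliser orders**: `e` with `s^(e+1) ∤ r^k - 1` for `1 ≤ k ≤ v_r(|G|)` and
`s^(a-e) ∤ |C_G(y)|` for all `y` of order `r`. -/
theorem core_eq_bot_of_cent {G : Type*} [Group G] [Finite G] {π : Set ℕ} (h2 : 2 ∉ π) {s a : ℕ} (hs : s.Prime)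
    (hsπ : s ∈ π) (ha : s ^ a ∣ Nat.card G)
    (h : ∀ r, r.Prime → r ∈ π → r ≠ s → r ∣ Nat.card G → ∃ e : ℕ,
      (∀ k, 1 ≤ k → r ^ k ∣ Nat.card G → ¬ s ^ (e + 1) ∣ r ^ k - 1) ∧
      ∀ y : G, orderOf y = r → ¬ s ^ (a - e) ∣ Nat.card (centralizer ({y} : Set G)))
    {H : Subgroup G} (hH : IsPiHall π H) : pPrimeCore s H = ⊥ := by
  have hs' : Fact s.Prime := ⟨hs⟩
  by_contra hcore
  obtain ⟨r, k, hr, hrs, hk, E, hE, hEc, hEr, -⟩ :=
    exists_elem_normal (solvable_of_pi h2 hH.1) hs hcore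
  have hr' : Fact r.Prime := ⟨hr⟩
  have hrE : r ∣ Nat.card E := by rw [hEc]; exact dvd_pow_self r (by omega)
  have hrH : r ∣ Nat.card H := hrE.trans (card_subgroup_dvd_card E)
  have hrG : r ∣ Nat.card G := hrH.trans (card_subgroup_dvd_card H)
  obtain ⟨e, he1, he2⟩ := h r hr (hH.1 r hr hrH) hrs hrG
  obtain ⟨S⟩ : Nonempty (Sylow s H) := inferInstance
  have h3 : ¬ s ^ (e + 1) ∣ Nat.card E - 1 := by
    rw [hEc]
    refine he1 k hk ?_
    rw [← hEc]
    exact (card_subgroup_dvd_card E).trans (card_subgroup_dvd_card H)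
  obtain ⟨y, hyE, hy1, hy⟩ := exists_small_orbit (S : Subgroup H) S.2 E (by
    have : normalizer (E : Set H) = ⊤ := normalizer_eq_top_iff.mpr hE
    rw [this]; exact le_top) h3
  have hyo : orderOf (y : G) = r := by
    rw [Subgroup.orderOf_coe]
    exact orderOf_eq_prime (hEr y hyE) hy1
  apply he2 (y : G) hyo
  -- the order of the Sylow subgroup
  have hSc : s ^ a ∣ Nat.card (S : Subgroup H) := by
    have h1 : s ^ a ∣ Nat.card H := by
      have h5 := H.card_mul_index
      rw [← h5] at ha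
      refine (Nat.Coprime.dvd_of_dvd_mul_right ?_ ha)
      exact Nat.Coprime.pow_left _ ((Nat.Prime.coprime_iff_not_dvd hs).mpr (hH.2 s hs hsπ))
    exact S.pow_dvd_card_of_pow_dvd_card h1
  have h6 : Nat.card (((centralizer ({y} : Set H)).subgroupOf (S : Subgroup H))) *
      (centralizer ({y} : Set H)).relIndex (S : Subgroup H) = Nat.card (S : Subgroup H) :=
    card_mul_index _
  have h7 : s ^ (a - e) ∣ Nat.card ((centralizer ({y} : Set H)).subgroupOf (S : Subgroup H)) := by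
    obtain ⟨n, hn⟩ := IsPGroup.iff_card.mp (S.2.to_subgroup ((centralizer ({y} : Set H)).subgroupOf (S : Subgroup H)))
    obtain ⟨j, hj1, hj⟩ := (Nat.dvd_prime_pow hs).mp hy
    rw [hn, hj, ← pow_add] at h6
    rw [← h6, Nat.pow_dvd_pow_iff_le_right hs.one_lt] at hSc
    rw [hn]
    exact pow_dvd_pow _ (by omega)
  refine h7.trans ?_
  have h8 : Nat.card ((centralizer ({y} : Set H)).subgroupOf (S : Subgroup H)) ∣
      Nat.card (centralizer ({y} : Set H)) := by
    have h9 : Nat.card ((centralizer ({y} : Set H)).subgroupOf (S : Subgroup H)) =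
        Nat.card (((centralizer ({y} : Set H)).subgroupOf (S : Subgroup H)).map (S : Subgroup H).subtype) :=
      (card_map_of_injective (S : Subgroup H).subtype_injective).symm
    rw [h9]
    refine card_dvd_of_le ?_
    rintro _ ⟨x, hx, rfl⟩
    exact hx
  refine h8.trans ?_
  have h10 : Nat.card (centralizer ({y} : Set H)) = Nat.card ((centralizer ({y} : Set H)).map H.subtype) :=
    (card_map_of_injective H.subtype_injective).symm
  rw [h10]
  refine card_dvd_of_le ?_
  rintro _ ⟨x, hx, rfl⟩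
  rw [mem_centralizer_singleton_iff]
  have := mem_centralizer_singleton_iff.mp hx
  exact congrArg Subtype.val this

/-- Normal Sylow subgroups by counting. -/
theorem ns_of_count {X : Type*} [Group X] [Finite X] {s t : ℕ} (ht : t.Prime)
    (hX : ∀ p : ℕ, p.Prime → p ∣ Nat.card X → p = s ∨ p = t)
    (h : ∀ i, 1 ≤ i → s ^ i ∣ Nat.card X → ¬ t ∣ s ^ i - 1) : NS t X := by
  have ht' : Fact t.Prime := ⟨ht⟩
  obtain ⟨T⟩ : Nonempty (Sylow t X) := inferInstance
  refine ns_of_sylow T ?_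
  have h0 : Nat.card (Sylow t X) = (normalizer ((T : Subgroup X) : Set X)).index :=
    Sylow.card_eq_index_normalizer T
  rw [← normalizer_eq_top_iff, ← index_eq_one, ← h0]
  have h1 : Nat.card (Sylow t X) ≡ 1 [MOD t] := card_sylow_modEq_one t X
  have h2 : Nat.card (Sylow t X) ∣ (T : Subgroup X).index := T.card_dvd_index
  have h3 : ¬ t ∣ (T : Subgroup X).index := T.not_dvd_index
  have h4 : ∃ i, Nat.card (Sylow t X) = s ^ i := by
    refine ⟨(Nat.card (Sylow t X)).primeFactorsList.length, ?_⟩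
    refine Nat.eq_prime_pow_of_unique_prime_dvd Nat.card_pos.ne' ?_
    intro p hp hd
    have h5 : p ∣ (T : Subgroup X).index := hd.trans h2
    rcases hX p hp (h5.trans (index_dvd_card _)) with h6 | h6
    · exact h6
    · exact absurd (h6 ▸ h5) h3
  obtain ⟨i, hi⟩ := h4
  rcases Nat.eq_zero_or_pos i with h5 | h5
  · rw [hi, h5, pow_zero]
  · exfalso
    refine h i h5 ?_ ?_
    · rw [← hi]; exact h2.trans (index_dvd_card _)
    · rw [hi] at h1
      exact (Nat.modEq_iff_dvd' (Nat.one_le_iff_ne_zero.mpr (by rw [← hi]; exact Nat.card_pos.ne'))).mp h1.symm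

theorem pairN_of_count {G : Type*} [Group G] [Finite G] {s t : ℕ} (ht : t.Prime)
    (h : ∀ i, 1 ≤ i → s ^ i ∣ Nat.card G → ¬ t ∣ s ^ i - 1) : PairN t s G := by
  intro X hX
  refine ns_of_count (s := s) ht (fun p hp hd => ?_) fun i hi hd => h i hi (hd.trans (card_subgroup_dvd_card X))
  rcases hX.1 p hp hd with h1 | h1
  · exact Or.inl h1
  · exact Or.inr h1

/-- **Sporadic engine**: `s` a dominant prime (small centralisers of the elements of prime order `r ≠ s`), the other
primes by counting, in the order given by `rk`. -/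
theorem oddC_of_dominant {G : Type u} [Group G] [Finite G] [IsSimpleGroup G] (hnc : ¬ IsMulCommutative G)
    (hind : OddInd G) {s a : ℕ} (hs : s.Prime) (hs1 : s ∣ Nat.card G) (ha : s ^ a ∣ Nat.card G)
    (hcent : ∀ r, r.Prime → r ≠ 2 → r ≠ s → r ∣ Nat.card G → ∃ e : ℕ,
      (∀ k, 1 ≤ k → r ^ k ∣ Nat.card G → ¬ s ^ (e + 1) ∣ r ^ k - 1) ∧
      ∀ y : G, orderOf y = r → ¬ s ^ (a - e) ∣ Nat.card (centralizer ({y} : Set G)))
    (rk : ℕ → ℕ) (hrk : Function.Injective rk)
    (hpairs : ∀ p q, p.Prime → q.Prime → p ≠ 2 → q ≠ 2 → p ≠ s → q ≠ s → p ∣ Nat.card G → q ∣ Nat.card G →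
      rk p < rk q → ∀ i, 1 ≤ i → p ^ i ∣ Nat.card G → ¬ q ∣ p ^ i - 1) : OddC G := by
  intro π h2 H K hH hK
  by_cases hsπ : s ∈ π
  · refine Cfsg.Agent.H165.ZJOdd.conj_of_core hnc hind h2 hs hsπ hs1 ?_ hH hK
    intro L hL
    exact core_eq_bot_of_cent h2 hs hsπ ha (fun r hr hrπ hrs hrG =>
      hcent r hr (fun h => h2 (h ▸ hrπ)) hrs hrG) hL
  · refine conj_of_pairs_rk rk hrk π h2 ?_ hH hK
    intro p q hp hq hpπ hqπ hpq hpd hqd
    exact pairN_of_count hq (hpairs p q hp hq (fun h => h2 (h ▸ hpπ)) (fun h => h2 (h ▸ hqπ))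
      (fun h => hsπ (h ▸ hpπ)) (fun h => hsπ (h ▸ hqπ)) hpd hqd hpq)

end Cfsg.Agent.H165.ZJCrit
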