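import Cfsg.Agent.H560.HallKey
import Cfsg.Agent.S0653
import Cfsg.Agent.Lib.HallHigman
import Cfsg.Agent.PLocal.StableOfNotInvolves
import Cfsg.Agent.PLocal.ThompsonJA

/-!
# Glauberman's `Z(J(S))` in groups of odd order and Hall subgroups (helper165)

* `zj_char_of_odd` : `|X|` odd, `O_{s'}(X) = 1` : `Z(J(S))` is characteristic in `X`;
* `conj_of_core` : if `O_{s'}(H) = 1` for every Hall `π`-subgroup `H` of the simple group `G`
  then the Hall `π`-subgroups are conjugate (inductive form).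
-/

set_option autoImplicit false

namespace Cfsg.Agent.H165.ZJOdd

open Subgroup Cfsg Cfsg.Agent.H988.CPi Cfsg.Agent.H553.OddHall Cfsg.Agent.H560.HallKey
open scoped Pointwise

universe u

theorem even_sl2 {p : ℕ} [hp : Fact p.Prime] (hp2 : p ≠ 2) :
    2 ∣ Nat.card (Matrix.SpecialLinearGroup (Fin 2) (ZMod p)) := by
  have h1 : (-1 : Matrix.SpecialLinearGroup (Fin 2) (ZMod p)) ^ 2 = 1 := by simp
  have h2 : (-1 : Matrix.SpecialLinearGroup (Fin 2) (ZMod p)) ≠ 1 := by
    intro h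
    have h3 := congrArg (fun M : Matrix.SpecialLinearGroup (Fin 2) (ZMod p) => (M : Matrix (Fin 2) (Fin 2) (ZMod p)) 0 0) h
    simp at h3
    have h5 : (2 : ZMod p) = 0 := by
      have : (1 : ZMod p) + 1 = 0 := by
        nth_rewrite 1 [← h3]; ring
      rw [← one_add_one_eq_two]; exact this
    have h6 : (2 : ℕ) ∣ 2 := dvd_rfl
    have h7 : p ∣ 2 := by
      rw [← ZMod.natCast_eq_zero_iff]; exact_mod_cast h5
    exact hp2 ((Nat.prime_dvd_prime_iff_eq hp.out Nat.prime_two).mp h7)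
  have h3 : orderOf (-1 : Matrix.SpecialLinearGroup (Fin 2) (ZMod p)) = 2 :=
    orderOf_eq_prime h1 h2
  calc 2 = orderOf (-1 : Matrix.SpecialLinearGroup (Fin 2) (ZMod p)) := h3.symm
    _ ∣ _ := orderOf_dvd_natCard _

/-- **Glauberman's theorem for groups of odd order.** -/
theorem zj_char_of_odd {X : Type u} [Group X] [Finite X] (hodd : ¬ 2 ∣ Nat.card X) {s : ℕ} [hs : Fact s.Prime]
    (hs2 : s ≠ 2) (hcore : pPrimeCore s X = ⊥) (S : Sylow s X) :
    (centerThompsonAOf (S : Subgroup X)).Characteristic := by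
  have hsol : Group.IsSolvable X := by
    apply Cfsg.Agent.S0205.result
    rw [← Nat.not_even_iff_odd, even_iff_two_dvd]
    exact hodd
  refine Cfsg.Agent.S0653.result hs2
    (Cfsg.Agent.Lib.HallHigman.centralizer_pCore_le_of_solvable s hcore) ?_ S
  intro P _ hP
  refine Cfsg.Agent.PLocal.StableOfNotInvolves.isPStableOn_of_not_involves hs2 ?_ P hP
  rintro ⟨K, f, hf⟩
  exact hodd ((even_sl2 hs2).trans ((card_dvd_of_surjective f hf).trans (card_subgroup_dvd_card K)))

theorem not_two_dvd_hall {G : Type*} [Group G] [Finite G] {π : Set ℕ} (h2 : 2 ∉ π) {H : Subgroup G}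
    (hH : IsPiHall π H) : ¬ 2 ∣ Nat.card H := fun h => h2 (hH.1 2 Nat.prime_two h)

/-- A Hall subgroup `H` over the Sylow subgroup `S` with `O_{s'}(H) = 1` normalises `Z(J(S))`. -/
theorem le_normalizer_zj {G : Type u} [Group G] [Finite G] {s : ℕ} [hs : Fact s.Prime] (hs2 : s ≠ 2)
    (S : Sylow s G) {H : Subgroup G} (hodd : ¬ 2 ∣ Nat.card H) (hSH : (S : Subgroup G) ≤ H)
    (hcore : pPrimeCore s H = ⊥) : H ≤ normalizer (centerThompsonAOf (S : Subgroup G) : Set G) := by
  have h1 := zj_char_of_odd hodd hs2 hcore (S.subtype hSH)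
  have h2 : (centerThompsonAOf ((S.subtype hSH : Sylow s H) : Subgroup H)).Normal := inferInstance
  have h3 : (centerThompsonAOf ((S.subtype hSH : Sylow s H) : Subgroup H)).map H.subtype =
      centerThompsonAOf (S : Subgroup G) := by
    rw [Cfsg.Agent.PLocal.ThompsonJA.map_centerThompsonAOf _ H.subtype_injective]
    congr 1
    change ((S : Subgroup G).subgroupOf H).map H.subtype = S
    rw [subgroupOf_map_subtype, inf_eq_left.mpr hSH]
  rw [← h3]
  intro h hh
  rw [mem_normalizer_iff]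
  intro x
  constructor
  · rintro ⟨y, hy, rfl⟩
    exact ⟨⟨h, hh⟩ * y * ⟨h, hh⟩⁻¹, h2.conj_mem y hy _, rfl⟩
  · rintro ⟨y, hy, hyx⟩
    refine ⟨⟨h, hh⟩⁻¹ * y * ⟨h, hh⟩, ?_, ?_⟩
    · have := h2.conj_mem y hy (⟨h, hh⟩⁻¹)
      simpa using this
    · change h⁻¹ * (y : G) * h = x
      have h4 : (y : G) = h * x * h⁻¹ := hyx
      rw [h4]; group

/-- **Hall subgroups with trivial `O_{s'}`** are conjugate (inductive form). -/
theorem conj_of_core {G : Type u} [Group G] [Finite G] [IsSimpleGroup G] (hnc : ¬ IsMulCommutative G)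
    (hind : OddInd G) {π : Set ℕ} (h2 : 2 ∉ π) {s : ℕ} (hs : s.Prime) (hsπ : s ∈ π) (hsG : s ∣ Nat.card G)
    (hcore : ∀ H : Subgroup G, IsPiHall π H → pPrimeCore s H = ⊥)
    {H K : Subgroup G} (hH : IsPiHall π H) (hK : IsPiHall π K) : ∃ g : G, K = MulAut.conj g • H := by
  have hs' : Fact s.Prime := ⟨hs⟩
  have hs2 : s ≠ 2 := fun h => h2 (h ▸ hsπ)
  obtain ⟨S⟩ : Nonempty (Sylow s G) := inferInstance
  have hS1 : (S : Subgroup G) ≠ ⊥ := by
    intro hb
    have h1 := S.card_eq_multiplicity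
    rw [hb, card_bot] at h1
    have h3 : (Nat.card G).factorization s = 0 := by
      by_contra hne
      exact absurd h1.symm (Nat.one_lt_pow hne hs.one_lt).ne'
    have := hs.factorization_pos_of_dvd Nat.card_pos.ne' hsG
    omega
  refine conj_of_common hind h2 hsπ S (centerThompsonAOf (S : Subgroup G)) ?_ ?_ ?_ hH hK
  · exact Cfsg.Agent.PLocal.ThompsonJA.centerThompsonAOf_ne_bot (p := s) _ S.2 hS1
  · intro hb
    refine not_pgroup_of_simple hnc (t := s) ?_
    rw [← hb]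
    exact S.2.to_le (Cfsg.Agent.PLocal.ThompsonJA.centerThompsonAOf_le _)
  · intro L hL hSL
    exact le_normalizer_zj hs2 S (not_two_dvd_hall h2 hL) hSL (hcore L hL)

end Cfsg.Agent.H165.ZJOdd
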